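import Mathlib
import Cfsg.Agent.T3.LocB1

/-!
Elements `a` of order three whose centraliser has a normal extraspecial subgroup of order `3^7` with three quaternion
factors: definitions (see `stubs/Cfsg/Agent/T3/FPLAN.md`).
-/

set_option autoImplicit false

namespace Cfsg.Agent.T3

open Cfsg.Agent.Spor Cfsg.Agent.Rec Cfsg.Agent.Inv.Fz Cfsg.Agent.GT.PG Subgroup

universe u

variable {G : Type u} [Group G]

/-- Coordinates on `Q / Z`: three planes. -/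
abbrev W6 : Type := Fin 3 → Fin 2 → ZMod 3

/-- The symplectic form. -/
def sf (w w' : W6) : ZMod 3 := ∑ i, (w i 0 * w' i 1 - w i 1 * w' i 0)

/-- The map `SL₂(3) → ℤ/3` with kernel `Q₈`. -/
def chi (m : LB.S3) : ZMod 3 := if m ^ 4 = 1 then 0 else if (m * LB.tv 2) ^ 4 = 1 then 1 else 2

theorem chi_mul : ∀ m n : LB.S3, chi (m * n) = chi m + chi n := by decide +kernel
theorem chi_tv : ∀ k, chi (LB.tv k) = k := by decide +kernel
theorem chi_eq_zero : ∀ m : LB.S3, chi m = 0 ↔ m ^ 4 = 1 := by decide +kernel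

/-- `Q3 a` is extraspecial of order `3^7`; `C(a)` acts on `Q3 a / ⟨a⟩` through `SL₂(3) ≀ S₃` (`pm`, `mt`) with kernel `Q3 a`;
`R` is a complement of order `2^7` in the preimage of `Q₈³`. -/
structure F3 (a : G) where
  vec : G → W6
  pm : G → Equiv.Perm (Fin 3)
  mt : G → Fin 3 → LB.S3
  R : Subgroup G
  r : Fin 3 → G
  esz : ESZ 3 (Q3 a) a
  card : Nat.card (Q3 a) = 3 ^ 7
  cube : ∀ q ∈ Q3 a, q ^ 3 = 1
  cen : centralizer (Q3 a : Set G) ≤ zpowers a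
  vec_mul : ∀ p ∈ Q3 a, ∀ q ∈ Q3 a, vec (p * q) = vec p + vec q
  vec_eq_zero : ∀ q ∈ Q3 a, vec q = 0 ↔ q ∈ zpowers a
  vec_surj : ∀ w, ∃ q ∈ Q3 a, vec q = w
  comm : ∀ p ∈ Q3 a, ∀ q ∈ Q3 a, p * q * p⁻¹ * q⁻¹ = a ^ (sf (vec p) (vec q)).val
  act : ∀ g, g * a = a * g → ∀ q ∈ Q3 a, ∀ i, vec (g * q * g⁻¹) (pm g i) = (mt g i).1.mulVec (vec q i)
  pm_mul : ∀ g h, g * a = a * g → h * a = a * h → pm (g * h) = pm g * pm h
  mt_mul : ∀ g h, g * a = a * g → h * a = a * h → ∀ i, mt (g * h) i = mt g (pm h i) * mt h i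
  ker : ∀ g, g * a = a * g → (g ∈ Q3 a ↔ pm g = 1 ∧ ∀ i, mt g i = 1)
  R_le : R ≤ centralizer {a}
  cardR : Nat.card R = 128
  two : ∀ g, g * a = a * g → (g ∈ Q3 a ⊔ R ↔ pm g = 1 ∧ ∀ i, mt g i ^ 4 = 1)
  r_mem : ∀ i, r i ∈ R
  r2 : ∀ i, r i * r i = 1
  r_mt : ∀ i j, mt (r i) j = if j = i then -1 else 1

/-- The `i`-th factor (extraspecial of order 27). -/
def F3.P {a : G} (F : F3 a) (i : Fin 3) : Subgroup G where
  carrier := {q | q ∈ Q3 a ∧ ∀ j, j ≠ i → F.vec q j = 0}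
  one_mem' := ⟨one_mem _, fun j _ => by rw [(F.vec_eq_zero 1 (one_mem _)).2 (one_mem _)]; rfl⟩
  mul_mem' := fun {p q} hp hq => ⟨mul_mem hp.1 hq.1, fun j hj => by
    rw [F.vec_mul p hp.1 q hq.1, Pi.add_apply, hp.2 j hj, hq.2 j hj, add_zero]⟩
  inv_mem' := fun {p} hp => ⟨inv_mem hp.1, fun j hj => by
    have h := congrFun (F.vec_mul p hp.1 p⁻¹ (inv_mem hp.1)) j
    rw [mul_inv_cancel, (F.vec_eq_zero 1 (one_mem _)).2 (one_mem _), Pi.add_apply, hp.2 j hj, zero_add] at h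
    exact h.symm⟩

theorem F3.mem_P {a : G} (F : F3 a) {i : Fin 3} {q : G} : q ∈ F.P i ↔ q ∈ Q3 a ∧ ∀ j, j ≠ i → F.vec q j = 0 := Iff.rfl

/-- All generators of conjugates of `⟨a⟩` carry the structure. -/
def HF (a : G) : Prop := ∀ y, ZE a y → Nonempty (F3 y)

/-- The letters after the local analysis: `J = ⟨a, c, u₀, u₁, u₂⟩` is elementary abelian of order `3^5`. -/
structure FJ (a : G) extends F3 a where
  c : G
  t : G
  σ : G
  u : Fin 3 → G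
  v : Fin 3 → G
  hf : HF a
  σa : σ * a = a * σ
  σpm : pm σ = finRotate 3
  ca : c * a = a * c
  c3 : c ^ 3 = 1
  cpm : pm c = 1
  cr : ∀ i, c * r i = r i * c
  uP : ∀ i, u i ∈ toF3.P i
  vP : ∀ i, v i ∈ toF3.P i
  ru : ∀ i, r i * u i * (r i)⁻¹ = (u i)⁻¹
  rv : ∀ i, r i * v i * (r i)⁻¹ = (v i)⁻¹
  cu : ∀ i, c * u i = u i * c
  vu : ∀ i, v i * u i * (v i)⁻¹ = u i * a⁻¹
  vc : ∀ i, v i * c * (v i)⁻¹ = c * (u i)⁻¹ * a⁻¹
  t2 : t * t = 1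
  tr : IsConj (r 0) t
  tJ : t ∈ normalizer ((clos [a, c, u 0, u 1, u 2] : Subgroup G) : Set G)
  ta : t * a * t⁻¹ = c ∨ t * a * t⁻¹ = c⁻¹
  /-- The conjugates of `⟨a⟩` in `J` outside `Q`. -/
  ze : ∀ y ∈ clos [a, c, u 0, u 1, u 2], ZE a y → y ∈ Q3 a ∨ ∃ q ∈ Q3 a, q * y * q⁻¹ = c ∨ q * y * q⁻¹ = c⁻¹
  /-- `⟨a⟩` is weakly closed in the product of two factors. -/
  wc : ∀ y ∈ Q3 a, ZE a y → ∀ i, vec y i = 0 → y ∈ zpowers a

/-- The Thompson subgroup. -/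
abbrev FJ.J {a : G} (s : FJ a) : Subgroup G := clos [a, s.c, s.u 0, s.u 1, s.u 2]

end Cfsg.Agent.T3
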