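import Mathlib
import Cfsg.Agent.T3.FDefs

/-!
The linear model of `3^(1+6)`: coordinates, orders of subgroups, the involutions `r i`, the action of `C(a)`, changes of the coordinates.
-/

set_option autoImplicit false
set_option linter.unusedSectionVars false

namespace Cfsg.Agent.T3

open Cfsg.Agent.Spor Cfsg.Agent.Rec Cfsg.Agent.Inv.Fz Cfsg.Agent.GT.PG Subgroup

universe u

variable {G : Type u} [Group G] [Finite G]

namespace F3

variable {a : G}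

theorem b_cmul {g h : G} (hg : g * a = a * g) (hh : h * a = a * h) : g * h * a = a * (g * h) :=
  (Commute.mul_left hg hh).eq
theorem b_cinv {g : G} (hg : g * a = a * g) : g⁻¹ * a = a * g⁻¹ := (Commute.inv_left hg).eq
theorem b_ccj {g h : G} (hg : g * a = a * g) (hh : h * a = a * h) : g * h * g⁻¹ * a = a * (g * h * g⁻¹) :=
  b_cmul (b_cmul hg hh) (b_cinv hg)
theorem b_norm {g : G} (hg : g * a = a * g) : g ∈ normalizer (Q3 a : Set G) :=
  GT.le_normalizer_pCoreOf _ (mem_cen.2 hg)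
theorem b_cjQ {g q : G} (hg : g * a = a * g) (hq : q ∈ Q3 a) : g * q * g⁻¹ ∈ Q3 a :=
  (mem_normalizer_iff.1 (b_norm hg) q).1 hq
theorem b_Qc {q : G} (hq : q ∈ Q3 a) : q * a = a * q := mem_cen.1 (GT.pCoreOf_le _ hq)
theorem b_pmQ (F : F3 a) {q : G} (hq : q ∈ Q3 a) : F.pm q = 1 := ((F.ker q (b_Qc hq)).1 hq).1
theorem b_mtQ (F : F3 a) {q : G} (hq : q ∈ Q3 a) (i : Fin 3) : F.mt q i = 1 := ((F.ker q (b_Qc hq)).1 hq).2 i
theorem b_Rc (F : F3 a) {g : G} (hg : g ∈ F.R) : g * a = a * g := mem_cen.1 (F.R_le hg)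
theorem b_rc (F : F3 a) (i : Fin 3) : F.r i * a = a * F.r i := F.b_Rc (F.r_mem i)
theorem b_vz (F : F3 a) {c : G} (hc : c ∈ zpowers a) : F.vec c = 0 := (F.vec_eq_zero c (F.esz.zpowers_le hc)).2 hc
theorem b_zP (F : F3 a) (i : Fin 3) : zpowers a ≤ F.P i := fun _ hc =>
  ⟨F.esz.zpowers_le hc, fun j _ => by rw [F.b_vz hc]; rfl⟩

theorem pm_inv (F : F3 a) {g : G} (hg : g * a = a * g) : F.pm g⁻¹ = (F.pm g)⁻¹ := by
  rw [eq_inv_iff_mul_eq_one, ← F.pm_mul _ _ (b_cinv hg) hg, inv_mul_cancel, F.b_pmQ (one_mem _)]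

theorem mt_inv (F : F3 a) {g : G} (hg : g * a = a * g) (i : Fin 3) : F.mt g⁻¹ (F.pm g i) = (F.mt g i)⁻¹ := by
  rw [eq_inv_iff_mul_eq_one, ← F.mt_mul _ _ (b_cinv hg) hg, inv_mul_cancel, F.b_mtQ (one_mem _)]

theorem b_mt_mul (F : F3 a) {g h : G} (hg : g * a = a * g) (hh : h * a = a * h) (e : F.pm h = 1) (i : Fin 3) :
    F.mt (g * h) i = F.mt g i * F.mt h i := by rw [F.mt_mul g h hg hh, e]; rfl

theorem b_mt_inv (F : F3 a) {g : G} (hg : g * a = a * g) (e : F.pm g = 1) (i : Fin 3) :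
    F.mt g⁻¹ i = (F.mt g i)⁻¹ := by rw [← F.mt_inv hg, e]; rfl

theorem b_pm_cj (F : F3 a) {g h : G} (hg : g * a = a * g) (hh : h * a = a * h) (e : F.pm h = 1) :
    F.pm (g * h * g⁻¹) = 1 := by
  rw [F.pm_mul _ _ (b_cmul hg hh) (b_cinv hg), F.pm_mul _ _ hg hh, e, F.pm_inv hg, mul_one, mul_inv_cancel]

theorem b_mt_cj (F : F3 a) {g h : G} (hg : g * a = a * g) (hh : h * a = a * h) (e : F.pm h = 1) (i : Fin 3) :
    F.mt (g * h * g⁻¹) (F.pm g i) = F.mt g i * F.mt h i * (F.mt g i)⁻¹ := by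
  rw [F.mt_mul _ _ (b_cmul hg hh) (b_cinv hg), F.mt_inv hg, F.pm_inv hg, ← Equiv.Perm.mul_apply, inv_mul_cancel,
    Equiv.Perm.one_apply, F.b_mt_mul hg hh e]

theorem vec_inv (F : F3 a) {q : G} (hq : q ∈ Q3 a) : F.vec q⁻¹ = - F.vec q := by
  rw [eq_neg_iff_add_eq_zero, ← F.vec_mul _ (inv_mem hq) _ hq, inv_mul_cancel, F.b_vz (one_mem _)]

theorem vec_pow (F : F3 a) {q : G} (hq : q ∈ Q3 a) (k : ZMod 3) : F.vec (q ^ k.val) = k • F.vec q := by
  have : ∀ n : ℕ, F.vec (q ^ n) = n • F.vec q := fun n => by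
    induction n with
    | zero => rw [pow_zero, F.b_vz (one_mem _), zero_smul]
    | succ n ih => rw [pow_succ, F.vec_mul _ (pow_mem hq n) _ hq, ih, succ_nsmul]
  rw [this, ← Nat.cast_smul_eq_nsmul (ZMod 3), ZMod.natCast_zmod_val]

theorem vec_eq (F : F3 a) {p q : G} (hp : p ∈ Q3 a) (hq : q ∈ Q3 a) : F.vec p = F.vec q ↔ p * q⁻¹ ∈ zpowers a := by
  rw [← F.vec_eq_zero _ (mul_mem hp (inv_mem hq)), F.vec_mul _ hp _ (inv_mem hq), F.vec_inv hq, ← sub_eq_add_neg,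
    sub_eq_zero]

theorem commute_iff (F : F3 a) {p q : G} (hp : p ∈ Q3 a) (hq : q ∈ Q3 a) :
    p * q = q * p ↔ sf (F.vec p) (F.vec q) = 0 := by
  have h := F.comm p hp q hq
  refine ⟨fun e => pow_val_inj F.esz.orderOf_z ?_, fun e => ?_⟩
  · rw [← h, e]; simp
  · rw [e, ZMod.val_zero, pow_zero, mul_inv_eq_one, mul_inv_eq_iff_eq_mul] at h
    exact h

theorem dec (F : F3 a) {q : G} (hq : q ∈ Q3 a) : ∃ p : Fin 3 → G, (∀ i, p i ∈ F.P i) ∧ q = p 0 * p 1 * p 2 := by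
  choose p hp e using fun i => F.vec_surj (Pi.single i (F.vec q i))
  have hP : ∀ i, p i ∈ F.P i := fun i => ⟨hp i, fun j hj => by rw [e, Pi.single_eq_of_ne hj]⟩
  have h : q * (p 0 * p 1 * p 2)⁻¹ ∈ zpowers a := by
    rw [← F.vec_eq hq (mul_mem (mul_mem (hp 0) (hp 1)) (hp 2)), F.vec_mul _ (mul_mem (hp 0) (hp 1)) _ (hp 2),
      F.vec_mul _ (hp 0) _ (hp 1), e, e, e, ← Fin.sum_univ_three (fun i => Pi.single i (F.vec q i)),
      Finset.univ_sum_single]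
  refine ⟨![q * (p 0 * p 1 * p 2)⁻¹ * p 0, p 1, p 2], fun i => ?_, by simp [mul_assoc]⟩
  fin_cases i
  exacts [mul_mem (F.b_zP 0 h) (hP 0), hP 1, hP 2]

/-- The order of a subgroup of `Q` containing `a`. -/
theorem card_eq (F : F3 a) {A : Subgroup G} (hA : A ≤ Q3 a) (ha : a ∈ A) : Nat.card A = 3 * (F.vec '' A).ncard := by
  let f : A →* Multiplicative W6 := MonoidHom.mk' (fun x => Multiplicative.ofAdd (F.vec x)) fun x y => by
    rw [coe_mul, F.vec_mul _ (hA x.2) _ (hA y.2), ofAdd_add]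
  have h1 : f.ker = (zpowers a).subgroupOf A := by
    ext x
    rw [mem_subgroupOf, ← F.vec_eq_zero _ (hA x.2)]
    rfl
  have h2 : (f.range : Set (Multiplicative W6)) = Multiplicative.ofAdd '' (F.vec '' A) := by
    ext w
    constructor
    · rintro ⟨x, rfl⟩
      exact ⟨_, ⟨x, x.2, rfl⟩, rfl⟩
    · rintro ⟨_, ⟨x, hx, rfl⟩, rfl⟩
      exact ⟨⟨x, hx⟩, rfl⟩
  rw [← f.ker.card_mul_index, index_ker, h1, Nat.card_congr (subgroupOfEquivOfLe (zpowers_le.2 ha)).toEquiv,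
    F.esz.card_zpowers, ← Set.ncard_image_of_injective _ Multiplicative.ofAdd.injective, ← h2]
  rfl

theorem card_P (F : F3 a) (i : Fin 3) : Nat.card (F.P i) = 27 := by
  have h : F.vec '' (F.P i) = Set.range (fun v : Fin 2 → ZMod 3 => (Pi.single i v : W6)) := by
    ext w
    constructor
    · rintro ⟨q, hq, rfl⟩
      refine ⟨F.vec q i, funext fun j => ?_⟩
      by_cases k : j = i
      · simp only [k, Pi.single_eq_same]
      · simp only [Pi.single_eq_of_ne k, hq.2 j k]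
    · rintro ⟨v, rfl⟩
      obtain ⟨q, hq, e⟩ := F.vec_surj (Pi.single i v)
      exact ⟨q, ⟨hq, fun j hj => by rw [e, Pi.single_eq_of_ne hj]⟩, e⟩
  rw [F.card_eq (A := F.P i) (fun _ h => h.1) (F.b_zP i (mem_zpowers a)), h, Set.ncard_range_of_injective (Pi.single_injective (M := fun _ => Fin 2 → ZMod 3) i)]
  simp

theorem card_cen (F : F3 a) {q : G} (hq : q ∈ Q3 a) (hz : q ∉ zpowers a) :
    Nat.card (Q3 a ⊓ centralizer {q} : Subgroup G) = 3 ^ 6 := by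
  have h := card_mul_relIndex (inf_le_left : Q3 a ⊓ centralizer {q} ≤ Q3 a)
  rw [inf_relIndex_left, F.esz.relIndex_centralizer hq hz, F.card] at h
  omega

/-- The symplectic form as a bilinear form. -/
def b_sf : LinearMap.BilinForm (ZMod 3) W6 := LinearMap.mk₂ (ZMod 3) sf
  (fun x y z => by simp only [sf, Fin.sum_univ_three, Pi.add_apply]; ring)
  (fun c x y => by simp only [sf, Fin.sum_univ_three, Pi.smul_apply, smul_eq_mul]; ring)
  (fun x y z => by simp only [sf, Fin.sum_univ_three, Pi.add_apply]; ring)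
  (fun c x y => by simp only [sf, Fin.sum_univ_three, Pi.smul_apply, smul_eq_mul]; ring)

theorem b_sf_swap (x y : W6) : sf x y = - sf y x := by simp only [sf, Fin.sum_univ_three]; ring

theorem b_sf_refl : b_sf.IsRefl := fun x y h => by
  change sf y x = 0
  rw [b_sf_swap, show sf x y = 0 from h, neg_zero]

theorem b_sf_nd (w : W6) (h : ∀ v, sf v w = 0) : w = 0 := by
  funext i k
  have h0 := h (Pi.single i ![1, 0])
  have h1 := h (Pi.single i ![0, 1])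
  fin_cases i <;> fin_cases k <;> simp_all [sf, Fin.sum_univ_three]

/-- `|A| |C_Q(A)| = 3^8` for `a ∈ A ≤ Q`. -/
theorem card_mul_cen (F : F3 a) {A : Subgroup G} (hA : A ≤ Q3 a) (ha : a ∈ A) :
    Nat.card A * Nat.card (Q3 a ⊓ centralizer (A : Set G) : Subgroup G) = 3 ^ 8 := by
  let U : Submodule (ZMod 3) W6 :=
    { carrier := F.vec '' A
      zero_mem' := ⟨1, one_mem _, F.b_vz (one_mem _)⟩
      add_mem' := by
        rintro _ _ ⟨x, hx, rfl⟩ ⟨y, hy, rfl⟩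
        exact ⟨x * y, mul_mem hx hy, F.vec_mul x (hA hx) y (hA hy)⟩
      smul_mem' := by
        rintro c _ ⟨x, hx, rfl⟩
        exact ⟨_, pow_mem hx c.val, F.vec_pow (hA hx) c⟩ }
  have h1 : F.vec '' (Q3 a ⊓ centralizer (A : Set G) : Subgroup G) = (b_sf.orthogonal U : Set W6) := by
    ext w
    constructor
    · rintro ⟨q, hq, rfl⟩ _ ⟨x, hx, rfl⟩
      exact (F.commute_iff (hA hx) hq.1).1 (hq.2 x hx)
    · intro hw
      obtain ⟨q, hq, rfl⟩ := F.vec_surj w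
      exact ⟨q, ⟨hq, fun x hx => (F.commute_iff (hA hx) hq).2 (hw _ ⟨x, hx, rfl⟩)⟩, rfl⟩
  have h2 := LinearMap.BilinForm.finrank_add_finrank_orthogonal b_sf_refl U
  have h3 : U ⊓ b_sf.orthogonal ⊤ = ⊥ := eq_bot_iff.2 fun w hw => b_sf_nd w fun v => hw.2 v trivial
  have h4 : ∀ X : Submodule (ZMod 3) W6, (X : Set W6).ncard = 3 ^ Module.finrank (ZMod 3) X := fun X => by
    rw [← Nat.card_coe_set_eq]
    exact (Module.natCard_eq_pow_finrank (K := ZMod 3) (V := X)).trans (by rw [Nat.card_zmod])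
  rw [h3, finrank_bot, add_zero, show Module.finrank (ZMod 3) W6 = 6 by simp [Module.finrank_pi_fintype]] at h2
  rw [F.card_eq hA ha, F.card_eq inf_le_left (mem_inf.2 ⟨F.esz.z_mem, mem_centralizer_iff.2 fun x hx => b_Qc (hA hx)⟩), h1, h4,
    show F.vec '' A = (U : Set W6) from rfl, h4, mul_mul_mul_comm, ← pow_add, h2]
  norm_num

theorem card_le_of_comm (F : F3 a) {A : Subgroup G} (hA : A ≤ Q3 a) (hc : ∀ x ∈ A, ∀ y ∈ A, x * y = y * x) :
    Nat.card A ≤ 81 := by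
  have h1 : A ⊔ zpowers a ≤ Q3 a := sup_le hA F.esz.zpowers_le
  have h2 : A ≤ centralizer ((A ⊔ zpowers a : Subgroup G) : Set G) := le_centralizer_iff.1 (sup_le
    (fun x hx y hy => hc y hy x hx) (F.esz.zpowers_le_centralizer.trans (centralizer_le hA)))
  have h3 := card_le_of_le (le_inf h1 (sup_le h2 (F.esz.zpowers_le_centralizer.trans (centralizer_le h1))))
  have h4 := F.card_mul_cen h1 (mem_sup_right (mem_zpowers a))
  have h5 := card_le_of_le (le_sup_left : A ≤ A ⊔ zpowers a)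
  nlinarith

theorem pm_R (F : F3 a) {g : G} (hg : g ∈ F.R) : F.pm g = 1 ∧ ∀ i, F.mt g i ^ 4 = 1 :=
  (F.two g (F.b_Rc hg)).1 (mem_sup_right hg)

theorem R_inj (F : F3 a) {g : G} (hg : g ∈ F.R) (h : ∀ i, F.mt g i = 1) : g = 1 := by
  have h1 := F.cube g ((F.ker g (F.b_Rc hg)).2 ⟨(F.pm_R hg).1, h⟩)
  have h2 : g ^ 128 = 1 := F.cardR ▸ orderOf_dvd_iff_pow_eq_one.1 (orderOf_dvd_natCard F.R hg)
  calc g = (g ^ 3) ^ 43 * (g ^ 128)⁻¹ := by group
    _ = 1 := by rw [h1, h2]; simp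

theorem b_R_ext (F : F3 a) {g h : G} (hg : g ∈ F.R) (hh : h ∈ F.R) (e : ∀ i, F.mt g i = F.mt h i) : g = h :=
  mul_inv_eq_one.1 (F.R_inj (mul_mem hg (inv_mem hh)) fun i => by
    rw [F.b_mt_mul (F.b_Rc hg) (F.b_Rc (inv_mem hh)) (F.pm_R (inv_mem hh)).1,
      F.b_mt_inv (F.b_Rc hh) (F.pm_R hh).1, e, mul_inv_cancel])

theorem r_comm (F : F3 a) (i : Fin 3) {g : G} (hg : g ∈ F.R) : F.r i * g = g * F.r i :=
  F.b_R_ext (mul_mem (F.r_mem i) hg) (mul_mem hg (F.r_mem i)) fun j => by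
    rw [F.b_mt_mul (F.b_rc i) (F.b_Rc hg) (F.pm_R hg).1, F.b_mt_mul (F.b_Rc hg) (F.b_rc i) (F.pm_R (F.r_mem i)).1,
      F.r_mt]
    split_ifs <;> simp

theorem b_vec_r (F : F3 a) (i j : Fin 3) {q : G} (hq : q ∈ Q3 a) :
    F.vec (F.r i * q * (F.r i)⁻¹) j = if j = i then - F.vec q j else F.vec q j := by
  have h := F.act _ (F.b_rc i) q hq j
  rw [(F.pm_R (F.r_mem i)).1, F.r_mt] at h
  refine h.trans ?_
  split_ifs <;> simp [Matrix.neg_mulVec]

theorem r_P (F : F3 a) {i j : Fin 3} (h : j ≠ i) {p : G} (hp : p ∈ F.P j) : F.r i * p = p * F.r i := by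
  refine comm_of_four F.esz (by rw [show 4 = 2 + 2 from rfl, pow_add, pow_two, F.r2, mul_one]) (F.b_rc i) ?_
  rw [← F.vec_eq (b_cjQ (F.b_rc i) hp.1) hp.1]
  funext k
  rw [F.b_vec_r i k hp.1]
  split_ifs with e
  · rw [hp.2 k (e ▸ h.symm), neg_zero]
  · rfl

/-- Every coset of `⟨a⟩` in the `i`-th factor contains exactly one element inverted by `r i`. -/
theorem r_inv (F : F3 a) (i : Fin 3) {p : G} (hp : p ∈ F.P i) :
    ∃! q, q * p⁻¹ ∈ zpowers a ∧ F.r i * q * (F.r i)⁻¹ = q⁻¹ := by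
  have h : F.r i * p * (F.r i)⁻¹ * p⁻¹⁻¹ ∈ zpowers a := by
    rw [← F.vec_eq (b_cjQ (F.b_rc i) hp.1) (inv_mem hp.1), F.vec_inv hp.1]
    funext k
    rw [F.b_vec_r i k hp.1]
    split_ifs with e
    · rfl
    · rw [Pi.neg_apply, hp.2 k e, neg_zero]
  have key : ∀ c ∈ zpowers a, (F.r i * (c * p) * (F.r i)⁻¹ = (c * p)⁻¹ ↔ c = F.r i * p * (F.r i)⁻¹ * p⁻¹⁻¹) := by
    intro c hc
    have e1 := conj_z (F.b_rc i) hc
    have e2 := (F.esz.commute_of_mem_zpowers hp.1 hc).eq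
    have e3 := F.esz.pow_eq_one_of_mem_zpowers hc
    rw [show F.r i * (c * p) * (F.r i)⁻¹ = F.r i * c * (F.r i)⁻¹ * (F.r i * p * (F.r i)⁻¹ * p⁻¹⁻¹) * p⁻¹ by group, e1,
      ← e2, mul_inv_rev, mul_left_inj, ← eq_inv_mul_iff_mul_eq,
      show c⁻¹ * c⁻¹ = c by rw [← mul_one (c⁻¹ * c⁻¹), ← e3]; group, eq_comm]
  refine ⟨_ * p, ⟨by simpa using h, (key _ h).2 rfl⟩, fun q hq => ?_⟩
  rw [← (key _ hq.1).1 (by simpa using hq.2), inv_mul_cancel_right]

theorem mt_invol (F : F3 a) {t : G} (ht : t * a = a * t) (h2 : t * t ∈ Q3 a) (h : F.pm t = 1) (i : Fin 3) :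
    F.mt t i = 1 ∨ F.mt t i = -1 :=
  (by decide +kernel : ∀ m : LB.S3, m * m = 1 → m = 1 ∨ m = -1) _ (by rw [← F.b_mt_mul ht ht h, F.b_mtQ h2])

/-- An involution acting like `r i` is conjugate to it by an element of the `i`-th factor. -/
theorem conj_r (F : F3 a) (i : Fin 3) {t : G} (h2 : t * t = 1) (h : t * F.r i ∈ Q3 a) :
    ∃ q ∈ F.P i, t = q * F.r i * q⁻¹ := by
  have r1 : (F.r i)⁻¹ = F.r i := inv_eq_of_mul_eq_one_right (F.r2 i)
  have e : F.r i * (t * F.r i) * (F.r i)⁻¹ = (t * F.r i)⁻¹ := by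
    rw [mul_inv_rev, r1, inv_eq_of_mul_eq_one_right h2, mul_assoc, mul_assoc, F.r2, mul_one]
  have hP : t * F.r i ∈ F.P i := ⟨h, fun j hj => by
    have k := F.b_vec_r i j h
    rw [e, F.vec_inv h, if_neg hj] at k
    exact funext fun l => (by decide : ∀ z : ZMod 3, -z = z → z = 0) _ (congrFun k l)⟩
  have e3 := F.cube _ h
  have et : t = t * F.r i * F.r i := by rw [mul_assoc, F.r2, mul_one]
  refine ⟨_, mul_mem hP hP, et.trans ?_⟩
  generalize t * F.r i = w at e e3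
  calc w * F.r i = w ^ 3 * w * F.r i := by rw [e3, one_mul]
    _ = w * w * (w⁻¹⁻¹ * w⁻¹⁻¹) * F.r i := by simp only [pow_succ, pow_zero, one_mul, inv_inv, mul_assoc]
    _ = _ := by rw [← e]; group

/-- An involution of `C(a)` inverts two non-commuting elements of `Q`. -/
theorem exists_inv (F : F3 a) {t : G} (ht : t * a = a * t) (h2 : t * t = 1) (h1 : t ≠ 1) :
    ∃ x ∈ Q3 a, ∃ y ∈ Q3 a, x * y ≠ y * x ∧ t * x * t⁻¹ = x⁻¹ ∧ t * y * t⁻¹ = y⁻¹ := by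
  obtain ⟨x, hx, y, hy, e, h⟩ := exists_inv_pair F.esz h2 ht (b_norm ht) fun k =>
    h1 (eq_one_of_sq F.esz (F.cen k) (inv_eq_of_mul_eq_one_right h2))
  exact ⟨x, hx, y, hy, fun k => F.esz.z_ne_one (e ▸ commutatorElement_eq_one_iff_mul_comm.2 k), h⟩

theorem b_chi_one : chi 1 = 0 := by decide +kernel

theorem b_chi_cj (n m : LB.S3) : chi (n * m * n⁻¹) = chi m := by
  have := chi_mul n n⁻¹
  rw [mul_inv_cancel, b_chi_one] at this
  rw [chi_mul, chi_mul, add_right_comm, ← this, zero_add]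

theorem b_QR (F : F3 a) {k : G} (hk : k ∈ Q3 a ⊔ F.R) : k * a = a * k ∧ F.pm k = 1 ∧ ∀ i, F.mt k i ^ 4 = 1 :=
  have h : k * a = a * k := mem_cen.1 (sup_le (GT.pCoreOf_le _) F.R_le hk)
  ⟨h, (F.two k h).1 hk⟩

theorem b_QR_cj (F : F3 a) {g k : G} (hg : g * a = a * g) (hk : k ∈ Q3 a ⊔ F.R) : g * k * g⁻¹ ∈ Q3 a ⊔ F.R := by
  obtain ⟨h1, h2, h3⟩ := F.b_QR hk
  refine (F.two _ (b_ccj hg h1)).2 ⟨F.b_pm_cj hg h1 h2, fun i => ?_⟩
  obtain ⟨j, rfl⟩ := (F.pm g).surjective i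
  rw [F.b_mt_cj hg h1 h2, conj_pow, h3, mul_one, mul_inv_cancel]

/-- Some element of `Q R` acts as `n` on the `i`-th plane and trivially on the others. -/
def BA (F : F3 a) (i : Fin 3) (n : LB.S3) : Prop := ∃ k ∈ Q3 a ⊔ F.R, ∀ j, F.mt k j = if j = i then n else 1

theorem BA.mul {F : F3 a} {i : Fin 3} {n m : LB.S3} (h : F.BA i n) (h' : F.BA i m) : F.BA i (n * m) := by
  obtain ⟨k, hk, e⟩ := h
  obtain ⟨l, hl, e'⟩ := h'
  refine ⟨_, mul_mem hk hl, fun j => ?_⟩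
  rw [F.b_mt_mul (F.b_QR hk).1 (F.b_QR hl).1 (F.b_QR hl).2.1, e, e']
  split_ifs <;> simp

theorem BA.cj {F : F3 a} {i : Fin 3} {n : LB.S3} (h : F.BA i n) {g : G} (hg : g * a = a * g) :
    F.BA (F.pm g i) (F.mt g i * n * (F.mt g i)⁻¹) := by
  obtain ⟨k, hk, e⟩ := h
  refine ⟨_, F.b_QR_cj hg hk, fun j => ?_⟩
  obtain ⟨j, rfl⟩ := (F.pm g).surjective j
  rw [F.b_mt_cj hg (F.b_QR hk).1 (F.b_QR hk).2.1, e]
  by_cases h : j = i <;> simp [h]

theorem b_fix (F : F3 a) {k : G} (hk : k ∈ Q3 a ⊔ F.R) {j : Fin 3} (h : F.mt k j ^ 2 = 1) :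
    ∃ l ∈ Q3 a ⊔ F.R, F.mt l j = 1 ∧ ∀ i, i ≠ j → F.mt l i = F.mt k i := by
  rcases (by decide +kernel : ∀ m : LB.S3, m ^ 2 = 1 → m = 1 ∨ m = -1) _ h with e | e
  · exact ⟨k, hk, e, fun _ _ => rfl⟩
  have := F.b_mt_mul (F.b_QR hk).1 (F.b_rc j) (F.pm_R (F.r_mem j)).1
  exact ⟨_, mul_mem hk (mem_sup_right (F.r_mem j)), by simp [this, e, F.r_mt], fun i hi => by simp [this, F.r_mt, hi]⟩

set_option synthInstance.maxSize 2000 in
theorem b_q8a : ∀ m : LB.S3, m ^ 4 = 1 → m ^ 2 ≠ 1 → ∀ n : LB.S3, chi n ≠ 0 →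
    n * m * n⁻¹ ≠ m ∧ n * m * n⁻¹ ≠ -1 * m := by decide +kernel

theorem b_q8b : ∀ m : LB.S3, m ^ 4 = 1 → m ^ 2 ≠ 1 → ∀ n : LB.S3, n ^ 4 = 1 → n ^ 2 ≠ 1 → n ≠ m → n ≠ -1 * m →
    ∀ x : LB.S3, x ^ 4 = 1 → x = -1 * -1 ∨ x = -1 ∨ x = m ∨ x = -1 * m ∨ x = n ∨ x = -1 * n ∨ x = m * n ∨
      x = -1 * (m * n) := by decide +kernel

theorem b_full (F : F3 a) {σ y k : G} (hσ : σ * a = a * σ) (h1 : F.pm σ ≠ 1) (h3 : F.pm σ ^ 3 = 1) (hy : y * a = a * y)
    (yp : F.pm y = 1) {i : Fin 3} (ym : chi (F.mt y i) ≠ 0) (hk : k ∈ Q3 a ⊔ F.R)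
    (h : ∀ j, j ≠ i → F.mt k j ^ 2 = 1) : F.mt k i ^ 2 = 1 := by
  by_contra h2
  obtain ⟨c1, c2, c3, c4⟩ := (by decide : ∀ i : Fin 3, i + 1 ≠ i ∧ i + 2 ≠ i ∧ i + 2 ≠ i + 1 ∧
    ∀ j, j ≠ i → j ≠ i + 2 → j = i + 1) i
  obtain ⟨k1, hk1, a1, a2⟩ := F.b_fix hk (h _ c1)
  obtain ⟨k2, hk2, b1, b2⟩ := F.b_fix hk1 ((congrArg (· ^ 2) (a2 _ c3)).trans (h _ c2))
  have m0 : F.BA i (F.mt k i) := ⟨k2, hk2, fun j => by
    split_ifs with e
    · rw [e, b2 _ c2.symm, a2 _ c1.symm]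
    · by_cases e' : j = i + 2
      · rw [e', b1]
      · rw [b2 _ e', c4 j e e', a1]⟩
  have m1 := m0.cj hy
  rw [yp, Equiv.Perm.one_apply] at m1
  have m2 : F.BA i (-1) := ⟨_, mem_sup_right (F.r_mem i), F.r_mt i⟩
  have h4 := (F.b_QR hk).2.2 i
  have all : ∀ x, x ^ 4 = 1 → F.BA i x := fun x hx => by
    obtain ⟨d1, d2⟩ := b_q8a _ h4 h2 _ ym
    rcases b_q8b _ h4 h2 _ (by rw [conj_pow, h4, mul_one, mul_inv_cancel])
      (by rwa [conj_pow, Ne, conj_eq_one_iff]) d1 d2 x hx with e | e | e | e | e | e | e | e <;> rw [e]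
    exacts [m2.mul m2, m2, m0, m2.mul m0, m1, m2.mul m1, m0.mul m1, m2.mul (m0.mul m1)]
  have step : ∀ j, (∀ x, x ^ 4 = 1 → F.BA j x) → ∀ x, x ^ 4 = 1 → F.BA (F.pm σ j) x := fun j hj x hx => by
    simpa [mul_assoc] using (hj ((F.mt σ j)⁻¹ * x * (F.mt σ j)⁻¹⁻¹)
      (by rw [conj_pow, hx, mul_one, mul_inv_cancel])).cj hσ
  have all' : ∀ j x, x ^ 4 = 1 → F.BA j x := fun j => by
    rcases (by decide : ∀ π : Equiv.Perm (Fin 3), π ≠ 1 → π ^ 3 = 1 → ∀ i j, j = i ∨ j = π i ∨ j = π (π i))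
      _ h1 h3 i j with rfl | rfl | rfl
    exacts [all, step _ all, step _ (step _ all)]
  have hs : Function.Surjective fun (ρ : F.R) (j : Fin 3) => (⟨F.mt ρ j, (F.pm_R ρ.2).2 j⟩ : {x : LB.S3 // x ^ 4 = 1}) := by
    intro m
    choose l hl e using fun j => all' j _ (m j).2
    obtain ⟨q, hq, ρ, hρ, e'⟩ := mem_sup_of_le_normalizer (fun _ h => b_norm (F.b_Rc h)) |>.1
      (mul_mem (mul_mem (hl 0) (hl 1)) (hl 2))
    refine ⟨⟨ρ, hρ⟩, funext fun j => Subtype.ext ?_⟩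
    have t := F.b_mt_mul (b_Qc hq) (F.b_Rc hρ) (F.pm_R hρ).1 j
    rw [e', F.b_mtQ hq, one_mul, F.b_mt_mul (F.b_QR (mul_mem (hl 0) (hl 1))).1 (F.b_QR (hl 2)).1 (F.b_QR (hl 2)).2.1,
      F.b_mt_mul (F.b_QR (hl 0)).1 (F.b_QR (hl 1)).1 (F.b_QR (hl 1)).2.1, e, e, e] at t
    refine t.symm.trans ?_
    fin_cases j <;> simp
  have := Nat.card_le_card_of_surjective _ hs
  rw [F.cardR, Nat.card_fun, Nat.card_eq_fintype_card, Fintype.card_subtype, LB.s_card] at this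
  simp at this

/-- The vector of the values of `chi` at an element fixing the three planes. -/
def BC (F : F3 a) (s : Fin 3 → ZMod 3) : Prop := ∃ y, y * a = a * y ∧ F.pm y = 1 ∧ ∀ i, chi (F.mt y i) = s i

theorem BC.add {F : F3 a} {s t : Fin 3 → ZMod 3} (h : F.BC s) (h' : F.BC t) : F.BC (s + t) := by
  obtain ⟨y, h1, h2, h3⟩ := h
  obtain ⟨z, k1, k2, k3⟩ := h'
  exact ⟨y * z, b_cmul h1 k1, by rw [F.pm_mul _ _ h1 k1, h2, k2, mul_one],
    fun i => by rw [F.b_mt_mul h1 k1 k2, chi_mul, h3, k3, Pi.add_apply]⟩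

theorem BC.smul {F : F3 a} {s : Fin 3 → ZMod 3} (h : F.BC s) (c : ZMod 3) : F.BC (c • s) := by
  rcases (by decide : ∀ c : ZMod 3, c = 1 ∨ c = 1 + 1 ∨ c = 1 + 1 + 1) c with rfl | rfl | rfl <;>
    simp only [add_smul, one_smul]
  exacts [h, h.add h, (h.add h).add h]

theorem BC.shift {F : F3 a} {s : Fin 3 → ZMod 3} (h : F.BC s) {g : G} (hg : g * a = a * g) :
    F.BC fun i => s ((F.pm g)⁻¹ i) := by
  obtain ⟨y, h1, h2, h3⟩ := h
  refine ⟨_, b_ccj hg h1, F.b_pm_cj hg h1 h2, fun i => ?_⟩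
  obtain ⟨j, rfl⟩ := (F.pm g).surjective i
  rw [F.b_mt_cj hg h1 h2, b_chi_cj, h3]
  simp

set_option synthInstance.maxSize 2000 in
set_option synthInstance.maxHeartbeats 200000 in
theorem b_span : ∀ π : Equiv.Perm (Fin 3), π ≠ 1 → π ^ 3 = 1 → ∀ s : Fin 3 → ZMod 3, (∃ i j, s i ≠ s j) → ∀ i,
    ∃ b c d : ZMod 3, ∀ j, b * s j + c * s (π⁻¹ j) + d * s (π⁻¹ (π⁻¹ j)) = 0 ↔ j = i := by decide +kernel

theorem b_tri : ∀ m : LB.S3, m ^ 4 = 1 → ∀ n : LB.S3,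
    ((m * (n * m * n⁻¹) * (n * (n * m * n⁻¹) * n⁻¹)) ^ 2 = 1 ↔ m ^ 2 = 1 ∨ chi n ≠ 0) := by decide +kernel

theorem chi_eq (F : F3 a) {σ g : G} (hσ : σ * a = a * σ) (h1 : F.pm σ ≠ 1) (h3 : F.pm σ ^ 3 = 1) (hg : g * a = a * g)
    (h : F.pm g = 1) (i j : Fin 3) : chi (F.mt g i) = chi (F.mt g j) := by
  by_contra hne
  have c0 : F.BC fun i => chi (F.mt g i) := ⟨g, hg, h, fun _ => rfl⟩
  have key : ∀ l, ∃ y, y * a = a * y ∧ F.pm y = 1 ∧ ∀ j, chi (F.mt y j) = 0 ↔ j = l := fun l => by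
    obtain ⟨b, c, d, e⟩ := b_span _ h1 h3 (fun i => chi (F.mt g i)) ⟨i, j, hne⟩ l
    obtain ⟨y, y1, y2, y3⟩ := ((c0.smul b).add ((c0.shift hσ).smul c)).add (((c0.shift hσ).shift hσ).smul d)
    exact ⟨y, y1, y2, fun j => by rw [y3]; exact e j⟩
  obtain ⟨ρ, hρ, l, hl⟩ : ∃ ρ ∈ F.R, ∃ l, F.mt ρ l ^ 2 ≠ 1 := by
    by_contra! k
    have := Nat.card_le_card_of_injective
      (fun (ρ : F.R) (j : Fin 3) => (⟨F.mt ρ j, k ρ ρ.2 j⟩ : {x : LB.S3 // x ^ 2 = 1}))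
      fun x y e => Subtype.ext (F.b_R_ext x.2 y.2 fun j => congrArg Subtype.val (congrFun e j))
    rw [F.cardR, Nat.card_fun, Nat.card_eq_fintype_card, Fintype.card_subtype,
      (by decide +kernel : (Finset.univ.filter fun m : LB.S3 => m ^ 2 = 1).card = 2)] at this
    simp at this
  obtain ⟨y, y1, y2, y3⟩ := key l
  obtain ⟨y', z1, z2, z3⟩ := key (l + 1)
  have r0 : ρ ∈ Q3 a ⊔ F.R := mem_sup_right hρ
  have r1 := F.b_QR_cj y1 r0
  have r2 := F.b_QR_cj y1 r1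
  have cj : ∀ k ∈ Q3 a ⊔ F.R, ∀ j, F.mt (y * k * y⁻¹) j = F.mt y j * F.mt k j * (F.mt y j)⁻¹ := fun k hk j => by
    rw [← F.b_mt_cj y1 (F.b_QR hk).1 (F.b_QR hk).2.1, y2, Equiv.Perm.one_apply]
  have e : ∀ j, F.mt (ρ * (y * ρ * y⁻¹) * (y * (y * ρ * y⁻¹) * y⁻¹)) j ^ 2 = 1 ↔
      F.mt ρ j ^ 2 = 1 ∨ chi (F.mt y j) ≠ 0 := fun j => by
    rw [F.b_mt_mul (F.b_QR (mul_mem r0 r1)).1 (F.b_QR r2).1 (F.b_QR r2).2.1,
      F.b_mt_mul (F.b_QR r0).1 (F.b_QR r1).1 (F.b_QR r1).2.1, cj _ r1, cj _ r0]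
    exact b_tri _ ((F.pm_R hρ).2 j) _
  exact ((e l).1 (F.b_full hσ h1 h3 z1 z2 (fun k => (by decide : ∀ l : Fin 3, l ≠ l + 1) l ((z3 l).1 k))
    (mul_mem (mul_mem r0 r1) r2) fun j hj => (e j).2 (.inr fun k => hj ((y3 j).1 k)))).elim hl fun k => k ((y3 l).2 rfl)

/-- `R` meets the quaternion factors only in their centres. -/
theorem W_sep (F : F3 a) {σ c k : G} (hσ : σ * a = a * σ) (h1 : F.pm σ ≠ 1) (h3 : F.pm σ ^ 3 = 1) (hc : c * a = a * c)
    (cp : F.pm c = 1) (cm : chi (F.mt c 0) ≠ 0) (hk : k ∈ Q3 a ⊔ F.R) (i : Fin 3) (h : ∀ j, j ≠ i → F.mt k j ^ 2 = 1) :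
    F.mt k i ^ 2 = 1 :=
  F.b_full hσ h1 h3 hc cp (F.chi_eq hσ h1 h3 hc cp 0 i ▸ cm) hk h

/-- The permutation action of a subgroup of `C(a)` on the three planes. -/
def b_ph (F : F3 a) {T : Subgroup G} (hT : T ≤ centralizer {a}) : T →* Equiv.Perm (Fin 3) :=
  MonoidHom.mk' (fun g => F.pm g) fun g h => F.pm_mul _ _ (mem_cen.1 (hT g.2)) (mem_cen.1 (hT h.2))

/-- The values of `chi` on the kernel. -/
def b_ch (F : F3 a) {T : Subgroup G} (hT : T ≤ centralizer {a}) :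
    (F.b_ph hT).ker →* Multiplicative (Fin 3 → ZMod 3) :=
  MonoidHom.mk' (fun g => Multiplicative.ofAdd fun i => chi (F.mt g i)) fun g h => by
    rw [← ofAdd_add]
    exact congrArg _ (funext fun i => by
      rw [coe_mul, coe_mul, F.b_mt_mul (mem_cen.1 (hT g.1.2)) (mem_cen.1 (hT h.1.2)) h.2, chi_mul, Pi.add_apply])

theorem b_mt_one (F : F3 a) {T : Subgroup G} (hT : T ≤ centralizer {a}) (h3 : IsPGroup 3 T) {g : G} (hg : g ∈ T)
    (e : F.pm g = 1) {i : Fin 3} (h : chi (F.mt g i) = 0) : F.mt g i = 1 := by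
  let f : (F.b_ph hT).ker →* LB.S3 := MonoidHom.mk' (fun g => F.mt g i) fun g h =>
    F.b_mt_mul (mem_cen.1 (hT g.1.2)) (mem_cen.1 (hT h.1.2)) h.2 i
  have h4 := LB.range_cube (h3.to_subgroup _) f (by rw [Nat.card_eq_fintype_card]; decide +kernel) ⟨⟨g, hg⟩, e⟩
  have h5 := (chi_eq_zero _).1 h
  rwa [pow_succ, show F.mt g i ^ 3 = 1 from h4, one_mul] at h5

theorem b_idx (F : F3 a) {T : Subgroup G} (hT : T ≤ centralizer {a}) (h3 : IsPGroup 3 T) :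
    (Q3 a).relIndex T = Nat.card (F.b_ch hT).range * Nat.card (F.b_ph hT).range := by
  have h1 : (Q3 a).subgroupOf T ≤ (F.b_ph hT).ker := fun g hg => F.b_pmQ hg
  have h2 : ((Q3 a).subgroupOf T).subgroupOf (F.b_ph hT).ker = (F.b_ch hT).ker := by
    ext g
    refine (F.ker g (mem_cen.1 (hT g.1.2))).trans ⟨fun h => ?_, fun h => ⟨g.2, fun i => ?_⟩⟩
    · exact congrArg Multiplicative.ofAdd (funext fun i => by rw [h.2, b_chi_one]; rfl)
    · exact F.b_mt_one hT h3 g.1.2 g.2 (congrFun (Multiplicative.ofAdd.injective h) i)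
  rw [relIndex, ← relIndex_mul_index h1, relIndex, h2, index_ker, index_ker]

theorem b_ph_dvd (F : F3 a) {T : Subgroup G} (hT : T ≤ centralizer {a}) (h3 : IsPGroup 3 T) :
    Nat.card (F.b_ph hT).range ∣ 3 := LB.card_range_dvd h3 _ (by simp [Fintype.card_perm, Nat.factorial])

theorem b_ph_one (F : F3 a) {T : Subgroup G} (hT : T ≤ centralizer {a}) (h : ∀ g ∈ T, F.pm g = 1) :
    Nat.card (F.b_ph hT).range = 1 := by
  rw [card_eq_one, MonoidHom.range_eq_bot_iff]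
  exact MonoidHom.ext fun g => h g g.2

theorem idx_nine (F : F3 a) {σ : G} (hσ : σ * a = a * σ) (h1 : F.pm σ ≠ 1) (h3 : F.pm σ ^ 3 = 1) {T : Subgroup G}
    (hT : T ≤ centralizer {a}) (hp : IsPGroup 3 T) :
    (Q3 a).relIndex T ≤ 9 ∧ ((∀ g ∈ T, F.pm g = 1) → (Q3 a).relIndex T ≤ 3) := by
  have h : Nat.card (F.b_ch hT).range ≤ 3 := by
    refine (Nat.card_le_card_of_injective (fun x : (F.b_ch hT).range => Multiplicative.toAdd x.1 0) ?_).trans (by simp)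
    rintro ⟨_, x, rfl⟩ ⟨_, y, rfl⟩ e
    refine Subtype.ext (congrArg Multiplicative.ofAdd (funext fun i => ?_))
    rw [F.chi_eq hσ h1 h3 (mem_cen.1 (hT x.1.2)) x.2 i 0, F.chi_eq hσ h1 h3 (mem_cen.1 (hT y.1.2)) y.2 i 0]
    exact e
  rw [F.b_idx hT hp]
  exact ⟨Nat.mul_le_mul h (Nat.le_of_dvd (by norm_num) (F.b_ph_dvd hT hp)),
    fun k => by rw [F.b_ph_one hT k, mul_one]; exact h⟩

theorem b_nine (F : F3 a) {T : Subgroup G} (hT : T ≤ centralizer {a}) (h3 : IsPGroup 3 T) :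
    (∀ g ∈ T, F.pm g = 1) ∨ (Q3 a).relIndex T ≤ 9 := by
  refine or_iff_not_imp_left.2 fun h => ?_
  push Not at h
  obtain ⟨σ, hσ, h1⟩ := h
  exact (F.idx_nine (mem_cen.1 (hT hσ)) h1
    (LB.range_cube h3 (F.b_ph hT) (by simp [Fintype.card_perm, Nat.factorial]) ⟨σ, hσ⟩) hT h3).1

theorem b_ch_dvd (F : F3 a) {T : Subgroup G} (hT : T ≤ centralizer {a}) : Nat.card (F.b_ch hT).range ∣ 3 ^ 3 := by
  simpa using card_subgroup_dvd_card (F.b_ch hT).range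

theorem idx_le (F : F3 a) {T : Subgroup G} (hT : T ≤ centralizer {a}) (h3 : IsPGroup 3 T) : (Q3 a).relIndex T ≤ 27 := by
  rcases F.b_nine hT h3 with h | h
  · rw [F.b_idx hT h3, F.b_ph_one hT h, mul_one]
    exact Nat.le_of_dvd (by norm_num) (F.b_ch_dvd hT)
  · omega

theorem exists_one (F : F3 a) {T : Subgroup G} (hT : T ≤ centralizer {a}) (h3 : IsPGroup 3 T)
    (h : 9 < (Q3 a).relIndex T) : (∀ g ∈ T, F.pm g = 1) ∧ ∀ i, ∃ g ∈ T, F.mt g i ≠ 1 ∧ ∀ j, j ≠ i → F.mt g j = 1 := by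
  have h1 := (F.b_nine hT h3).resolve_right h.not_ge
  refine ⟨h1, fun i => ?_⟩
  rw [F.b_idx hT h3, F.b_ph_one hT h1, mul_one] at h
  obtain ⟨k, hk, e⟩ := (Nat.dvd_prime_pow Nat.prime_three).1 (F.b_ch_dvd hT)
  have h2 : (F.b_ch hT).range = ⊤ := eq_top_of_card_eq _ (by
    rw [e] at h ⊢
    interval_cases k <;> simp at h ⊢)
  obtain ⟨g, hg⟩ := MonoidHom.range_eq_top.1 h2 (Multiplicative.ofAdd (Pi.single i 1))
  have h4 : ∀ j, chi (F.mt g j) = (Pi.single i 1 : Fin 3 → ZMod 3) j := congrFun (Multiplicative.ofAdd.injective hg)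
  refine ⟨g, g.1.2, fun k => ?_, fun j hj => F.b_mt_one hT h3 g.1.2 g.2 (by rw [h4, Pi.single_eq_of_ne hj])⟩
  have := h4 i
  rw [k, b_chi_one, Pi.single_eq_same] at this
  exact absurd this (by decide)

theorem comm_mem (F : F3 a) {T : Subgroup G} (hT : T ≤ centralizer {a}) (h3 : IsPGroup 3 T) {x y : G} (hx : x ∈ T)
    (hy : y ∈ T) : x * y * x⁻¹ * y⁻¹ ∈ Q3 a := by
  have hn : ((Q3 a).subgroupOf T).Normal := ⟨fun n hn g => b_cjQ (mem_cen.1 (hT g.2)) hn⟩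
  rcases F.b_nine hT h3 with h | h
  · have hc := mul_mem (mul_mem (mul_mem hx hy) (inv_mem hx)) (inv_mem hy)
    have e := congrArg Multiplicative.toAdd (show F.b_ch hT (⟨⟨x, hx⟩, h x hx⟩ * ⟨⟨y, hy⟩, h y hy⟩ * ⟨⟨x, hx⟩, h x hx⟩⁻¹ *
      ⟨⟨y, hy⟩, h y hy⟩⁻¹) = 1 by rw [map_mul, map_mul, map_mul, map_inv, map_inv, mul_comm (F.b_ch hT _)]; group)
    exact (F.ker _ (mem_cen.1 (hT hc))).2 ⟨h _ hc, fun i => F.b_mt_one hT h3 hc (h _ hc) (congrFun e i)⟩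
  · obtain ⟨k, hk⟩ := IsPGroup.iff_card.1 (h3.to_quotient ((Q3 a).subgroupOf T))
    have h2 : 3 ^ k ≤ 3 ^ 2 := hk ▸ h
    have h4 : ∀ u v : T ⧸ (Q3 a).subgroupOf T, u * v = v * u := by
      rcases (Nat.pow_le_pow_iff_right (by norm_num)).1 h2 |>.eq_or_lt with rfl | e
      · exact (IsPGroup.isMulCommutative_of_card_eq_prime_sq hk).1.1
      · have := isCyclic_of_card_dvd_prime (p := 3) (α := T ⧸ (Q3 a).subgroupOf T) (by
          rw [hk]
          interval_cases k <;> simp)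
        exact mul_comm'
    refine (QuotientGroup.eq_one_iff (N := (Q3 a).subgroupOf T) (⟨x, hx⟩ * ⟨y, hy⟩ * ⟨x, hx⟩⁻¹ * ⟨y, hy⟩⁻¹)).1 ?_
    rw [QuotientGroup.mk_mul, QuotientGroup.mk_mul, QuotientGroup.mk_mul, QuotientGroup.mk_inv, QuotientGroup.mk_inv,
      h4 (⟨x, hx⟩ : T)]
    group

/-- Change of the complement by an element of `Q`. -/
theorem exists_cjQ (F : F3 a) {q : G} (hq : q ∈ Q3 a) : ∃ F' : F3 a, F'.vec = F.vec ∧ F'.pm = F.pm ∧ F'.mt = F.mt ∧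
    F'.R = cj q F.R ∧ ∀ i, F'.r i = q * F.r i * q⁻¹ :=
  ⟨{ F with
      R := cj q F.R
      r := fun i => q * F.r i * q⁻¹
      R_le := cj_le_iff.2 fun _ h => mem_cen.2 (b_ccj (b_Qc hq) (F.b_Rc h))
      cardR := by rw [card_cj, F.cardR]
      two := fun g hg => by
        rw [← F.two g hg, ← cj_eq_of_mem (mem_sup_left hq : q ∈ Q3 a ⊔ F.R), cj_sup, cj_eq_of_mem hq]
      r_mem := fun i => conj_mem_cj.2 (F.r_mem i)
      r2 := fun i => conj_sq (F.r2 i)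
      r_mt := fun i j => by
        have := F.b_mt_cj (b_Qc hq) (F.b_rc i) (F.pm_R (F.r_mem i)).1 j
        rwa [F.b_pmQ hq, F.b_mtQ hq, F.r_mt, one_mul, inv_one, mul_one] at this }, rfl, rfl, rfl, rfl, fun _ => rfl⟩

theorem b_det : ∀ (m : LB.S3) (v w : Fin 2 → ZMod 3),
    m.1.mulVec v 0 * m.1.mulVec w 1 - m.1.mulVec v 1 * m.1.mulVec w 0 = v 0 * w 1 - v 1 * w 0 := fun m v w => by
  have := m.2
  rw [Matrix.det_fin_two] at this
  simp only [Matrix.mulVec, dotProduct, Fin.sum_univ_two]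
  linear_combination (v 0 * w 1 - v 1 * w 0) * this

theorem b_mv (m n : LB.S3) (v : Fin 2 → ZMod 3) : (m * n).1.mulVec v = m.1.mulVec (n.1.mulVec v) := by
  rw [Matrix.mulVec_mulVec, Matrix.SpecialLinearGroup.coe_mul]

theorem b_mv1 (v : Fin 2 → ZMod 3) : (1 : LB.S3).1.mulVec v = v := by simp

/-- Change of the bases of the three planes. -/
theorem exists_rebase (F : F3 a) (b : Fin 3 → LB.S3) : ∃ F' : F3 a, (∀ q i, F'.vec q i = (b i).1.mulVec (F.vec q i)) ∧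
    F'.pm = F.pm ∧ (∀ g i, F'.mt g i = b (F.pm g i) * F.mt g i * (b i)⁻¹) ∧ F'.R = F.R ∧ F'.r = F.r :=
  ⟨{ F with
      vec := fun q i => (b i).1.mulVec (F.vec q i)
      mt := fun g i => b (F.pm g i) * F.mt g i * (b i)⁻¹
      vec_mul := fun p hp q hq => funext fun i => by rw [F.vec_mul p hp q hq, Pi.add_apply, Matrix.mulVec_add, Pi.add_apply]
      vec_eq_zero := fun q hq => by
        rw [← F.vec_eq_zero q hq]
        refine ⟨fun h => funext fun i => ?_, fun h => funext fun i => by simp [h]⟩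
        rw [← b_mv1 (F.vec q i), ← inv_mul_cancel (b i), b_mv, congrFun h i]
        simp
      vec_surj := fun w => by
        obtain ⟨q, hq, e⟩ := F.vec_surj fun i => (b i)⁻¹.1.mulVec (w i)
        exact ⟨q, hq, funext fun i => by rw [e, ← b_mv, mul_inv_cancel, b_mv1]⟩
      comm := fun p hp q hq => by simp only [F.comm p hp q hq, sf, b_det]
      act := fun g hg q hq i => by rw [F.act g hg q hq, ← b_mv, ← b_mv, inv_mul_cancel_right]
      mt_mul := fun g h hg hh i => by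
        rw [F.mt_mul g h hg hh, F.pm_mul g h hg hh, Equiv.Perm.mul_apply]; group
      ker := fun g hg => by
        rw [F.ker g hg]
        exact and_congr_right fun e => by simp only [e, Equiv.Perm.one_apply, conj_eq_one_iff]
      two := fun g hg => by
        rw [F.two g hg]
        exact and_congr_right fun e => by simp only [e, Equiv.Perm.one_apply, conj_pow, conj_eq_one_iff]
      r_mt := fun i j => by
        rw [(F.pm_R (F.r_mem i)).1, F.r_mt, Equiv.Perm.one_apply]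
        split_ifs <;> simp }, fun _ _ => rfl, rfl, fun _ _ => rfl, rfl, rfl⟩

theorem b_exists_cj (F : F3 a) (g : G) : ∃ F' : F3 (g * a * g⁻¹), ∀ i, F'.r i = g * F.r i * g⁻¹ := by
  have c : ∀ {h : G}, h * (g * a * g⁻¹) = g * a * g⁻¹ * h → g⁻¹ * h * g * a = a * (g⁻¹ * h * g) := fun {h} e =>
    (LB.comm_cj (g := g)).1 (by simpa [mul_assoc] using e)
  have m : ∀ x y : G, g⁻¹ * (x * y) * g = g⁻¹ * x * g * (g⁻¹ * y * g) := fun x y => by group
  have hq : ∀ {q : G}, q ∈ Q3 (g * a * g⁻¹) ↔ g⁻¹ * q * g ∈ Q3 a := by rw [Q3_cj]; exact mem_cj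
  exact ⟨{
      vec := fun q => F.vec (g⁻¹ * q * g)
      pm := fun h => F.pm (g⁻¹ * h * g)
      mt := fun h => F.mt (g⁻¹ * h * g)
      R := cj g F.R
      r := fun i => g * F.r i * g⁻¹
      esz := Q3_cj g a ▸ F.esz.map (f := (MulAut.conj g).toMonoidHom) (MulAut.conj g).injective
      card := by rw [Q3_cj, card_cj, F.card]
      cube := fun q h => by
        rw [show q = g * (g⁻¹ * q * g) * g⁻¹ by group, conj_pow, F.cube _ (hq.1 h), mul_one, mul_inv_cancel]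
      cen := by rw [Q3_cj, ← cj_zpowers, ← cj_centralizer]; exact cj_mono F.cen
      vec_mul := fun p hp q h => by rw [m, F.vec_mul _ (hq.1 hp) _ (hq.1 h)]
      vec_eq_zero := fun q h => by rw [F.vec_eq_zero _ (hq.1 h), ← cj_zpowers, mem_cj]
      vec_surj := fun w => by
        obtain ⟨q, h, e⟩ := F.vec_surj w
        exact ⟨g * q * g⁻¹, hq.2 (by simpa [mul_assoc] using h), by simpa [mul_assoc] using e⟩
      comm := fun p hp q h => by rw [conj_pow, ← F.comm _ (hq.1 hp) _ (hq.1 h)]; group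
      act := fun x hx q h i => by
        rw [← F.act _ (c hx) _ (hq.1 h)]
        congr 1
        group
      pm_mul := fun x y hx hy => by rw [m, F.pm_mul _ _ (c hx) (c hy)]
      mt_mul := fun x y hx hy i => by rw [m, F.mt_mul _ _ (c hx) (c hy)]
      ker := fun x hx => hq.trans (F.ker _ (c hx))
      R_le := by rw [← cj_centralizer_singleton]; exact cj_mono F.R_le
      cardR := by rw [card_cj, F.cardR]
      two := fun x hx => by rw [Q3_cj, ← cj_sup, mem_cj, F.two _ (c hx)]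
      r_mem := fun i => conj_mem_cj.2 (F.r_mem i)
      r2 := fun i => conj_sq (F.r2 i)
      r_mt := fun i j => by simpa [mul_assoc] using F.r_mt i j }, fun _ => rfl⟩

theorem b_sw : (∀ m : LB.S3, LB.sw m = 1 ↔ m = 1) ∧ (∀ m : LB.S3, LB.sw m ^ 4 = 1 ↔ m ^ 4 = 1) ∧ LB.sw (-1) = -1 := by
  decide +kernel

theorem b_exists_inv (F : F3 a) : ∃ F' : F3 a⁻¹, F'.r = F.r := by
  have c : ∀ {h : G}, h * a⁻¹ = a⁻¹ * h → h * a = a * h := LB.comm_inv.1
  have hq := LB.Q3_inv a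
  exact ⟨{
      vec := fun q i => ![F.vec q i 1, F.vec q i 0]
      pm := F.pm
      mt := fun h i => LB.sw (F.mt h i)
      R := F.R
      r := F.r
      esz := by
        rw [hq]
        refine ⟨by rw [orderOf_inv, F.esz.orderOf_z], ?_, ?_, ?_⟩ <;> rw [zpowers_inv]
        exacts [F.esz.comm_mem, F.esz.pow_mem, F.esz.center_eq]
      card := by rw [hq, F.card]
      cube := hq ▸ F.cube
      cen := by rw [hq, zpowers_inv]; exact F.cen
      vec_mul := fun p hp q h => by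
        rw [F.vec_mul _ (hq ▸ hp) _ (hq ▸ h)]
        funext i k
        fin_cases k <;> rfl
      vec_eq_zero := fun q h => by
        rw [zpowers_inv, ← F.vec_eq_zero _ (hq ▸ h)]
        refine ⟨fun e => funext fun i => funext fun k => ?_, fun e => funext fun i => funext fun k => ?_⟩
        · fin_cases k
          exacts [congrFun (congrFun e i) 1, congrFun (congrFun e i) 0]
        · rw [e]
          fin_cases k <;> rfl
      vec_surj := fun w => by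
        obtain ⟨q, h, e⟩ := F.vec_surj fun i => ![w i 1, w i 0]
        refine ⟨q, hq ▸ h, funext fun i => funext fun k => ?_⟩
        rw [e]
        fin_cases k <;> rfl
      comm := fun p hp q h => by
        rw [F.comm _ (hq ▸ hp) _ (hq ▸ h), inv_pow, ← pow_val_neg F.esz.z_pow]
        congr 2
        simp only [sf, Fin.sum_univ_three, Matrix.cons_val_zero, Matrix.cons_val_one]
        ring
      act := fun x hx q h i => by
        rw [F.act _ (c hx) _ (hq ▸ h)]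
        funext k
        fin_cases k <;> simp [LB.sw, Matrix.mulVec, dotProduct, Fin.sum_univ_two, add_comm]
      pm_mul := fun x y hx hy => F.pm_mul _ _ (c hx) (c hy)
      mt_mul := fun x y hx hy i => by rw [F.mt_mul _ _ (c hx) (c hy), LB.sw_mul]
      ker := fun x hx => by simp only [hq, F.ker _ (c hx), b_sw.1]
      R_le := fun x hx => mem_cen.2 (LB.comm_inv.2 (F.b_Rc hx))
      cardR := F.cardR
      two := fun x hx => by simp only [hq, F.two _ (c hx), b_sw.2.1]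
      r_mem := F.r_mem
      r2 := F.r2
      r_mt := fun i j => by
        rw [F.r_mt]
        split_ifs
        exacts [b_sw.2.2, (b_sw.1 1).2 rfl] }, rfl⟩

/-- Transport to a conjugate of `a` or `a⁻¹`. -/
theorem exists_ze (F : F3 a) {y : G} (h : ZE a y) : ∃ F' : F3 y, ∀ i, IsConj (F.r i) (F'.r i) := by
  rcases h with h | h <;> obtain ⟨g, rfl⟩ := isConj_iff.1 h
  · obtain ⟨F', e⟩ := F.b_exists_cj g
    exact ⟨F', fun i => isConj_iff.2 ⟨g, (e i).symm⟩⟩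
  · obtain ⟨F₁, e₁⟩ := F.b_exists_inv
    obtain ⟨F', e⟩ := F₁.b_exists_cj g
    exact ⟨F', fun i => isConj_iff.2 ⟨g, e₁ ▸ (e i).symm⟩⟩

theorem hf (F : F3 a) : HF a := fun _ h => (F.exists_ze h).elim fun F' _ => ⟨F'⟩

end F3

end Cfsg.Agent.T3
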