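import Mathlib
import Cfsg.Agent.T3.FDefs

/-!
The linear model `F3` from three commuting factors of order 27.
-/

set_option autoImplicit false

namespace Cfsg.Agent.T3

open Cfsg.Agent.Spor Cfsg.Agent.Rec Cfsg.Agent.Inv.Fz Cfsg.Agent.GT.PG Subgroup
open scoped commutatorElement Pointwise

universe u

variable {G : Type u} [Group G]

/-- The hypotheses of S3368 inside `G`. -/
structure S3D (a : G) where
  P : Fin 3 → Subgroup G
  x : Fin 3 → G
  y : Fin 3 → G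
  M : Subgroup G
  R : Subgroup G
  esz : ESZ 3 (Q3 a) a
  card : Nat.card (Q3 a) = 3 ^ 7
  cen : centralizer (Q3 a : Set G) ≤ zpowers a
  p27 : ∀ i, P27 (P i) a (x i) (y i)
  le : ∀ i, P i ≤ Q3 a
  comm : ∀ i j, i ≠ j → ∀ u ∈ P i, ∀ v ∈ P j, u * v = v * u
  dec : ∀ q ∈ Q3 a, ∃ u : Fin 3 → G, (∀ i, u i ∈ P i) ∧ q = u 0 * u 1 * u 2
  M_le : ∀ g ∈ M, g * a = a * g
  M_eq : Q3 a ⊔ R = M
  cardR : Nat.card R = 128
  Mn : ∀ g, g * a = a * g → ∀ m ∈ M, g * m * g⁻¹ ∈ M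
  max : ∀ N : Subgroup G, (∀ g ∈ N, g * a = a * g) → (∀ g, g * a = a * g → ∀ m ∈ N, g * m * g⁻¹ ∈ N) →
    (∀ m ∈ N, m ^ 4 ∈ Q3 a) → N ≤ M
  norm : ∀ m ∈ M, ∀ i, ∀ q ∈ P i, m * q * m⁻¹ ∈ P i
  exp4 : ∀ m ∈ M, ∀ i, ∀ q ∈ P i, m ^ 4 * q * (m ^ 4)⁻¹ * q⁻¹ ∈ zpowers a
  inv : ∀ m ∈ M, ∀ i, (∀ q ∈ P i, m ^ 2 * q * (m ^ 2)⁻¹ * q⁻¹ ∈ zpowers a) →
    (∀ q ∈ P i, m * q * m⁻¹ * q⁻¹ ∈ zpowers a) ∨ (∀ q ∈ P i, m * q * m⁻¹ * q ∈ zpowers a)
  cent : ∀ i, ∃ m ∈ M, (∀ q ∈ P i, m * q * m⁻¹ * q ∈ zpowers a) ∧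
    ∀ j, j ≠ i → ∀ q ∈ P j, m * q * m⁻¹ * q⁻¹ ∈ zpowers a

theorem s3_ext : ∀ m n : LB.S3, (∀ v : Fin 2 → ZMod 3, m.1.mulVec v = n.1.mulVec v) → m = n := by
  intro m n h
  ext i j
  have := congrFun (h (Pi.single j 1)) i
  simpa [Matrix.mulVec_single_one] using this

theorem s3_four : ∀ m n : LB.S3, m ^ 4 = 1 → n ^ 4 = 1 → (m * n) ^ 4 = 1 := by
  intro m n hm hn
  rw [← chi_eq_zero] at *
  rw [chi_mul, hm, hn, add_zero]

namespace S3D

variable {a : G} (D : S3D a)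

theorem hx (i : Fin 3) : D.x i ∈ Q3 a := D.le i (D.p27 i).hx
theorem hy (i : Fin 3) : D.y i ∈ Q3 a := D.le i (D.p27 i).hy

/-- Coordinates. -/
noncomputable def vec (q : G) : W6 := fun i => ![om a q (D.y i), om a (D.x i) q]

theorem vec_mul {p q : G} (hp : p ∈ Q3 a) (hq : q ∈ Q3 a) : D.vec (p * q) = D.vec p + D.vec q := by
  funext i j
  fin_cases j
  · exact om_mul_left D.esz hp hq (D.hy i)
  · exact om_mul_right D.esz (D.hx i) hp hq

theorem vec_z {c : G} (hc : c ∈ zpowers a) : D.vec c = 0 := by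
  funext i j
  fin_cases j
  · exact om_z_left D.esz hc (D.hy i)
  · exact om_z_right D.esz hc (D.hx i)

theorem vec_inv {p : G} (hp : p ∈ Q3 a) : D.vec p⁻¹ = - D.vec p := by
  have := D.vec_mul hp (inv_mem hp)
  rw [mul_inv_cancel, D.vec_z (one_mem _)] at this
  exact eq_neg_of_add_eq_zero_right this.symm

theorem vec_ne {i j : Fin 3} (h : j ≠ i) {u : G} (hu : u ∈ D.P i) : D.vec u j = 0 := by
  funext k
  fin_cases k
  · exact (om_eq_zero D.esz (D.le i hu) (D.hy j)).2 (D.comm i j h.symm u hu _ (D.p27 j).hy)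
  · exact (om_eq_zero D.esz (D.hx j) (D.le i hu)).2 (D.comm j i h _ (D.p27 j).hx u hu)

theorem vec_prod {u : Fin 3 → G} (hu : ∀ i, u i ∈ Q3 a) : D.vec (u 0 * u 1 * u 2) = ∑ i, D.vec (u i) := by
  rw [D.vec_mul (mul_mem (hu 0) (hu 1)) (hu 2), D.vec_mul (hu 0) (hu 1), Fin.sum_univ_three]

theorem vec_dec {u : Fin 3 → G} (hu : ∀ i, u i ∈ D.P i) (i : Fin 3) :
    D.vec (u 0 * u 1 * u 2) i = D.vec (u i) i := by
  rw [D.vec_prod fun i => D.le i (hu i), Finset.sum_apply]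
  exact Finset.sum_eq_single i (fun j _ hj => D.vec_ne hj.symm (hu j)) (by simp)

variable [Finite G]

theorem mem_z {i : Fin 3} {u : G} (hu : u ∈ D.P i) (h : D.vec u i = 0) : u ∈ zpowers a :=
  (D.p27 i).mem_z' hu (congrFun h 1) (congrFun h 0)

theorem vec_eq_zero {q : G} (hq : q ∈ Q3 a) : D.vec q = 0 ↔ q ∈ zpowers a := by
  refine ⟨fun h => ?_, D.vec_z⟩
  obtain ⟨u, hu, rfl⟩ := D.dec q hq
  have : ∀ i, u i ∈ zpowers a := fun i => D.mem_z (hu i) (by rw [← D.vec_dec hu i, h]; rfl)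
  exact mul_mem (mul_mem (this 0) (this 1)) (this 2)

theorem mem_P {q : G} (hq : q ∈ Q3 a) {i : Fin 3} (h : ∀ j, j ≠ i → D.vec q j = 0) : q ∈ D.P i := by
  obtain ⟨u, hu, rfl⟩ := D.dec q hq
  have : ∀ j, u j ∈ D.P i := fun j => by
    by_cases e : j = i
    · exact e ▸ hu j
    · exact (D.p27 i).es.zpowers_le (D.mem_z (hu j) (by rw [← D.vec_dec hu j, h j e]))
  exact mul_mem (mul_mem (this 0) (this 1)) (this 2)

omit [Finite G] in
theorem exists_vec (i : Fin 3) (v : Fin 2 → ZMod 3) : ∃ u ∈ D.P i, D.vec u i = v := by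
  have p := D.p27 i
  have m1 : D.x i ^ (v 0).val ∈ Q3 a := pow_mem (D.hx i) _
  have m2 : D.y i ^ (v 1).val ∈ Q3 a := pow_mem (D.hy i) _
  refine ⟨D.x i ^ (v 0).val * D.y i ^ (v 1).val, mul_mem (pow_mem p.hx _) (pow_mem p.hy _), ?_⟩
  funext k
  fin_cases k
  · change om a _ _ = v 0
    rw [om_mul_left D.esz m1 m2 (D.hy i), om_pow_left D.esz (D.hx i) (D.hy i), om_pow_left D.esz (D.hy i) (D.hy i),
      om_self D.esz (D.hy i), om_one D.esz p.xy]; ring
  · change om a _ _ = v 1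
    rw [om_mul_right D.esz (D.hx i) m1 m2, om_pow_right D.esz (D.hx i) (D.hx i), om_pow_right D.esz (D.hx i) (D.hy i),
      om_self D.esz (D.hx i), om_one D.esz p.xy]; ring

omit [Finite G] in
theorem vec_surj (w : W6) : ∃ q ∈ Q3 a, D.vec q = w := by
  choose u hu e using fun i => D.exists_vec i (w i)
  exact ⟨u 0 * u 1 * u 2, mul_mem (mul_mem (D.le _ (hu 0)) (D.le _ (hu 1))) (D.le _ (hu 2)),
    funext fun i => (D.vec_dec hu i).trans (e i)⟩

theorem om_eq {p q : G} (hp : p ∈ Q3 a) (hq : q ∈ Q3 a) : om a p q = sf (D.vec p) (D.vec q) := by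
  obtain ⟨u, hu, rfl⟩ := D.dec p hp
  have uq : ∀ i, u i ∈ Q3 a := fun i => D.le i (hu i)
  rw [om_mul_left D.esz (mul_mem (uq 0) (uq 1)) (uq 2) hq, om_mul_left D.esz (uq 0) (uq 1) hq, sf,
    Fin.sum_univ_three, D.vec_dec hu 0, D.vec_dec hu 1, D.vec_dec hu 2]
  have k : ∀ i, om a (u i) q = D.vec (u i) i 0 * D.vec q i 1 - D.vec (u i) i 1 * D.vec q i 0 := by
    intro i
    have := (D.p27 i).om_conj_left D.esz (g := 1) (by simp) (hu i) hq (by simpa using D.hx i) (by simpa using D.hy i)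
    simp only [one_mul, inv_one, mul_one] at this
    rw [this, om_swap D.esz hq (D.hy i)]
    change _ = om a (u i) (D.y i) * om a (D.x i) q - om a (D.x i) (u i) * om a q (D.y i)
    ring
  rw [k 0, k 1, k 2]

theorem comm' {p q : G} (hp : p ∈ Q3 a) (hq : q ∈ Q3 a) :
    p * q * p⁻¹ * q⁻¹ = a ^ (sf (D.vec p) (D.vec q)).val := by
  rw [← D.om_eq hp hq]
  exact (lg_spec D.esz.orderOf_z (D.esz.comm_mem p hp q hq)).symm

omit [Finite G] in
theorem cq {g : G} (hg : g * a = a * g) {q : G} (hq : q ∈ Q3 a) : g * q * g⁻¹ ∈ Q3 a :=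
  (mem_normalizer_iff.1 (norm_Q3 hg) q).1 hq

omit [Finite G] in
theorem x_not (i : Fin 3) : D.x i ∉ zpowers a := fun h => D.esz.z_ne_one (by
  rw [← (D.p27 i).xy]
  exact commutatorElement_eq_one_iff_mul_comm.2 (D.esz.commute_of_mem_zpowers (D.hy i) h).symm.eq)

omit [Finite G] in
theorem conj_not {g : G} (hg : g * a = a * g) {u : G} (hu : u ∉ zpowers a) : g * u * g⁻¹ ∉ zpowers a := fun h => by
  have hg' : g⁻¹ * a = a * g⁻¹ := (show Commute g a from hg).inv_left.eq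
  have := conj_z hg' h
  rw [← this] at h
  exact hu (by simpa [mul_assoc] using h)

theorem mem_triv {g : G} (hg : g * a = a * g) (h : ∀ q ∈ Q3 a, D.vec (g * q * g⁻¹) = D.vec q) : g ∈ Q3 a :=
  sup_le le_rfl (D.cen.trans D.esz.zpowers_le) (D.esz.mem_sup_centralizer hg fun q hq => by
    rw [commutatorElement_def, ← D.vec_eq_zero (mul_mem (cq hg hq) (inv_mem hq)), D.vec_mul (cq hg hq) (inv_mem hq),
      D.vec_inv hq, h q hq, add_neg_cancel])

theorem triv_iff {g : G} (hg : g * a = a * g) {q : G} (hq : q ∈ Q3 a) :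
    g * q * g⁻¹ * q⁻¹ ∈ zpowers a ↔ D.vec (g * q * g⁻¹) = D.vec q := by
  rw [← D.vec_eq_zero (mul_mem (cq hg hq) (inv_mem hq)), D.vec_mul (cq hg hq) (inv_mem hq), D.vec_inv hq,
    add_neg_eq_zero]

theorem inv_iff {g : G} (hg : g * a = a * g) {q : G} (hq : q ∈ Q3 a) :
    g * q * g⁻¹ * q ∈ zpowers a ↔ D.vec (g * q * g⁻¹) = - D.vec q := by
  rw [← D.vec_eq_zero (mul_mem (cq hg hq) hq), D.vec_mul (cq hg hq) hq, add_eq_zero_iff_eq_neg]

omit [Finite G] in
theorem vec_conj {g : G} (hg : g * a = a * g) {u : Fin 3 → G} (hu : ∀ i, u i ∈ D.P i) :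
    D.vec (g * (u 0 * u 1 * u 2) * g⁻¹) = ∑ i, D.vec (g * u i * g⁻¹) := by
  rw [← D.vec_prod (u := fun i => g * u i * g⁻¹) fun i => cq hg (D.le i (hu i))]
  congr 1; group

/-- `C(a)` permutes the three factors. -/
theorem exists_perm {g : G} (hg : g * a = a * g) (i : Fin 3) : ∃ j, ∀ u ∈ D.P i, g * u * g⁻¹ ∈ D.P j := by
  obtain ⟨m, hm, h1, h2⟩ := D.cent i
  have ma := D.M_le m hm
  have hg' : g⁻¹ * a = a * g⁻¹ := (show Commute g a from hg).inv_left.eq
  -- the action of `m` in coordinates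
  have act : ∀ q ∈ Q3 a, ∀ j, D.vec (m * q * m⁻¹) j = if j = i then - D.vec q j else D.vec q j := by
    intro q hq j
    obtain ⟨u, hu, rfl⟩ := D.dec q hq
    rw [D.vec_conj ma hu, D.vec_dec hu, Finset.sum_apply,
      Finset.sum_eq_single j (fun k _ hk => D.vec_ne hk.symm (D.norm m hm k _ (hu k))) (by simp)]
    split_ifs with e
    · subst e; exact congrFun ((D.inv_iff ma (D.le _ (hu j))).1 (h1 _ (hu j))) j
    · exact congrFun ((D.triv_iff ma (D.le _ (hu j))).1 (h2 j e _ (hu j))) j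
  have two : ∀ v : Fin 2 → ZMod 3, v = -v → v = 0 := by decide
  have sq : ∀ q ∈ Q3 a, m ^ 2 * q * (m ^ 2)⁻¹ * q⁻¹ ∈ zpowers a := by
    intro q hq
    rw [D.triv_iff ((show Commute m a from ma).pow_left 2).eq hq,
      show m ^ 2 * q * (m ^ 2)⁻¹ = m * (m * q * m⁻¹) * m⁻¹ by rw [pow_two]; group]
    funext j
    rw [act _ (cq ma hq), act _ hq]
    split_ifs <;> simp
  have ht := D.Mn g hg m hm
  have ta := D.M_le _ ht
  have tr : ∀ q ∈ Q3 a, ∀ s : G, g⁻¹ * (g * m * g⁻¹ * q * (g * m * g⁻¹)⁻¹ * s) * g⁻¹⁻¹ =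
      m * (g⁻¹ * q * g⁻¹⁻¹) * m⁻¹ * (g⁻¹ * s * g⁻¹⁻¹) := fun q _ s => by group
  have : ∃ j, ∀ q ∈ D.P j, g * m * g⁻¹ * q * (g * m * g⁻¹)⁻¹ * q ∈ zpowers a := by
    by_contra hn
    have all : ∀ j, ∀ q ∈ D.P j, g * m * g⁻¹ * q * (g * m * g⁻¹)⁻¹ * q⁻¹ ∈ zpowers a := by
      intro j
      refine (D.inv _ ht j fun q hq => ?_).resolve_right fun h => hn ⟨j, h⟩
      have := sq _ (cq hg' (D.le j hq))
      have e : (g * m * g⁻¹) ^ 2 * q * ((g * m * g⁻¹) ^ 2)⁻¹ * q⁻¹ =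
          g * (m ^ 2 * (g⁻¹ * q * g⁻¹⁻¹) * (m ^ 2)⁻¹ * (g⁻¹ * q * g⁻¹⁻¹)⁻¹) * g⁻¹ := by
        rw [conj_pow]; group
      rwa [e, conj_z hg this]
    have hQ : g * m * g⁻¹ ∈ Q3 a := D.mem_triv ta fun q hq => by
      obtain ⟨u, hu, rfl⟩ := D.dec q hq
      rw [D.vec_conj ta hu, D.vec_prod fun i => D.le i (hu i)]
      exact Finset.sum_congr rfl fun k _ => (D.triv_iff ta (D.le k (hu k))).1 (all k _ (hu k))
    have mQ : m ∈ Q3 a := by simpa [mul_assoc] using cq hg' hQ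
    have e1 := (D.triv_iff ma (D.hx i)).1 (D.esz.comm_mem m mQ _ (D.hx i))
    have e2 := act _ (D.hx i) i
    rw [e1, if_pos rfl] at e2
    exact D.x_not i (D.mem_z (D.p27 i).hx (two _ e2))
  obtain ⟨j, hj⟩ := this
  have le : cj g⁻¹ (D.P j) ≤ D.P i := cj_le_iff.2 fun v hv => by
    have vq := cq hg' (D.le j hv)
    refine D.mem_P vq fun k hk => two _ ?_
    have h3 := hj v hv
    rw [← conj_z hg' h3, tr v (D.le j hv), D.inv_iff ma vq] at h3
    have := act _ vq k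
    rw [if_neg hk, h3] at this
    exact this.symm
  have eq : cj g⁻¹ (D.P j) = D.P i := eq_of_le_of_card_ge le (by rw [card_cj, (D.p27 i).card, (D.p27 j).card])
  refine ⟨j, fun u hu => ?_⟩
  rw [← eq, mem_cj] at hu
  simpa using hu

theorem uniq {g : G} (hg : g * a = a * g) {i j k : Fin 3} (hj : g * D.x i * g⁻¹ ∈ D.P j)
    (hk : g * D.x i * g⁻¹ ∈ D.P k) : j = k := by
  by_contra h
  exact conj_not hg (D.x_not i) (D.mem_z hj (D.vec_ne h hk))

theorem exists_pm (g : G) : ∃ π : Equiv.Perm (Fin 3), g * a = a * g → ∀ i, ∀ u ∈ D.P i, g * u * g⁻¹ ∈ D.P (π i) := by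
  by_cases hg : g * a = a * g
  swap
  · exact ⟨1, fun h => absurd h hg⟩
  have hg' : g⁻¹ * a = a * g⁻¹ := (show Commute g a from hg).inv_left.eq
  choose f hf using D.exists_perm hg
  choose f' hf' using D.exists_perm hg'
  have : Function.LeftInverse f' f := fun i => by
    refine D.uniq (g := 1) (by simp) (i := i) ?_ (by simpa using (D.p27 i).hx)
    simpa [mul_assoc] using hf' _ _ (hf i _ (D.p27 i).hx)
  exact ⟨Equiv.ofBijective f (Finite.injective_iff_bijective.1 this.injective), fun _ => hf⟩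

/-- The permutation of the factors. -/
noncomputable def pm (g : G) : Equiv.Perm (Fin 3) := (D.exists_pm g).choose

theorem pm_spec {g : G} (hg : g * a = a * g) (i : Fin 3) {u : G} (hu : u ∈ D.P i) : g * u * g⁻¹ ∈ D.P (D.pm g i) :=
  (D.exists_pm g).choose_spec hg i u hu

theorem pm_eq {g : G} (hg : g * a = a * g) {i j : Fin 3} (h : g * D.x i * g⁻¹ ∈ D.P j) : D.pm g i = j :=
  D.uniq hg (D.pm_spec hg i (D.p27 i).hx) h

theorem pm_mul {g h : G} (hg : g * a = a * g) (hh : h * a = a * h) : D.pm (g * h) = D.pm g * D.pm h := by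
  ext i : 1
  refine D.pm_eq ((show Commute g a from hg).mul_left hh).eq ?_
  have := D.pm_spec hg _ (D.pm_spec hh i (D.p27 i).hx)
  rwa [show g * (h * D.x i * h⁻¹) * g⁻¹ = g * h * D.x i * (g * h)⁻¹ by group] at this

theorem pm_M {g : G} (hg : g ∈ D.M) : D.pm g = 1 :=
  Equiv.ext fun i => D.pm_eq (D.M_le g hg) (D.norm g hg i _ (D.p27 i).hx)

theorem exists_mt (g : G) (i : Fin 3) : ∃ m : LB.S3, g * a = a * g → ∀ u ∈ D.P i,
    D.vec (g * u * g⁻¹) (D.pm g i) = m.1.mulVec (D.vec u i) := by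
  by_cases hg : g * a = a * g
  swap
  · exact ⟨1, fun h => absurd h hg⟩
  set j := D.pm g i
  have p := D.p27 i
  have x1 := D.pm_spec hg i p.hx
  have y1 := D.pm_spec hg i p.hy
  refine ⟨⟨!![om a (g * D.x i * g⁻¹) (D.y j), om a (g * D.y i * g⁻¹) (D.y j);
    om a (D.x j) (g * D.x i * g⁻¹), om a (D.x j) (g * D.y i * g⁻¹)], ?_⟩, fun _ u hu => ?_⟩
  · rw [Matrix.det_fin_two_of]
    have := (D.p27 j).om_coord x1 y1
    rw [om_conj p.es hg p.hx p.hy, om_one p.es p.xy] at this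
    rw [this]; ring
  · have k := fun v hv => p.om_conj_left D.esz hg hu (v := v) hv (D.le _ x1) (D.le _ y1)
    funext l
    fin_cases l
    · simp only [vec, Matrix.mulVec, dotProduct, Fin.sum_univ_two]
      simpa using k _ (D.hy j)
    · simp only [vec, Matrix.mulVec, dotProduct, Fin.sum_univ_two]
      have := k _ (D.hx j)
      rw [om_swap D.esz (D.hx j) (cq hg (D.le i hu)), om_swap D.esz (D.hx j) (D.le _ x1),
        om_swap D.esz (D.hx j) (D.le _ y1)] at this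
      simp only [Fin.mk_one, Fin.isValue, Matrix.cons_val_one, Matrix.cons_val_fin_one, Matrix.of_apply,
        Matrix.cons_val', Matrix.cons_val_zero]
      linear_combination -this

/-- The matrices. -/
noncomputable def mt (g : G) (i : Fin 3) : LB.S3 := (D.exists_mt g i).choose

theorem act {g : G} (hg : g * a = a * g) {q : G} (hq : q ∈ Q3 a) (i : Fin 3) :
    D.vec (g * q * g⁻¹) (D.pm g i) = (D.mt g i).1.mulVec (D.vec q i) := by
  obtain ⟨u, hu, rfl⟩ := D.dec q hq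
  rw [D.vec_conj hg hu, D.vec_dec hu, Finset.sum_apply, Finset.sum_eq_single i
    (fun k _ hk => D.vec_ne (fun e => hk ((D.pm g).injective e).symm) (D.pm_spec hg k (hu k))) (by simp)]
  exact (D.exists_mt g i).choose_spec hg _ (hu i)

theorem mt_eq {g : G} (hg : g * a = a * g) {i : Fin 3} {m : LB.S3}
    (h : ∀ u ∈ D.P i, D.vec (g * u * g⁻¹) (D.pm g i) = m.1.mulVec (D.vec u i)) : D.mt g i = m :=
  s3_ext _ _ fun v => by
    obtain ⟨u, hu, rfl⟩ := D.exists_vec i v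
    rw [← D.act hg (D.le i hu), h u hu]

theorem mt_mul {g h : G} (hg : g * a = a * g) (hh : h * a = a * h) (i : Fin 3) :
    D.mt (g * h) i = D.mt g (D.pm h i) * D.mt h i := by
  refine D.mt_eq ((show Commute g a from hg).mul_left hh).eq fun u hu => ?_
  rw [D.pm_mul hg hh, show g * h * u * (g * h)⁻¹ = g * (h * u * h⁻¹) * g⁻¹ by group, Equiv.Perm.mul_apply,
    D.act hg (cq hh (D.le i hu)), D.act hh (D.le i hu), Matrix.mulVec_mulVec, Matrix.SpecialLinearGroup.coe_mul]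

theorem mt_one_of {g : G} (hg : g * a = a * g) (h1 : D.pm g = 1) {i : Fin 3}
    (h : ∀ u ∈ D.P i, g * u * g⁻¹ * u⁻¹ ∈ zpowers a) : D.mt g i = 1 :=
  D.mt_eq hg fun u hu => by
    rw [(D.triv_iff hg (D.le i hu)).1 (h u hu), h1]; simp

omit [Finite G] in
theorem QM : Q3 a ≤ D.M := D.M_eq ▸ le_sup_left

theorem ker {g : G} (hg : g * a = a * g) : g ∈ Q3 a ↔ D.pm g = 1 ∧ ∀ i, D.mt g i = 1 := by
  refine ⟨fun h => ⟨D.pm_M (D.QM h), fun i => D.mt_one_of hg (D.pm_M (D.QM h))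
    fun u hu => D.esz.comm_mem g h u (D.le i hu)⟩, fun h => D.mem_triv hg fun q hq => funext fun i => ?_⟩
  have := D.act hg hq i
  rw [h.1, h.2] at this
  simpa using this

theorem mt_pow {g : G} (hg : g * a = a * g) (h1 : D.pm g = 1) (i : Fin 3) (n : ℕ) :
    D.pm (g ^ n) = 1 ∧ D.mt (g ^ n) i = D.mt g i ^ n := by
  induction n with
  | zero => simpa using ⟨D.pm_M (one_mem _), ((D.ker (by simp)).1 (one_mem _)).2 i⟩
  | succ n ih =>
    have c := ((show Commute g a from hg).pow_left n).eq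
    rw [pow_succ, D.pm_mul c hg, D.mt_mul c hg, ih.1, h1, pow_succ]
    exact ⟨mul_one _, by rw [Equiv.Perm.one_apply, ih.2]⟩

theorem two {g : G} (hg : g * a = a * g) : g ∈ D.M ↔ D.pm g = 1 ∧ ∀ i, D.mt g i ^ 4 = 1 := by
  refine ⟨fun h => ⟨D.pm_M h, fun i => ?_⟩, fun h => ?_⟩
  · rw [← (D.mt_pow hg (D.pm_M h) i 4).2]
    exact D.mt_one_of ((show Commute g a from hg).pow_left 4).eq (D.pm_M (pow_mem h 4)) (D.exp4 g h i)
  have one := (D.ker (g := 1) (by simp)).1 (one_mem _)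
  have inv : ∀ g, g * a = a * g → D.pm g⁻¹ * D.pm g = 1 ∧ ∀ i, D.mt g⁻¹ (D.pm g i) * D.mt g i = 1 := by
    intro g hg
    have hg' : g⁻¹ * a = a * g⁻¹ := (show Commute g a from hg).inv_left.eq
    refine ⟨by rw [← D.pm_mul hg' hg, inv_mul_cancel, one.1], fun i => ?_⟩
    rw [← D.mt_mul hg' hg, inv_mul_cancel, one.2]
  let N : Subgroup G :=
    { carrier := {g | g * a = a * g ∧ D.pm g = 1 ∧ ∀ i, D.mt g i ^ 4 = 1}
      one_mem' := ⟨by simp, one.1, fun i => by rw [one.2, one_pow]⟩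
      mul_mem' := fun {g k} hg hk => ⟨((show Commute g a from hg.1).mul_left hk.1).eq,
        by rw [D.pm_mul hg.1 hk.1, hg.2.1, hk.2.1, mul_one],
        fun i => by rw [D.mt_mul hg.1 hk.1]; exact s3_four _ _ (hg.2.2 _) (hk.2.2 _)⟩
      inv_mem' := fun {g} hg => by
        obtain ⟨e1, e2⟩ := inv g hg.1
        rw [hg.2.1] at e1 e2
        refine ⟨(show Commute g a from hg.1).inv_left.eq, by simpa using e1, fun i => ?_⟩
        have := e2 i
        rw [Equiv.Perm.one_apply] at this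
        rw [eq_inv_of_mul_eq_one_left this, inv_pow, hg.2.2, inv_one] }
  refine D.max N (fun g hg => hg.1) (fun k hk m hm => ?_) (fun m hm => ?_) ⟨hg, h⟩
  · have hk' : k⁻¹ * a = a * k⁻¹ := (show Commute k a from hk).inv_left.eq
    have km := ((show Commute k a from hk).mul_left hm.1).eq
    obtain ⟨e1, e2⟩ := inv k⁻¹ hk'
    rw [inv_inv] at e1 e2
    refine ⟨((show Commute (k * m) a from km).mul_left hk').eq, ?_, fun i => ?_⟩
    · rw [D.pm_mul km hk', D.pm_mul hk hm.1, hm.2.1, mul_one, e1]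
    · rw [D.mt_mul km hk', D.mt_mul hk hm.1, hm.2.1, Equiv.Perm.one_apply, eq_inv_of_mul_eq_one_right (e2 i),
        conj_pow, hm.2.2, mul_one, mul_inv_cancel]
  · exact (D.ker ((show Commute m a from hm.1).pow_left 4).eq).2 ⟨(D.mt_pow hm.1 hm.2.1 0 4).1,
      fun i => by rw [(D.mt_pow hm.1 hm.2.1 i 4).2, hm.2.2]⟩

theorem exists_r (i : Fin 3) : ∃ r ∈ D.R, r * r = 1 ∧ ∀ j, D.mt r j = if j = i then -1 else 1 := by
  obtain ⟨m, hm, h1, h2⟩ := D.cent i
  have ma := D.M_le m hm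
  have RM : D.R ≤ D.M := D.M_eq ▸ le_sup_right
  have mm : ∀ j, D.mt m j = if j = i then -1 else 1 := by
    intro j
    split_ifs with e
    · subst e
      refine D.mt_eq ma fun u hu => ?_
      rw [(D.inv_iff ma (D.le _ hu)).1 (h1 u hu), D.pm_M hm]
      simp [Matrix.neg_mulVec]
    · exact D.mt_one_of ma (D.pm_M hm) (h2 j e)
  obtain ⟨q, hq, r, hr, rfl⟩ : ∃ q ∈ Q3 a, ∃ r ∈ D.R, q * r = m := by
    have : (↑(Q3 a ⊔ D.R) : Set G) = (Q3 a : Set G) * (D.R : Set G) :=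
      Subgroup.coe_mul_of_right_le_normalizer_left _ _ fun r hr => norm_Q3 (D.M_le r (RM hr))
    have hm' : m ∈ (↑(Q3 a ⊔ D.R) : Set G) := D.M_eq ▸ hm
    rw [this] at hm'
    exact hm'
  have ra := D.M_le r (RM hr)
  have qa := D.M_le q (D.QM hq)
  have rm : ∀ j, D.mt r j = if j = i then -1 else 1 := fun j => by
    rw [← mm j, D.mt_mul qa ra, ((D.ker qa).1 hq).2, one_mul]
  refine ⟨r, hr, ?_, rm⟩
  have rr : r * r ∈ Q3 a := (D.ker ((show Commute r a from ra).mul_left ra).eq).2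
    ⟨D.pm_M (RM (mul_mem hr hr)), fun j => by
      rw [D.mt_mul ra ra, D.pm_M (RM hr), Equiv.Perm.one_apply, rm j]
      split_ifs <;> simp⟩
  have o1 : orderOf (r * r) ∣ 3 ^ 2 := orderOf_dvd_of_pow_eq_one (D.esz.pow_sq_eq_one rr)
  have o2 : orderOf (r * r) ∣ 128 := D.cardR ▸ orderOf_dvd_natCard _ (mul_mem hr hr)
  exact orderOf_eq_one_iff.1 (Nat.eq_one_of_dvd_coprimes (by norm_num) o1 o2)

omit [Finite G] in
include D in
theorem cube {q : G} (hq : q ∈ Q3 a) : q ^ 3 = 1 := by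
  have k : ∀ i, ∀ u ∈ D.P i, u ^ 3 = 1 := by
    intro i u hu
    obtain ⟨m, hm, h1, -⟩ := D.cent i
    have uq := D.le i hu
    have z := h1 u hu
    have e : m * u * m⁻¹ = (m * u * m⁻¹ * u) * u⁻¹ := by group
    have c : Commute (m * u * m⁻¹ * u) u⁻¹ := (D.esz.commute_of_mem_zpowers uq z).symm.inv_right
    have e3 : u ^ 3 = (u ^ 3)⁻¹ := by
      calc u ^ 3 = m * u ^ 3 * m⁻¹ := (conj_z (D.M_le m hm) (D.esz.pow_mem u uq)).symm
        _ = (m * u * m⁻¹) ^ 3 := by rw [conj_pow]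
        _ = (u ^ 3)⁻¹ := by rw [e, c.mul_pow, D.esz.pow_eq_one_of_mem_zpowers z, one_mul, inv_pow]
    exact eq_one_of_sq D.esz (D.esz.pow_mem u uq) e3.symm
  obtain ⟨u, hu, rfl⟩ := D.dec q hq
  have c1 : Commute (u 0) (u 1) := D.comm 0 1 (by decide) _ (hu 0) _ (hu 1)
  have c2 : Commute (u 0 * u 1) (u 2) :=
    Commute.mul_left (D.comm 0 2 (by decide) _ (hu 0) _ (hu 2)) (D.comm 1 2 (by decide) _ (hu 1) _ (hu 2))
  rw [c2.mul_pow, c1.mul_pow, k 0 _ (hu 0), k 1 _ (hu 1), k 2 _ (hu 2)]; simp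

include D in
theorem nonempty_F3 : Nonempty (F3 a) := by
  choose r hr r2 rm using D.exists_r
  exact ⟨{ vec := D.vec
           pm := D.pm
           mt := D.mt
           R := D.R
           r := r
           esz := D.esz
           card := D.card
           cube := fun q hq => D.cube hq
           cen := D.cen
           vec_mul := fun p hp q hq => D.vec_mul hp hq
           vec_eq_zero := fun q hq => D.vec_eq_zero hq
           vec_surj := D.vec_surj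
           comm := fun p hp q hq => D.comm' hp hq
           act := fun g hg q hq i => D.act hg hq i
           pm_mul := fun g h hg hh => D.pm_mul hg hh
           mt_mul := fun g h hg hh i => D.mt_mul hg hh i
           ker := fun g hg => D.ker hg
           R_le := fun g hg => mem_centralizer_singleton_iff.2 (D.M_le g (D.M_eq ▸ mem_sup_right hg))
           cardR := D.cardR
           two := fun g hg => D.M_eq ▸ D.two hg
           r_mem := hr
           r2 := r2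
           r_mt := rm }⟩

end S3D

end Cfsg.Agent.T3
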