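import Mathlib
import Cfsg.Agent.T3.FBas
import Cfsg.Agent.T3.LocA

/-! The centraliser of `a` and `r₀` in the linear model. -/

set_option autoImplicit false
set_option linter.unusedSectionVars false
set_option synthInstance.maxSize 100000
set_option synthInstance.maxHeartbeats 1000000

namespace Cfsg.Agent.T3

open Cfsg.Agent.Spor Cfsg.Agent.Rec Cfsg.Agent.Inv.Fz Cfsg.Agent.GT.PG Subgroup

universe u

variable {G : Type u} [Group G] [Finite G]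

namespace FK

theorem s_odd : ∀ m : LB.S3, m ^ 4 = 1 → m ^ 3 = 1 → m = 1 := by decide +kernel
theorem s_sq : ∀ m : LB.S3, m ^ 2 = 1 → m = 1 ∨ m = -1 := by decide +kernel
theorem s_nrm : ∀ m n : LB.S3, n ^ 4 = 1 → (m * n * m⁻¹) ^ 4 = 1 ∧ (m * n * m⁻¹ * n⁻¹) ^ 4 = 1 := by decide +kernel
theorem s_cen : ∀ m : LB.S3, m * LB.ww * m⁻¹ * LB.ww⁻¹ = 1 → m * LB.ww⁻¹ * m⁻¹ * LB.ww⁻¹⁻¹ = 1 →
    m * (LB.tv 1 * LB.ww * (LB.tv 1)⁻¹) * m⁻¹ * (LB.tv 1 * LB.ww * (LB.tv 1)⁻¹)⁻¹ = 1 → m ^ 2 = 1 := by decide +kernel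
theorem s_fix : ∀ m : LB.S3, (∀ v, m.1.mulVec v = v) → m = 1 := by decide +kernel
theorem s_tri : ∀ m n : LB.S3, m ^ 4 = 1 → chi n ≠ 0 → (m * (n * m * n⁻¹) * (n * (n * m * n⁻¹) * n⁻¹)) ^ 2 = 1 := by
  decide +kernel
theorem s_com : ∀ x y z : LB.S3, x ^ 4 = 1 → y ^ 4 = 1 → z ^ 4 = 1 → x ^ 2 ≠ 1 → y ^ 2 ≠ 1 → z ^ 2 ≠ 1 →
    (x * y) ^ 2 ≠ 1 → x * z * x⁻¹ * z⁻¹ = -1 ∨ y * z * y⁻¹ * z⁻¹ = -1 := by decide +kernel
theorem s_neg (v : Fin 2 → ZMod 3) : (-1 : LB.S3).1.mulVec v = -v := by revert v; decide +kernel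
theorem v_neg : ∀ v : Fin 2 → ZMod 3, v = -v → v = 0 := by decide +kernel
theorem p_sq : ∀ p : Equiv.Perm (Fin 3), p 0 = 0 → p * p = 1 := by decide +kernel
theorem p_one : ∀ p : Equiv.Perm (Fin 3), p 0 = 0 → p = 1 ∨ p 2 = 1 := by decide +kernel
theorem sf_nd : ∀ w : W6, w 0 = 0 → (∀ i : Fin 3, ∀ v, i ≠ 0 → sf w (Pi.single i v) = 0) → w = 0 := by decide +kernel
theorem f3 (i : Fin 3) : i = 0 ∨ i = 1 ∨ i = 2 := by revert i; decide

/-- The quaternion subgroup of `SL₂(3)`. -/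
def Q8 : Subgroup LB.S3 where
  carrier := {m | m ^ 4 = 1}
  one_mem' := one_pow 4
  mul_mem' := fun {m n} => (by decide +kernel : ∀ m n : LB.S3, m ^ 4 = 1 → n ^ 4 = 1 → (m * n) ^ 4 = 1) m n
  inv_mem' := fun {m} h => by rw [Set.mem_setOf_eq, inv_pow, h, inv_one]

theorem card_Q8 : Nat.card Q8 = 8 := by
  rw [← LB.s_card, ← Fintype.card_subtype, ← Nat.card_eq_fintype_card]; rfl

/-- The embedding of the quaternion group. -/
def qf : QuaternionGroup 2 → LB.S3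
  | .a i => LB.ww ^ i.val
  | .xa i => LB.tv 1 * LB.ww * (LB.tv 1)⁻¹ * LB.ww ^ i.val

theorem qf_mul : ∀ x y, qf (x * y) = qf x * qf y := by decide +kernel
theorem qf_one : ∀ x, qf x = 1 → x = 1 := by decide +kernel
theorem qf_four : ∀ x, qf x ^ 4 = 1 := by decide +kernel
theorem qf_surj : ∀ m : LB.S3, m ^ 4 = 1 → ∃ x, qf x = m := by decide +kernel

theorem odd_eq {X : Type*} [Group X] {x : X} {k : ℕ} (h2 : x * x = 1) (h3 : x ^ 3 ^ k = 1) : x = 1 := by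
  obtain ⟨m, hm⟩ : Odd (3 ^ k) := Odd.pow (by decide)
  rwa [hm, pow_succ, pow_mul, pow_two, h2, one_pow, one_mul] at h3

theorem conj_of_cube {X : Type*} [Group X] {x y : X} (hx : x * x = 1) (hy : y * y = 1) (h : (x * y) ^ 3 = 1) :
    IsConj x y := by
  refine isConj_iff.2 ⟨x * y, ?_⟩
  rw [mul_inv_rev, inv_eq_of_mul_eq_one_right hx, inv_eq_of_mul_eq_one_right hy]
  calc _ = (x * y) ^ 3 * y * (y * y)⁻¹ * (y * y) * (y * y)⁻¹ := by
        rw [hy]; simp only [pow_succ, pow_zero, one_mul, mul_assoc, inv_one, mul_one, hy]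
    _ = y := by rw [h, hy]; simp

end FK

open FK

namespace F3

variable {a : G} (F : F3 a) {g h k q : G}

theorem k_pm_one : F.pm 1 = 1 := ((F.ker 1 (by simp)).1 (one_mem _)).1
theorem k_mt_one (i : Fin 3) : F.mt 1 i = 1 := ((F.ker 1 (by simp)).1 (one_mem _)).2 i
theorem k_ra (i : Fin 3) : Commute (F.r i) a := mem_cen.1 (F.R_le (F.r_mem i))
theorem k_Ra (hg : g ∈ F.R) : Commute g a := mem_cen.1 (F.R_le hg)
theorem k_Qa (hq : q ∈ Q3 a) : Commute q a := mem_cen.1 (GT.pCoreOf_le _ hq)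
theorem k_pm_r (i : Fin 3) : F.pm (F.r i) = 1 := (F.pm_R (F.r_mem i)).1

theorem k_mul (hg : Commute g a) (hh : Commute h a) (h1 : F.pm h = 1) (i : Fin 3) :
    F.mt (g * h) i = F.mt g i * F.mt h i := by rw [F.mt_mul g h hg hh, h1]; rfl

theorem k_inv (hg : Commute g a) (h1 : F.pm g = 1) (i : Fin 3) : F.mt g⁻¹ i = (F.mt g i)⁻¹ := by
  have := F.mt_inv hg i
  rwa [h1] at this

theorem k_pm_mul (hg : Commute g a) (hh : Commute h a) (h1 : F.pm g = 1) (h2 : F.pm h = 1) : F.pm (g * h) = 1 := by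
  rw [F.pm_mul g h hg hh, h1, h2, mul_one]

theorem k_pm_inv (hg : Commute g a) (h1 : F.pm g = 1) : F.pm g⁻¹ = 1 := by rw [F.pm_inv hg, h1, inv_one]

theorem k_pm_pow (hg : Commute g a) (n : ℕ) : F.pm (g ^ n) = F.pm g ^ n := by
  induction n with
  | zero => simp [F.k_pm_one]
  | succ n ih => rw [pow_succ, F.pm_mul _ _ (hg.pow_left n) hg, ih, pow_succ]

theorem k_pow (hg : Commute g a) (h1 : F.pm g = 1) (n : ℕ) (i : Fin 3) : F.mt (g ^ n) i = F.mt g i ^ n := by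
  induction n with
  | zero => simp [F.k_mt_one]
  | succ n ih => rw [pow_succ, F.k_mul (hg.pow_left n) hg h1, ih, pow_succ]

theorem k_conj (hg : Commute g a) (hk : Commute k a) (h1 : F.pm k = 1) : F.pm (g * k * g⁻¹) = 1 ∧
    ∀ i, F.mt (g * k * g⁻¹) (F.pm g i) = F.mt g i * F.mt k i * (F.mt g i)⁻¹ := by
  refine ⟨by rw [F.pm_mul _ _ (hg.mul_left hk) hg.inv_left, F.pm_mul _ _ hg hk, F.pm_inv hg, h1]; simp, fun i => ?_⟩
  rw [F.mt_mul _ _ (hg.mul_left hk) hg.inv_left, F.mt_inv hg, F.pm_inv hg, Equiv.Perm.inv_def, Equiv.symm_apply_apply, F.k_mul hg hk h1]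

theorem k_conj1 (hg : Commute g a) (h0 : F.pm g = 1) (hk : Commute k a) (h1 : F.pm k = 1) (i : Fin 3) :
    F.mt (g * k * g⁻¹) i = F.mt g i * F.mt k i * (F.mt g i)⁻¹ := by
  have := (F.k_conj hg hk h1).2 i
  rwa [h0] at this

theorem k_comm (hg : Commute g a) (h0 : F.pm g = 1) (hk : Commute k a) (h1 : F.pm k = 1) (i : Fin 3) :
    F.mt (g * k * g⁻¹ * k⁻¹) i = F.mt g i * F.mt k i * (F.mt g i)⁻¹ * (F.mt k i)⁻¹ := by
  rw [F.k_mul ((hg.mul_left hk).mul_left hg.inv_left) hk.inv_left (F.k_pm_inv hk h1), F.k_conj1 hg h0 hk h1,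
    F.k_inv hk h1]

theorem k_fix (hg : Commute g a) (hr : Commute g (F.r 0)) : F.pm g 0 = 0 := by
  have := (F.k_conj hg (F.k_ra 0) (F.k_pm_r 0)).2 0
  rw [hr.eq, mul_inv_cancel_right, F.r_mt, F.r_mt, if_pos rfl] at this
  by_contra hn
  rw [if_neg hn] at this
  exact absurd (this.trans (by simp)) (by decide : (1 : LB.S3) ≠ -1)

theorem k_act (hg : Commute g a) (h1 : F.pm g = 1) (hq : q ∈ Q3 a) (i : Fin 3) :
    F.vec (g * q * g⁻¹) i = (F.mt g i).1.mulVec (F.vec q i) := by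
  have := F.act g hg q hq i
  rwa [h1] at this

theorem k_vec0 (hq : q ∈ Q3 a) : Commute q (F.r 0) ↔ F.vec q 0 = 0 := by
  refine ⟨fun h => v_neg _ ?_, fun h => ?_⟩
  · have := F.k_act (F.k_ra 0) (F.k_pm_r 0) hq 0
    rwa [← h.eq, mul_inv_cancel_right, F.r_mt, if_pos rfl, s_neg] at this
  · obtain ⟨p, hp, rfl⟩ := F.dec hq
    have h0 : p 0 ∈ zpowers a := (F.vec_eq_zero _ (hp 0).1).1 (funext fun j => by
      by_cases e : j = 0
      · rw [F.vec_mul _ (mul_mem (hp 0).1 (hp 1).1) _ (hp 2).1, F.vec_mul _ (hp 0).1 _ (hp 1).1, Pi.add_apply,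
          Pi.add_apply, (hp 1).2 0 (by decide), (hp 2).2 0 (by decide), add_zero, add_zero] at h
        rw [e, h]; rfl
      · exact (hp 0).2 j e)
    obtain ⟨n, hn⟩ := h0
    exact (Commute.mul_left (hn ▸ (F.k_ra 0).symm.zpow_left n) (F.r_P (by decide) (hp 1)).symm).mul_left
      (F.r_P (by decide) (hp 2)).symm

theorem k_card : Nat.card (Q3 a ⊓ centralizer {F.r 0} : Subgroup G) = 243 := by
  rw [F.card_eq inf_le_left ⟨F.esz.z_mem, mem_cen.2 (F.k_ra 0).symm⟩,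
    show F.vec '' (Q3 a ⊓ centralizer {F.r 0} : Subgroup G) = ↑(Finset.univ.filter fun w : W6 => w 0 = 0) from ?_,
    Set.ncard_coe_finset]
  · decide +kernel
  · ext w
    simp only [Finset.coe_filter, Finset.mem_univ, true_and, Set.mem_setOf_eq]
    refine ⟨fun ⟨q, hq, e⟩ => e ▸ (F.k_vec0 hq.1).1 (mem_cen.1 hq.2), fun h => ?_⟩
    obtain ⟨q, hq, rfl⟩ := F.vec_surj w
    exact ⟨q, ⟨hq, mem_cen.2 ((F.k_vec0 hq).2 h)⟩, rfl⟩

theorem k_r1 (i : Fin 3) : F.r i ≠ 1 := fun e => by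
  have := F.r_mt i i
  rw [e, F.k_mt_one, if_pos rfl] at this
  exact absurd this (by decide)

end F3

namespace FJ

variable {a : G} (s : FJ a) {g h k q : G}

theorem k_σ : s.pm s.σ ≠ 1 ∧ s.pm s.σ ^ 3 = 1 := by rw [s.σpm]; decide

theorem k_chi (i : Fin 3) : chi (s.mt s.c i) ≠ 0 := fun e => by
  have h1 : s.mt s.c i = 1 := s_odd _ ((chi_eq_zero _).1 e) (by rw [← s.k_pow s.ca s.cpm, s.c3, s.k_mt_one])
  have uQ := (s.uP i).1
  have vQ := (s.vP i).1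
  have aQ := s.esz.z_mem
  have h2 := s.k_act (Commute.inv_left s.ca) (s.k_pm_inv s.ca s.cpm) vQ i
  rw [s.k_inv s.ca s.cpm, h1, show s.c⁻¹ * s.v i * s.c⁻¹⁻¹ = (s.u i)⁻¹ * a⁻¹ * s.v i by
    rw [inv_inv, ← mul_inv_eq_iff_eq_mul, mul_assoc, mul_assoc, ← mul_assoc (s.v i), s.vc]; group,
    s.vec_mul _ (mul_mem (inv_mem uQ) (inv_mem aQ)) _ vQ, s.vec_mul _ (inv_mem uQ) _ (inv_mem aQ), s.vec_inv uQ,
    (s.vec_eq_zero _ (inv_mem aQ)).2 (inv_mem (mem_zpowers a))] at h2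
  have h3 : s.u i ∈ zpowers a := (s.vec_eq_zero _ uQ).1 (funext fun j => by
    by_cases e : j = i
    · simpa [e] using h2
    · exact (s.uP i).2 j e)
  obtain ⟨n, hn⟩ := h3
  have h4 : Commute (s.v i) (s.u i) := hn ▸ (F3.k_Qa vQ).zpow_right n
  have h5 := s.vu i
  rw [h4.eq, mul_inv_cancel_right, left_eq_mul, inv_eq_one] at h5
  have := s.esz.orderOf_z
  rw [h5, orderOf_one] at this
  exact absurd this (by decide)

theorem k_sep (hk : k ∈ Q3 a ⊔ s.R) (i : Fin 3) (h : ∀ j, j ≠ i → s.mt k j ^ 2 = 1) : s.mt k i ^ 2 = 1 :=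
  s.W_sep s.σa s.k_σ.1 s.k_σ.2 s.ca s.cpm (s.k_chi 0) hk i h

/-- An element acting trivially on the last two planes. -/
theorem k_B (hg : Commute g a) (h0 : s.pm g = 1) (h1 : s.mt g 1 = 1) (h2 : s.mt g 2 = 1) :
    g ∈ Q3 a ∨ g * s.r 0 ∈ Q3 a := by
  have h3 : s.mt g 0 ^ 4 = 1 := by
    rw [← chi_eq_zero, s.chi_eq s.σa s.k_σ.1 s.k_σ.2 hg h0 0 1, h1]; decide
  have h4 := s.k_sep ((s.two g hg).2 ⟨h0, fun i => by rcases f3 i with rfl | rfl | rfl <;> simp [*]⟩) 0 fun j hj => by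
    rcases f3 j with rfl | rfl | rfl <;> simp_all
  rcases s_sq _ h4 with e | e
  · exact .inl ((s.ker g hg).2 ⟨h0, fun i => by rcases f3 i with rfl | rfl | rfl <;> assumption⟩)
  · refine .inr ((s.ker _ (hg.mul_left (s.k_ra 0))).2 ⟨s.k_pm_mul hg (s.k_ra 0) h0 (s.k_pm_r 0), fun i => ?_⟩)
    rw [s.k_mul hg (s.k_ra 0) (s.k_pm_r 0), s.r_mt]
    rcases f3 i with rfl | rfl | rfl <;> simp [*]

theorem k_ker (hg : g ∈ s.R) (h1 : s.mt g 1 = 1) (h2 : s.mt g 2 = 1) : g = 1 ∨ g = s.r 0 := by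
  rcases s.k_B (s.k_Ra hg) (s.pm_R hg).1 h1 h2 with e | e
  · exact .inl (s.R_inj hg ((s.ker g (s.k_Ra hg)).1 e).2)
  · have h3 := mul_mem hg (s.r_mem 0)
    exact .inr ((eq_inv_of_mul_eq_one_left (s.R_inj h3 ((s.ker _ (s.k_Ra h3)).1 e).2)).trans
      (inv_eq_of_mul_eq_one_right (s.r2 0)))

/-- The action of `R` on the last two planes. -/
def kτ : s.R →* LB.S3 × LB.S3 := MonoidHom.mk' (fun g => (s.mt g 1, s.mt g 2)) fun g h => by
  simp only [coe_mul, s.k_mul (s.k_Ra g.2) (s.k_Ra h.2) (s.pm_R h.2).1, Prod.mk_mul_mk]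

theorem k_W2 {m n : LB.S3} (hm : m ^ 4 = 1) (hn : n ^ 4 = 1) : ∃ g ∈ s.R, s.mt g 1 = m ∧ s.mt g 2 = n := by
  have h1 : s.kτ.range ≤ Q8.prod Q8 := by
    rintro _ ⟨g, rfl⟩
    exact ⟨(s.pm_R g.2).2 1, (s.pm_R g.2).2 2⟩
  have h2 : Nat.card s.kτ.ker ≤ 2 := by
    refine le_trans (Nat.card_le_card_of_injective (β := zpowers (s.r 0)) (fun g => ⟨g.1.1, by
      rcases s.k_ker g.1.2 (congrArg Prod.fst g.2) (congrArg Prod.snd g.2) with e | e <;> simp [e]⟩)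
      fun g h e => Subtype.ext (Subtype.ext (Subtype.mk.inj e))) ?_
    rw [Nat.card_zpowers, orderOf_eq_prime (p := 2) ((pow_two _).trans (s.r2 0)) (s.k_r1 0)]
  have h3 := s.kτ.ker.card_mul_index
  rw [index_ker, s.cardR] at h3
  have h4 : Nat.card (Q8.prod Q8) = 64 := by rw [Nat.card_congr (prodEquiv _ _).toEquiv, Nat.card_prod, card_Q8]
  obtain ⟨g, e⟩ := (eq_of_le_of_card_ge h1 (by rw [h4]; nlinarith)).ge (show (m, n) ∈ Q8.prod Q8 from ⟨hm, hn⟩)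
  exact ⟨g, g.2, congrArg Prod.fst e, congrArg Prod.snd e⟩

theorem k_W3 : ∃ g ∈ s.R, ∃ h ∈ s.R, g * h * g⁻¹ * h⁻¹ = s.r 0 := by
  obtain ⟨x, hx, x1, x2⟩ := s.k_W2 (one_pow 4) (qf_four (.a 1))
  obtain ⟨y, hy, y1, y2⟩ := s.k_W2 (one_pow 4) (qf_four (.xa 0))
  obtain ⟨z, hz, z1, z2⟩ := s.k_W2 (qf_four (.a 1)) (one_pow 4)
  have k : ∀ g ∈ s.R, ∀ i j : Fin 3, (∀ l, l ≠ j → l = 0 ∨ l = i) → s.mt g i = 1 → s.mt g j ^ 2 ≠ 1 → s.mt g 0 ^ 2 ≠ 1 :=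
    fun g hg i j h1 h2 h3 e => h3 (s.k_sep (mem_sup_right hg) j fun l hl => by
      rcases h1 l hl with rfl | rfl
      exacts [e, by rw [h2, one_pow]])
  have fin : ∀ g ∈ s.R, s.mt g 1 = 1 → s.mt g 0 * s.mt z 0 * (s.mt g 0)⁻¹ * (s.mt z 0)⁻¹ = -1 →
      g * z * g⁻¹ * z⁻¹ = s.r 0 := fun g hg g1 e => by
    have h1 : g * z * g⁻¹ * z⁻¹ ∈ s.R := mul_mem (mul_mem (mul_mem hg hz) (inv_mem hg)) (inv_mem hz)
    have h2 := s.k_comm (s.k_Ra hg) (s.pm_R hg).1 (s.k_Ra hz) (s.pm_R hz).1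
    refine (s.k_ker h1 (by rw [h2, g1]; simp) (by rw [h2, z2]; simp)).resolve_left fun e' => ?_
    rw [← h2, e', s.k_mt_one] at e
    exact absurd e (by decide)
  have m := s.k_mul (s.k_Ra hx) (s.k_Ra hy) (s.pm_R hy).1
  rcases s_com _ _ _ ((s.pm_R hx).2 0) ((s.pm_R hy).2 0) ((s.pm_R hz).2 0)
    (k x hx 1 2 (by decide) x1 (by rw [x2]; decide)) (k y hy 1 2 (by decide) y1 (by rw [y2]; decide))
    (k z hz 2 1 (by decide) z2 (by rw [z1]; decide))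
    (m 0 ▸ k _ (mul_mem hx hy) 1 2 (by decide) (by rw [m, x1, y1, mul_one]) (by rw [m, x2, y2]; decide)) with e | e
  exacts [⟨x, hx, z, hz, fin x hx x1 e⟩, ⟨y, hy, z, hz, fin y hy y1 e⟩]

/-- An element of `C(a) ∩ C(r₀)` centralising the last two factors. -/
theorem k_cen (hg : Commute g a) (hr : Commute g (s.r 0)) (h : ∀ q ∈ Q3 a, s.vec q 0 = 0 → Commute g q) :
    s.pm g = 1 ∧ s.mt g 1 = 1 ∧ s.mt g 2 = 1 := by
  have k : ∀ i : Fin 3, i ≠ 0 → ∀ v, ∃ q ∈ Q3 a, s.vec q = Pi.single i v ∧ g * q * g⁻¹ = q := fun i hi v => by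
    obtain ⟨q, hq, e⟩ := s.vec_surj (Pi.single i v)
    exact ⟨q, hq, e, by rw [(h q hq (by rw [e, Pi.single_eq_of_ne hi.symm])).eq, mul_inv_cancel_right]⟩
  have h0 : s.pm g = 1 := (p_one _ (s.k_fix hg hr)).resolve_right fun e => by
    obtain ⟨q, hq, e1, e2⟩ := k 1 (by decide) 1
    have := s.act g hg q hq 2
    rw [e2, e, e1] at this
    simp at this
  have h1 : ∀ i : Fin 3, i ≠ 0 → s.mt g i = 1 := fun i hi => s_fix _ fun v => by
    obtain ⟨q, hq, e1, e2⟩ := k i hi v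
    have := s.k_act hg h0 hq i
    rwa [e2, e1, Pi.single_eq_same, eq_comm] at this
  exact ⟨h0, h1 1 (by decide), h1 2 (by decide)⟩

end FJ

end Cfsg.Agent.T3
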