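import Mathlib
import Cfsg.Agent.T3.F0a
import Cfsg.Agent.GT.PiGroups

/-!
The hypotheses of S3368 give the linear model.
-/

set_option autoImplicit false

namespace Cfsg.Agent.T3

open Cfsg.Agent.Spor Cfsg.Agent.Rec Cfsg.Agent.Inv.Fz Cfsg.Agent.GT.PG Subgroup

universe u

theorem esz_of_zpowers {G : Type u} [Group G] {P : Subgroup G} {a z : G} (h : ESZ 3 P z) (ha : orderOf a = 3)
    (e : zpowers a = zpowers z) : ESZ 3 P a :=
  ⟨ha, e ▸ h.comm_mem, e ▸ h.pow_mem, e ▸ h.center_eq⟩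

/-- The hypotheses of S3368 give the linear model. -/
theorem exists_F3 {G : Type u} [Group G] [Finite G]
    (H : Subgroup G) (Q : Subgroup H) (hQF : Q = Cfsg.generalizedFittingSubgroup H) [hQn : Q.Normal]
    (hQex : Cfsg.IsExtraspecial 3 Q) (hQcard : Nat.card Q = 3 ^ 7)
    (hZZ : (Subgroup.center Q).map Q.subtype = Subgroup.center H)
    (P : Subgroup H) (hP : P = (Cfsg.pCore 2 (H ⧸ Q)).comap (QuotientGroup.mk' Q))
    (hPcard : Nat.card (Cfsg.pCore 2 (H ⧸ Q)) = 2 ^ 7)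
    (Q₁ Q₂ Q₃ : Subgroup H) (hle : Q₁ ≤ Q ∧ Q₂ ≤ Q ∧ Q₃ ≤ Q)
    (hZle : Subgroup.center H ≤ Q₁ ∧ Subgroup.center H ≤ Q₂ ∧ Subgroup.center H ≤ Q₃)
    (hex : Cfsg.IsExtraspecial 3 Q₁ ∧ Cfsg.IsExtraspecial 3 Q₂ ∧ Cfsg.IsExtraspecial 3 Q₃)
    (hcard : Nat.card Q₁ = 27 ∧ Nat.card Q₂ = 27 ∧ Nat.card Q₃ = 27)
    (hcomm : (∀ a ∈ Q₁, ∀ b ∈ Q₂, a * b = b * a) ∧ (∀ a ∈ Q₁, ∀ b ∈ Q₃, a * b = b * a) ∧ (∀ a ∈ Q₂, ∀ b ∈ Q₃, a * b = b * a))
    (hprod : Q₁ ⊔ Q₂ ⊔ Q₃ = Q)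
    (hnorm : ∀ x ∈ P, ∀ Qᵢ ∈ [Q₁, Q₂, Q₃], ∀ q ∈ Qᵢ, x * q * x⁻¹ ∈ Qᵢ)
    (hexp4 : ∀ x ∈ P, ∀ Qᵢ ∈ [Q₁, Q₂, Q₃], ∀ q ∈ Qᵢ, x ^ 4 * q * (x ^ 4)⁻¹ * q⁻¹ ∈ Subgroup.center H)
    (hinv : ∀ x ∈ P, ∀ Qᵢ ∈ [Q₁, Q₂, Q₃], (∀ q ∈ Qᵢ, x ^ 2 * q * (x ^ 2)⁻¹ * q⁻¹ ∈ Subgroup.center H) →
      (∀ q ∈ Qᵢ, x * q * x⁻¹ * q⁻¹ ∈ Subgroup.center H) ∨ (∀ q ∈ Qᵢ, x * q * x⁻¹ * q ∈ Subgroup.center H))
    (hcent : ∀ Qᵢ ∈ [Q₁, Q₂, Q₃], ∃ x ∈ P, (∀ q ∈ Qᵢ, x * q * x⁻¹ * q ∈ Subgroup.center H) ∧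
      ∀ Qⱼ ∈ [Q₁, Q₂, Q₃], Qⱼ ≠ Qᵢ → ∀ q ∈ Qⱼ, x * q * x⁻¹ * q⁻¹ ∈ Subgroup.center H)
    (Z : Subgroup G) (hZ : Z = (Subgroup.center H).map H.subtype) (hHC : H = Subgroup.centralizer (Z : Set G)) :
    ∃ a : G, Z = zpowers a ∧ (Cfsg.pCore 3 H).map H.subtype = Q3 a ∧ Nonempty (F3 a) := by
  have inj := H.subtype_injective
  obtain ⟨a, ha, -⟩ := exists_esz (hQex.of_mulEquiv (equivMapOfInjective _ _ inj))
  have Za : Z = zpowers a := by
    rw [← ha.center_eq, hZ, ← hZZ, map_center_subtype']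
    ext g
    constructor
    · rintro ⟨h, ⟨h1, h2⟩, rfl⟩
      refine ⟨⟨h, h1, rfl⟩, ?_⟩
      rintro _ ⟨k, hk, rfl⟩
      exact congrArg Subtype.val (h2 k hk)
    · rintro ⟨⟨h, h1, rfl⟩, h2⟩
      exact ⟨h, ⟨h1, fun k hk => Subtype.ext (h2 k ⟨k, hk, rfl⟩)⟩, rfl⟩
  have hH' : H = centralizer {a} := by rw [hHC, Za, zpowers_eq_closure, centralizer_closure]
  have eq : Q = pCore 3 H := le_antisymm (GT.le_pCore hQex.1.1) (hQF ▸ GT.pCore_le_genFitting Nat.prime_three)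
  have eQ : Q.map H.subtype = Q3 a := by rw [eq, Q3, pCoreOf, hH']
  refine ⟨a, Za, eq ▸ eQ, ?_⟩
  rw [eQ] at ha
  have cH : ∀ g, g ∈ H ↔ g * a = a * g := fun g => by rw [hH', mem_centralizer_singleton_iff]
  have zH : ∀ h : H, h ∈ center H ↔ (h : G) ∈ zpowers a := fun h => by
    rw [← Za, hZ]; exact (mem_map_iff_mem inj).symm
  have qH : ∀ h : H, h ∈ Q ↔ (h : G) ∈ Q3 a := fun h => by rw [← eQ]; exact (mem_map_iff_mem inj).symm
  have aH : a ∈ H := (cH a).2 rfl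
  let T : Fin 3 → Subgroup H := ![Q₁, Q₂, Q₃]
  have Tm : ∀ i, T i ∈ [Q₁, Q₂, Q₃] := fun i => by fin_cases i <;> simp [T]
  have Tle : ∀ i, T i ≤ Q := fun i => by fin_cases i; exacts [hle.1, hle.2.1, hle.2.2]
  have TZ : ∀ i, center H ≤ T i := fun i => by fin_cases i; exacts [hZle.1, hZle.2.1, hZle.2.2]
  have Tex : ∀ i, IsExtraspecial 3 (T i) := fun i => by fin_cases i; exacts [hex.1, hex.2.1, hex.2.2]
  have Tc : ∀ i, Nat.card (T i) = 27 := fun i => by fin_cases i; exacts [hcard.1, hcard.2.1, hcard.2.2]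
  have Tcm : ∀ i j, i ≠ j → ∀ u ∈ T i, ∀ v ∈ T j, u * v = v * u := by
    intro i j hij u hu v hv
    fin_cases i <;> fin_cases j
    exacts [absurd rfl hij, hcomm.1 u hu v hv, hcomm.2.1 u hu v hv, (hcomm.1 v hv u hu).symm, absurd rfl hij,
      hcomm.2.2 u hu v hv, (hcomm.2.1 v hv u hu).symm, (hcomm.2.2 v hv u hu).symm, absurd rfl hij]
  have ple : ∀ i, (T i).map H.subtype ≤ Q3 a := fun i => eQ ▸ map_mono (Tle i)
  have p27 : ∀ i, ∃ x y, P27 ((T i).map H.subtype) a x y := by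
    intro i
    obtain ⟨z, hz, hne⟩ := exists_esz ((Tex i).of_mulEquiv (equivMapOfInjective _ _ inj))
    have am : a ∈ (T i).map H.subtype := ⟨⟨a, aH⟩, TZ i ((zH _).2 (mem_zpowers a)), rfl⟩
    have az : zpowers a = zpowers z := hz.zpowers_eq_of_mem
      (hz.mem_zpowers_of_forall_commute am fun y hy => ha.commute_z (ple i hy)) ha.z_ne_one
    have es := esz_of_zpowers hz ha.orderOf_z az
    obtain ⟨x, hx, y, hy, xy⟩ := es.exists_pair (az ▸ hne)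
    exact ⟨x, y, es, by rw [card_map_of_injective inj, Tc], hx, hy, xy⟩
  choose x y p27 using p27
  have Tne : ∀ i j, j ≠ i → T j ≠ T i := by
    intro i j hij e
    obtain ⟨u, hu, eu⟩ := (p27 i).hx
    obtain ⟨v, hv, ev⟩ := (p27 i).hy
    have := congrArg Subtype.val (Tcm i j hij.symm u hu v (e ▸ hv))
    refine ha.z_ne_one ?_
    rw [← (p27 i).xy, ← eu, ← ev]
    exact commutatorElement_eq_one_iff_mul_comm.2 this
  have cP : Nat.card P = 2 ^ 7 * 3 ^ 7 := by rw [hP, GT.card_comap_mk', hPcard, hQcard]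
  have QP : Q ≤ P := fun q hq => by
    rw [hP, mem_comap, QuotientGroup.mk'_apply, (QuotientGroup.eq_one_iff q).2 hq]; exact one_mem _
  have Pn : P.Normal := hP ▸ Normal.comap inferInstance _
  obtain ⟨R, cR⟩ := Sylow.exists_subgroup_card_pow_prime 2 (G := P) (n := 7) (cP ▸ Dvd.intro _ rfl)
  have cR' : Nat.card ((R.map P.subtype).map H.subtype) = 128 := by
    rw [card_map_of_injective inj, card_map_of_injective P.subtype_injective, cR]; norm_num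
  have cQ' : Nat.card (Q3 a) = 3 ^ 7 := by rw [← eQ, card_map_of_injective inj, hQcard]
  refine S3D.nonempty_F3
    { P := fun i => (T i).map H.subtype
      x := x
      y := y
      M := P.map H.subtype
      R := (R.map P.subtype).map H.subtype
      esz := ha
      card := cQ'
      cen := fun g hg => ?_
      p27 := p27
      le := ple
      comm := ?_
      dec := fun q hq => ?_
      M_le := fun g hg => (cH g).1 (map_subtype_le _ hg)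
      M_eq := ?_
      cardR := cR'
      Mn := ?_
      max := fun N h1 h2 h3 g hg => ?_
      norm := ?_
      exp4 := ?_
      inv := ?_
      cent := fun i => ?_ }
  · have gH : g ∈ H := (cH g).2 (hg a ha.z_mem).symm
    have : (⟨g, gH⟩ : H) ∈ generalizedFittingSubgroup H := GT.centralizer_genFitting_le fun q hq =>
      Subtype.ext (hg q ((qH q).1 (hQF ▸ hq)))
    rw [← ha.center_eq]
    exact ⟨(qH _).1 (hQF ▸ this), hg⟩
  · rintro i j hij _ ⟨u, hu, rfl⟩ _ ⟨v, hv, rfl⟩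
    exact congrArg Subtype.val (Tcm i j hij u hu v hv)
  · rw [← eQ] at hq
    obtain ⟨q, hq, rfl⟩ := hq
    let L : Subgroup H :=
      { carrier := {q | ∃ u : Fin 3 → H, (∀ i, u i ∈ T i) ∧ q = u 0 * u 1 * u 2}
        one_mem' := ⟨1, fun i => one_mem _, by simp⟩
        mul_mem' := by
          rintro _ _ ⟨u, hu, rfl⟩ ⟨v, hv, rfl⟩
          refine ⟨u * v, fun i => mul_mem (hu i) (hv i), ?_⟩
          have c1 := Tcm 1 0 (by decide) _ (hu 1) _ (hv 0)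
          have c2 := Tcm 2 0 (by decide) _ (hu 2) _ (hv 0)
          have c3 := Tcm 2 1 (by decide) _ (hu 2) _ (hv 1)
          calc u 0 * u 1 * u 2 * (v 0 * v 1 * v 2) = u 0 * u 1 * (u 2 * v 0) * v 1 * v 2 := by group
            _ = u 0 * (u 1 * v 0) * (u 2 * v 1) * v 2 := by rw [c2]; group
            _ = _ := by rw [c1, c3]; simp only [Pi.mul_apply]; group
        inv_mem' := by
          rintro _ ⟨u, hu, rfl⟩
          refine ⟨u⁻¹, fun i => inv_mem (hu i), ?_⟩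
          have c1 := Tcm 1 0 (by decide) _ (hu 1) _ (hu 0)
          have c2 := Tcm 2 0 (by decide) _ (hu 2) _ (hu 0)
          have c3 := Tcm 2 1 (by decide) _ (hu 2) _ (hu 1)
          have : u 0 * u 1 * u 2 = u 2 * (u 1 * u 0) := by rw [c1, ← mul_assoc, c2, mul_assoc, mul_assoc, c3]
          rw [this]; simp only [Pi.inv_apply]; group }
    have : Q ≤ L := by
      rw [← hprod]
      refine sup_le (sup_le (fun u hu => ⟨![u, 1, 1], fun i => ?_, by simp⟩)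
        (fun u hu => ⟨![1, u, 1], fun i => ?_, by simp⟩)) (fun u hu => ⟨![1, 1, u], fun i => ?_, by simp⟩)
      · fin_cases i; exacts [hu, one_mem _, one_mem _]
      · fin_cases i; exacts [one_mem _, hu, one_mem _]
      · fin_cases i; exacts [one_mem _, one_mem _, hu]
    obtain ⟨u, hu, rfl⟩ := this hq
    exact ⟨fun i => u i, fun i => ⟨u i, hu i, rfl⟩, rfl⟩
  · have le : Q3 a ⊔ (R.map P.subtype).map H.subtype ≤ P.map H.subtype :=
      sup_le (eQ ▸ map_mono QP) (map_mono (map_subtype_le _))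
    refine eq_of_le_of_card_ge le (Nat.le_of_dvd Nat.card_pos ?_)
    rw [card_map_of_injective inj, cP]
    refine Nat.Coprime.mul_dvd_of_dvd_of_dvd (by norm_num) ?_ ?_
    · exact (show 2 ^ 7 = 128 by norm_num).trans cR'.symm ▸ card_dvd_of_le le_sup_right
    · exact cQ' ▸ card_dvd_of_le le_sup_left
  · rintro g hg _ ⟨m, hm, rfl⟩
    exact ⟨_, Pn.conj_mem m hm ⟨g, (cH g).2 hg⟩, rfl⟩
  · have NH : N ≤ H := fun g hg => (cH g).2 (h1 g hg)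
    have Nn : (N.subgroupOf H).Normal := ⟨fun m hm k => h2 k ((cH k).1 k.2) m hm⟩
    have := Nn.map (QuotientGroup.mk' Q) (QuotientGroup.mk'_surjective Q)
    have p2 : IsPGroup 2 ((N.subgroupOf H).map (QuotientGroup.mk' Q)) := by
      rintro ⟨_, m, hm, rfl⟩
      refine ⟨2, Subtype.ext ?_⟩
      change QuotientGroup.mk' Q m ^ 2 ^ 2 = 1
      rw [← map_pow, QuotientGroup.mk'_apply, QuotientGroup.eq_one_iff, qH]
      exact h3 m hm
    refine ⟨⟨g, NH hg⟩, ?_, rfl⟩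
    rw [hP]
    exact GT.le_pCore p2 ⟨⟨g, NH hg⟩, hg, rfl⟩
  · rintro _ ⟨m, hm, rfl⟩ i _ ⟨q, hq, rfl⟩
    exact ⟨_, hnorm m hm _ (Tm i) q hq, rfl⟩
  · rintro _ ⟨m, hm, rfl⟩ i _ ⟨q, hq, rfl⟩
    exact (zH _).1 (hexp4 m hm _ (Tm i) q hq)
  · rintro _ ⟨m, hm, rfl⟩ i h
    refine (hinv m hm _ (Tm i) fun q hq => (zH _).2 (h q ⟨q, hq, rfl⟩)).imp (fun h => ?_) fun h => ?_
    · rintro _ ⟨q, hq, rfl⟩
      exact (zH _).1 (h q hq)
    · rintro _ ⟨q, hq, rfl⟩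
      exact (zH _).1 (h q hq)
  · obtain ⟨m, hm, h1, h2⟩ := hcent _ (Tm i)
    refine ⟨m, ⟨m, hm, rfl⟩, ?_, fun j hj => ?_⟩
    · rintro _ ⟨q, hq, rfl⟩
      exact (zH _).1 (h1 q hq)
    · rintro _ ⟨q, hq, rfl⟩
      exact (zH _).1 (h2 _ (Tm j) (Tne i j hj) q hq)

end Cfsg.Agent.T3
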