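import Mathlib
import Cfsg.Agent.T3.FBas
import Cfsg.Agent.T3.FA1
import Cfsg.Agent.T3.LocB2

/-! `⟨a⟩` is not weakly closed in `Q3 a`. -/

set_option autoImplicit false
set_option linter.unusedSectionVars false

namespace Cfsg.Agent.T3

open Cfsg.Agent.Spor Cfsg.Agent.Rec Cfsg.Agent.Inv.Fz Cfsg.Agent.GT.PG Cfsg.Agent.T3.LB Subgroup

universe u

variable {G : Type u} [Group G] [Finite G]

namespace FA

variable {a x y q t p : G} {F : F3 a} {i j : Fin 3}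

theorem P_comm (h : j ≠ i) (hp : p ∈ F.P i) (hq : q ∈ F.P j) : Commute p q := by
  rw [Commute, SemiconjBy, F.commute_iff hp.1 hq.1, sf]
  refine Finset.sum_eq_zero fun l _ => ?_
  by_cases e : l = i
  · rw [hq.2 l (e ▸ h.symm)]; simp
  · rw [hp.2 l e]; simp

theorem exists_P (F : F3 a) (i : Fin 3) (c : Fin 2 → ZMod 3) : ∃ p ∈ F.P i, F.vec p i = c := by
  obtain ⟨p, hp, e⟩ := F.vec_surj (Pi.single i c)
  exact ⟨p, ⟨hp, fun j hj => by rw [e, Pi.single_eq_of_ne hj]⟩, by rw [e, Pi.single_eq_same]⟩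

theorem cyc3 : ∀ σ : Equiv.Perm (Fin 3), σ ≠ 1 → σ ^ 3 = 1 → σ 0 ≠ 0 ∧ σ (σ 0) ≠ 0 ∧ σ (σ 0) ≠ σ 0 ∧ σ (σ (σ 0)) = 0 ∧
    ∀ i, i = 0 ∨ i = σ 0 ∨ i = σ (σ 0) := by decide

/-- The normal form of an element permuting the three factors. -/
structure Nc (F : F3 a) (x : G) : Prop where
  cm : x * a = a * x
  x3 : x ^ 3 = 1
  pm : F.pm x ≠ 1
  mt : ∀ i, F.mt x i = 1

theorem exists_nc (F : F3 a) (hx : x * a = a * x) (h3 : x ^ 3 = 1) (h1 : F.pm x ≠ 1) : ∃ F' : F3 a, Nc F' x := by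
  obtain ⟨c1, c2, c3, c4, c5⟩ := cyc3 _ h1 (pm_cube F hx h3)
  obtain ⟨F', -, e1, e2, -⟩ := F.exists_rebase fun j => if j = 0 then 1 else if j = F.pm x 0 then (F.mt x 0)⁻¹ else
    (F.mt x 0)⁻¹ * (F.mt x (F.pm x 0))⁻¹
  refine ⟨F', hx, h3, by rwa [e1], fun i => ?_⟩
  rw [e2]
  rcases c5 i with rfl | rfl | rfl
  · simp [c1]
  · simp [c1, c2, c3]
  · simpa [c2, c3, c4, mul_assoc] using mt_cube F hx h3 0

/-- An involution acting like `r i`. -/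
structure Ri (F : F3 a) (i : Fin 3) (t : G) : Prop where
  t2 : t * t = 1
  cm : t * a = a * t
  pm : F.pm t = 1
  mt : ∀ j, F.mt t j = if j = i then -1 else 1

theorem ri_r (F : F3 a) (i : Fin 3) : Ri F i (F.r i) :=
  ⟨F.r2 i, mem_cen.1 (F.R_le (F.r_mem i)), (F.pm_R (F.r_mem i)).1, F.r_mt i⟩

theorem Ri.comm {s : G} (ht : Ri F i t) (hs : Ri F j s) (h : j ≠ i) : Commute t s := by
  have k : ∀ {i t}, Ri F i t → ∃ q ∈ F.P i, t = q * F.r i * q⁻¹ := fun {i t} ht => by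
    have r := ri_r F i
    refine F.conj_r i ht.t2 ((F.ker _ ((show Commute t a from ht.cm).mul_left r.cm)).2
      ⟨by rw [F.pm_mul _ _ ht.cm r.cm, ht.pm, r.pm, one_mul], fun j => ?_⟩)
    rw [mt_mul1 F ht.cm r.cm r.pm, ht.mt, r.mt]
    split_ifs <;> simp
  obtain ⟨p, hp, rfl⟩ := k ht
  obtain ⟨q, hq, rfl⟩ := k hs
  have c1 := P_comm h hp hq
  have c2 : Commute (F.r i) q := F.r_P h hq
  have c3 : Commute p (F.r j) := (F.r_P h.symm hp).symm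
  have c4 : Commute (F.r i) (F.r j) := F.r_comm i (F.r_mem j)
  have c5 := (c1.mul_right c3).mul_right c1.inv_right
  exact (c5.mul_left ((c2.mul_right c4).mul_right c2.inv_right)).mul_left c5.inv_left

theorem cj3 (h : x ^ 3 = 1) (g : G) : x * (x * (x * g * x⁻¹) * x⁻¹) * x⁻¹ = g := by
  calc _ = x ^ 3 * g * (x ^ 3)⁻¹ := by rw [pow_three']; group
    _ = g := by rw [h]; group

theorem fix3 (h : x ^ 3 = 1) {g : G} (h1 : Commute g (x * g * x⁻¹)) (h2 : Commute g (x * (x * g * x⁻¹) * x⁻¹)) :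
    g * (x * g * x⁻¹) * (x * (x * g * x⁻¹) * x⁻¹) * x = x * (g * (x * g * x⁻¹) * (x * (x * g * x⁻¹) * x⁻¹)) := by
  rw [eq_comm, ← mul_inv_eq_iff_eq_mul, ← conj_mul, ← conj_mul, cj3 h, ← (h1.mul_right h2).eq, mul_assoc g]

namespace Nc

variable (n : Nc F x)
include n

theorem vec (hq : q ∈ Q3 a) (i : Fin 3) : F.vec (x * q * x⁻¹) (F.pm x i) = F.vec q i := by
  rw [F.act x n.cm q hq, n.mt, Matrix.SpecialLinearGroup.coe_one, Matrix.one_mulVec]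

theorem cjP (hp : p ∈ F.P i) : x * p * x⁻¹ ∈ F.P (F.pm x i) := ⟨cjQ F n.cm hp.1, fun j hj => by
  obtain ⟨l, rfl⟩ := (F.pm x).surjective j
  rw [n.vec hp.1, hp.2 l fun e => hj (by rw [e])]⟩

theorem ri (ht : Ri F i t) : Ri F (F.pm x i) (x * t * x⁻¹) := by
  have c1 : Commute x a := n.cm
  have c2 := c1.mul_left ht.cm
  refine ⟨conj_sq ht.t2, c2.mul_left c1.inv_left, ?_, fun j => ?_⟩
  · rw [F.pm_mul _ _ c2 c1.inv_left, F.pm_mul _ _ c1 ht.cm, ht.pm, F.pm_inv c1]; simp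
  · obtain ⟨l, rfl⟩ := (F.pm x).surjective j
    rw [F.mt_mul _ _ c2 c1.inv_left, F.mt_inv c1, mt_mul1 F c1 ht.cm ht.pm, F.pm_inv c1, n.mt, n.mt, ht.mt]
    simp

theorem exists_rho : ∃ ρ : G, ρ * ρ = 1 ∧ ρ * a = a * ρ ∧ ρ * x = x * ρ ∧ F.pm ρ = 1 ∧ ∀ i, F.mt ρ i = -1 := by
  obtain ⟨c1, c2, c3, -, c5⟩ := cyc3 _ n.pm (pm_cube F n.cm n.x3)
  have r0 := ri_r F 0
  have r1 := n.ri r0
  have r2 := n.ri r1
  have e1 := r0.comm r1 c1
  have e2 := r0.comm r2 c2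
  have e3 := r1.comm r2 c3
  have a1 := (show Commute _ a from r0.cm).mul_left r1.cm
  refine ⟨_, ?_, a1.mul_left r2.cm, fix3 n.x3 e1 e2, ?_, fun i => ?_⟩
  · rw [← pow_two, (e2.mul_left e3).mul_pow, e1.mul_pow, pow_two, pow_two, pow_two, r0.t2, r1.t2, r2.t2]; simp
  · rw [F.pm_mul _ _ a1 r2.cm, F.pm_mul _ _ r0.cm r1.cm, r0.pm, r1.pm, r2.pm]; simp
  · rw [mt_mul1 F a1 r2.cm r2.pm, mt_mul1 F r0.cm r1.cm r1.pm, r0.mt, r1.mt, r2.mt]
    rcases c5 i with rfl | rfl | rfl <;> simp [c1, c2, c3, c1.symm, c2.symm, c3.symm]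

theorem exists_fix (c : Fin 2 → ZMod 3) : ∃ q ∈ Q3 a, q * x = x * q ∧ F.vec q 0 = c := by
  obtain ⟨c1, c2, -⟩ := cyc3 _ n.pm (pm_cube F n.cm n.x3)
  obtain ⟨p, hp, e⟩ := exists_P F 0 c
  have p1 := n.cjP hp
  have p2 := n.cjP p1
  refine ⟨_, mul_mem (mul_mem hp.1 p1.1) p2.1, fix3 n.x3 (P_comm c1 hp p1) (P_comm c2 hp p2), ?_⟩
  rw [F.vec_mul _ (mul_mem hp.1 p1.1) _ p2.1, F.vec_mul _ hp.1 _ p1.1, Pi.add_apply, Pi.add_apply, e, p1.2 0 c1.symm,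
    p2.2 0 c2.symm, add_zero, add_zero]

end Nc

theorem Pa.no9 (h : Pa a x) (n : Nc F x) : ¬ 9 ≤ Nat.card (Q3 a ⊓ Q3 x : Subgroup G) := fun h9 => by
  obtain ⟨-, -, -, c4, c5⟩ := cyc3 _ n.pm (pm_cube F n.cm n.x3)
  have d1 : (Finset.univ.filter fun w : W6 => ∀ i, w i = w 0).card = 9 := by decide +kernel
  have d2 : (Finset.univ.filter fun w : W6 => w 0 + w 1 + w 2 = 0).card = 81 := by decide +kernel
  let A := pre F (fun w => ∀ i, w i = w 0) (fun _ => rfl) fun w w' e e' i => by rw [Pi.add_apply, Pi.add_apply, e, e']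
  let Y := pre F (fun w => w 0 + w 1 + w 2 = 0) (by simp) fun w w' e e' => by
    simp only [Pi.add_apply]; linear_combination e + e'
  have h1 : Nat.card A = 27 := card_pre F _ _ _ d1
  have h2 : Nat.card Y = 243 := card_pre F _ _ _ d2
  have h3 : Q3 a ⊓ centralizer {x} ≤ A := fun q hq => ⟨hq.1, fun i => by
    have e := n.vec hq.1
    rw [← mem_cen.1 hq.2, mul_inv_cancel_right] at e
    rcases c5 i with rfl | rfl | rfl
    exacts [rfl, e 0, (e _).trans (e 0)]⟩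
  have h4 : ∀ q ∈ Y, kap x q ∈ A := fun q hq => ⟨kap_mem F h.cm hq.1, by
    have k : ∀ σ : Equiv.Perm (Fin 3), σ ≠ 1 → σ ^ 3 = 1 → (σ 0 = 1 ∧ σ 1 = 2 ∧ σ 2 = 0) ∨ σ 0 = 2 ∧ σ 1 = 0 ∧ σ 2 = 1 := by
      decide
    have k2 : ∀ s0 s1 s2 : Fin 2 → ZMod 3, s0 + s1 + s2 = 0 → s1 - s0 = s0 - s2 ∧ s2 - s1 = s0 - s2 ∧ s1 - s2 = s0 - s1 ∧
        s2 - s0 = s0 - s1 := by decide +kernel
    obtain ⟨k3, k4, k5, k6⟩ := k2 _ _ _ hq.2
    have e0 := n.vec hq.1 0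
    have e1 := n.vec hq.1 1
    have e2 := n.vec hq.1 2
    beta_reduce
    rw [vec_kap F h.cm hq.1, Fin.forall_fin_succ, Fin.forall_fin_two]
    rcases k _ n.pm (pm_cube F n.cm n.x3) with ⟨s0, s1, s2⟩ | ⟨s0, s1, s2⟩ <;> rw [s0] at e0 <;> rw [s1] at e1 <;>
      rw [s2] at e2 <;> simp only [Pi.sub_apply, Fin.succ_zero_eq_one, Fin.succ_one_eq_two, e0, e1, e2, true_and]
    exacts [⟨k3, k4⟩, ⟨k5, k6⟩]⟩
  have h5 : ∀ p ∈ A, ∀ q ∈ Y, p * q = q * p := fun p hp q hq => by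
    have e0 := congrFun hq.2 0
    have e1 := congrFun hq.2 1
    simp only [Pi.add_apply, Pi.zero_apply] at e0 e1
    rw [F.commute_iff hp.1 hq.1, sf, Fin.sum_univ_three, hp.2 1, hp.2 2]
    linear_combination F.vec p 0 0 * e1 - F.vec p 0 1 * e0
  have h6 : ∀ p ∈ Y, ∀ q ∈ Y, kap x p * kap x q = kap x (q * p) := fun p hp q hq => by
    calc _ = kap x p * q * (x * q⁻¹ * x⁻¹) := by rw [kap, kap]; group
      _ = _ := by rw [h5 _ (h4 p hp) q hq, kap, kap]; group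
  let K : Subgroup G :=
    { carrier := {s | ∃ q ∈ Y, kap x q = s}
      one_mem' := ⟨1, one_mem _, by simp [kap]⟩
      mul_mem' := by
        rintro _ _ ⟨p, hp, rfl⟩ ⟨q, hq, rfl⟩
        exact ⟨_, mul_mem hq hp, (h6 p hp q hq).symm⟩
      inv_mem' := by
        rintro _ ⟨p, hp, rfl⟩
        exact ⟨_, inv_mem hp, eq_inv_of_mul_eq_one_right (by rw [h6 p hp _ (inv_mem hp)]; simp [kap])⟩ }
  have h7 := orb_le (C := Y) (S := K) (x := x) fun q hq => ⟨q, hq, rfl⟩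
  have h8 := card_le_of_le ((inf_le_inf_right (centralizer {x}) (show Y ≤ Q3 a from fun _ h => h.1)).trans h3)
  have hB : Q3 a ⊓ Q3 x ≤ A := fun b hb => h3 ⟨hb.1, mem_cen.2 (qa (h.hf x h.ze).some hb.2)⟩
  have hK : K ≤ A := fun _ ⟨q, hq, e⟩ => e ▸ h4 q hq
  have hA : A ≤ Y := fun p hp => ⟨hp.1, by
    have k : ∀ s : Fin 2 → ZMod 3, s + s + s = 0 := by decide
    beta_reduce
    rw [hp.2 1, hp.2 2, k]⟩
  have h10 := card_le_of_le (sup_le hB hK)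
  rw [GT.card_sup_of_inf_eq_bot (fun b hb => mem_normalizer_of_conj_mem fun y hy => by
    rwa [h5 b (hB hb) y (hA (hK hy)), mul_inv_cancel_right]) (eq_bot_iff.2 fun b hb => by
      obtain ⟨hb, q, -, e⟩ := mem_inf.1 hb
      exact h.kill hb.1 hb.2 (e ▸ h.ze_kap q)), h1] at h10
  rw [h1] at h8
  rw [h2] at h7
  nlinarith

theorem mem_of_inv (F : F3 a) {b : G} (ht : t * a = a * t) (h1 : F.pm t = 1) (h2 : ∀ i, F.mt t i = 1 ∨ F.mt t i = -1)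
    (hb : b * a = a * b) (h3 : b ^ 3 = 1) (e : b * t * b = t) : b ∈ Q3 a := by
  have c : Commute (b * t) a := (show Commute b a from hb).mul_left ht
  have k1 : ∀ σ : Equiv.Perm (Fin 3), σ ^ 3 = 1 → σ * 1 * σ = 1 → σ = 1 := by decide
  have k2 : ∀ m s : S3, m * m * m = 1 → s = 1 ∨ s = -1 → m * s * m = s → m = 1 := by decide +kernel
  have h4 : F.pm b = 1 := k1 _ (pm_cube F hb h3) (by rw [← h1, ← F.pm_mul _ _ hb ht, ← F.pm_mul _ _ c hb, e])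
  refine (F.ker b hb).2 ⟨h4, fun i => k2 _ _ ?_ (h2 i) ?_⟩
  · simpa only [h4, Equiv.Perm.one_apply] using mt_cube F hb h3 i
  · rw [← mt_mul1 F hb ht h1, ← mt_mul1 F c hb h4, e]

theorem Pa.pm1 (h : Pa a x) (F : F3 a) : F.pm x = 1 := by
  by_contra h0
  obtain ⟨F, n⟩ := exists_nc F h.cm h.x3 h0
  obtain ⟨F'⟩ := h.hf x h.ze
  refine h.no9 n ?_
  by_cases h1 : F'.pm a = 1
  · have h2 := (h.symm.fix F' h1).1
    have h3 := (F.idx_nine h.cm n.pm (pm_cube F h.cm h.x3) (T := Q3 x ⊓ centralizer {a}) inf_le_right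
      (F'.esz.isPGroup.to_le inf_le_left)).1
    have h4 := relIndex_mul_card_inf (Q3 a) (Q3 x ⊓ centralizer {a})
    have h5 := card_le_of_le (inf_le_inf_left (Q3 a) (inf_le_left : Q3 x ⊓ centralizer {a} ≤ _))
    nlinarith
  obtain ⟨ρ, r2, ra, rx, r3, r4⟩ := n.exists_rho
  have k : ∀ s σ : Equiv.Perm (Fin 3), σ ≠ 1 → σ ^ 3 = 1 → s * s = 1 → s * σ = σ * s → s = 1 := by
    set_option synthInstance.maxSize 10000 in decide
  have r5 : F'.pm ρ = 1 := k _ _ h1 (pm_cube F' h.cm.symm h.symm.x3)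
    (by rw [← F'.pm_mul _ _ rx rx, r2, pmQ F' (one_mem _)])
    (by rw [← F'.pm_mul _ _ rx h.cm.symm, ra, F'.pm_mul _ _ h.cm.symm rx])
  have h2 : Function.Surjective fun b : (Q3 a ⊓ Q3 x : Subgroup G) => F.vec b 0 := fun c => by
    obtain ⟨q, hq, qx, e⟩ := n.exists_fix (-c)
    have c1 : Commute q x := qx
    have c2 : Commute ρ x := rx
    have b1 := kap_mem F ra hq
    refine ⟨⟨kap ρ q, b1, mem_of_inv F' rx r5 (F'.mt_invol rx (r2 ▸ one_mem _) r5)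
      (((c1.mul_left c2).mul_left c1.inv_left).mul_left c2.inv_left) (F.cube _ b1) ?_⟩, ?_⟩
    · calc _ = q * (ρ * ρ) * q⁻¹ * ρ⁻¹ := by rw [kap]; group
        _ = ρ := by rw [r2, inv_eq_of_mul_eq_one_right r2]; group
    · have k2 : ∀ c : Fin 2 → ZMod 3, -c - (-1 : S3).1.mulVec (-c) = c := by decide +kernel
      have := F.act ρ ra q hq 0
      rw [r3, r4, Equiv.Perm.one_apply] at this
      simp only [vec_kap F ra hq, Pi.sub_apply, this, e, k2]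
  simpa using Nat.card_le_card_of_surjective _ h2

theorem Pa.step (h : Pa a x) {k : Fin 3 → ZMod 3} (n : Nf F x k) (i : Fin 3) {ε : ZMod 3} (he : ε = 0 ∨ ε = k i) :
    ∃ V ∈ F.P i, ∃ U ∈ F.P i, V * x * V⁻¹ = U * x ∧ U * a ^ ε.val ∈ Q3 x ∧ F.vec U i 0 = -ε := by
  rcases he with rfl | rfl
  · exact ⟨1, one_mem _, 1, one_mem _, by simp, by simp, by rw [vec_z F (one_mem _)]; rfl⟩
  obtain ⟨F'⟩ := h.hf x h.ze
  obtain ⟨v, hv, e⟩ := exists_P F i ![0, 1]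
  have k0 := h.T2 n i
  have e1 := n.vec hv.1
  have e2 : F.vec (kap x v) i = ![-k i, 0] := by rw [e1]; simp [e]
  have hu : kap x v ∈ F.P i := ⟨kap_mem F h.cm hv.1, fun j hj => by rw [e1]; simp [hv.2 j hj]⟩
  have ux := (h.T3' n).2 _ hu.1 fun j => by rw [e1]; rfl
  have e0 := kap_mul x v
  generalize kap x v = u at e0 e2 hu ux
  have vu : v * u * v⁻¹ = a ^ (k i).val * u := by
    rw [← mul_inv_eq_iff_eq_mul, F.comm v hv.1 u hu.1, sf, Finset.sum_eq_single i (fun j _ hj => by simp [hv.2 j hj])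
      (by simp), e, e2]
    simp
  have ax : a * x = x * a := h.cm.symm
  have cz : Commute (a ^ (k i).val) x := (show Commute a x from ax).pow_left _
  have c1 : Commute (a ^ (k i).val * u) x := cz.mul_left ux
  have c2 : Commute (a ^ (k i).val * u * u) x := c1.mul_left ux
  have zQ : a ^ (k i).val ∈ zpowers a := pow_mem (mem_zpowers a) _
  have ch : ∀ y, y * x = x * y → Pa x (y * x) → F'.pm y = 1 ∧ ∀ j, chi (F'.mt y j) ≠ 0 := fun y yx hp => by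
    have p1 := hp.pm1 F'
    have p2 := (hp.fix F' p1).2
    rw [F'.pm_mul _ _ yx rfl, pmQ F' (aQ F'), mul_one] at p1
    exact ⟨p1, fun j => by simpa only [mt_mul1 F' yx rfl (pmQ F' (aQ F')), mtQ F' (aQ F'), mul_one] using p2 j⟩
  have k1 : ∀ s : ZMod 3, (![-s, 0] : Fin 2 → ZMod 3) = 0 → s = 0 := by decide
  have k2 : ∀ s : ZMod 3, (0 + ![-s, 0] + ![-s, 0] : Fin 2 → ZMod 3) = 0 → s = 0 := by decide
  have q1 := mul_mem (F.esz.zpowers_le zQ) hu.1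
  obtain ⟨u1, u2⟩ := ch u ux (h.next hu.1 (fun e3 => k0 (k1 _ (by rw [← e2, e3, vec_z F (one_mem _)]; rfl))) ux
    (e0 ▸ ze_cj h.ze v))
  have w2 := (ch _ c2 (h.next (mul_mem q1 hu.1) (fun e3 => k0 (k2 _ (by
    have := congrFun (vec_z F (one_mem (zpowers a))) i
    rwa [← e3, F.vec_mul _ q1 _ hu.1, F.vec_mul _ (F.esz.zpowers_le zQ) _ hu.1, vec_z F zQ, Pi.add_apply, Pi.add_apply,
      e2] at this))) c2 (by
    rw [show a ^ (k i).val * u * u * x = v * (v * x * v⁻¹) * v⁻¹ by rw [← vu, mul_assoc _ u, e0, conj_mul, e0]]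
    exact ze_cj (ze_cj h.ze v) v))).2
  have a1 := h.symm.pm1 F'
  have a2 := (h.symm.fix F' a1).2
  have pw : ∀ m : ℕ, F'.pm (a ^ m) = 1 ∧ ∀ j, chi (F'.mt (a ^ m) j) = m * chi (F'.mt a j) := fun m => by
    induction m with
    | zero => exact ⟨by rw [pow_zero, pmQ F' (one_mem _)], fun j => by
        rw [pow_zero, mtQ F' (one_mem _), (chi_eq_zero 1).2 (one_pow _)]; simp⟩
    | succ m ih =>
      have c : Commute (a ^ m) x := (show Commute a x from ax).pow_left _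
      exact ⟨by rw [pow_succ, F'.pm_mul _ _ c ax, ih.1, a1, one_mul], fun j => by
        rw [pow_succ, mt_mul1 F' c ax a1, chi_mul, ih.2]; push_cast; ring⟩
  refine ⟨v, hv, u, hu, e0.symm, ?_, by rw [e2]; rfl⟩
  rw [zc (qa F hu.1) zQ]
  have p1 : F'.pm (a ^ (k i).val * u) = 1 := by rw [F'.pm_mul _ _ cz ux, (pw _).1, u1, one_mul]
  refine (F'.ker _ c1).2 ⟨p1, fun j => ?_⟩
  have k3 : ∀ e al s : ZMod 3, e ≠ 0 → al ≠ 0 → s ≠ 0 → e * al + s + s ≠ 0 → e * al + s = 0 := by decide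
  have k4 : ∀ m : S3, m * m * m = 1 → chi m = 0 → m = 1 := by decide +kernel
  have e3 : chi (F'.mt (a ^ (k i).val * u) j) = k i * chi (F'.mt a j) + chi (F'.mt u j) := by
    rw [mt_mul1 F' cz ux u1, chi_mul, (pw _).2, ZMod.natCast_zmod_val]
  refine k4 _ (by simpa only [p1, Equiv.Perm.one_apply] using mt_cube F' c1 (F.cube _ q1) j) ?_
  rw [e3]
  exact k3 _ _ _ k0 (a2 j) (u2 j) (by rw [← e3, ← chi_mul, ← mt_mul1 F' c1 ux u1]; exact w2 j)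

theorem Pa.false (h : Pa a x) : False := by
  obtain ⟨F⟩ := h.hf a (ze_refl a)
  obtain ⟨F, k, n, -⟩ := exists_nf F h.cm h.x3 (h.pm1 F)
  have c : ∀ k : Fin 3 → ZMod 3, (∀ i, k i ≠ 0) → ∃ ε : Fin 3 → ZMod 3, (∀ i, ε i = 0 ∨ ε i = k i) ∧
      ε 0 + ε 1 + ε 2 = 0 ∧ ¬ (0 = -ε 0 ∧ 0 = -ε 1 ∧ 0 = -ε 2) := by decide +kernel
  obtain ⟨ε, h1, h2, h3⟩ := c k (h.T2 n)
  obtain ⟨V0, v0, U0, u0, e0, m0, w0⟩ := h.step n 0 (h1 0)
  obtain ⟨V1, v1, U1, u1, e1, m1, w1⟩ := h.step n 1 (h1 1)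
  obtain ⟨V2, v2, U2, u2, e2, m2, w2⟩ := h.step n 2 (h1 2)
  have z : ∀ i {U}, U ∈ Q3 a → a ^ (ε i).val * U = U * a ^ (ε i).val := fun i _ hU =>
    (zc (qa F hU) (pow_mem (mem_zpowers a) _)).symm
  have h4 : U2 * U1 * U0 = 1 := by
    refine h.kill (mul_mem (mul_mem u2.1 u1.1) u0.1) ?_ ?_
    · have := mul_mem (mul_mem m2 m1) m0
      rwa [show U2 * a ^ (ε 2).val * (U1 * a ^ (ε 1).val) * (U0 * a ^ (ε 0).val) = U2 * U1 * U0 by
        rw [mul_assoc U2, ← mul_assoc _ U1, z 2 u1.1, mul_assoc U1, ← pow_val_add F.esz.z_pow, ← mul_assoc U2,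
          mul_assoc (U2 * U1), ← mul_assoc _ U0, zc (qa F u0.1) (pow_mem (mem_zpowers a) _) |>.symm, mul_assoc U0,
          ← pow_val_add F.esz.z_pow, show ε 2 + ε 1 + ε 0 = 0 by rw [← h2]; ring]
        simp [mul_assoc]] at this
    · have := ze_cj (ze_cj (ze_cj h.ze V2) V1) V0
      rwa [e2, ← conj_mul (b := V1), e1, ← conj_mul (b := V0), ← conj_mul (b := V0) (a := U1), e0,
        (P_comm (by decide) v1 u2).eq, mul_inv_cancel_right, (P_comm (by decide) v0 u2).eq, mul_inv_cancel_right,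
        (P_comm (by decide) v0 u1).eq, mul_inv_cancel_right, ← mul_assoc, ← mul_assoc] at this
  have h5 := vec_z F (one_mem (zpowers a))
  rw [← h4, F.vec_mul _ (mul_mem u2.1 u1.1) _ u0.1, F.vec_mul _ u2.1 _ u1.1] at h5
  refine h3 ⟨?_, ?_, ?_⟩
  · simpa [u2.2 0 (by decide), u1.2 0 (by decide), w0] using (congrFun (congrFun h5 0) 0).symm
  · simpa [u2.2 1 (by decide), u0.2 1 (by decide), w1] using (congrFun (congrFun h5 1) 0).symm
  · simpa [u1.2 2 (by decide), u0.2 2 (by decide), w2] using (congrFun (congrFun h5 2) 0).symm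

end FA

/-- `⟨a⟩` is not weakly closed in `Q3 a`. -/
theorem HF.exists_ze_Q {a x : G} (h : HF a) (xa : x * a = a * x) (xz : ZE a x) (xn : x ∉ zpowers a) :
    ∃ y ∈ Q3 a, ZE a y ∧ y ∉ zpowers a := by
  by_contra hn
  exact FA.Pa.false ⟨h, fun y hy hz => not_not.1 fun e => hn ⟨y, hy, hz, e⟩, xz, xa, xn⟩

end Cfsg.Agent.T3
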