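import Mathlib
import Cfsg.Agent.T3.FBas

/-!
A conjugate `y` of `a` in `Q3 a`: symmetry, weak closure in two factors and normalised coordinates.
-/

set_option autoImplicit false
set_option linter.unusedSectionVars false

namespace Cfsg.Agent.T3.FB

open Cfsg.Agent.Spor Cfsg.Agent.Rec Cfsg.Agent.Inv.Fz Cfsg.Agent.GT.PG Subgroup LB

universe u

variable {G : Type u} [Group G] [Finite G] {a y : G}

theorem tv_vec : ∀ (k : ZMod 3) (v : Fin 2 → ZMod 3), (tv k).1.mulVec v = ![v 0 + k * v 1, v 1] := by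
  decide +kernel
theorem one_vec (v : Fin 2 → ZMod 3) : (1 : S3).1.mulVec v = v := by simp
theorem neg_vec : ∀ v : Fin 2 → ZMod 3, (-1 : S3).1.mulVec v = -v := by decide +kernel
theorem eq_tv : ∀ m : S3, m.1.mulVec ![1, 0] = ![1, 0] → m = tv (chi m) := by decide +kernel
theorem exists_b : ∀ v : Fin 2 → ZMod 3, v ≠ 0 → ∃ m : S3, m.1.mulVec v = ![1, 0] := by
  decide +kernel
theorem s_inv : ∀ m e : S3, (e = 1 ∨ e = -1) → m ^ 3 = 1 → e * m * e⁻¹ = m⁻¹ → m = 1 := by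
  decide +kernel
theorem p_inv : ∀ p : Equiv.Perm (Fin 3), p ^ 3 = 1 → p = p⁻¹ → p = 1 := by decide
theorem p_rot : ∀ p : Equiv.Perm (Fin 3), p ^ 3 = 1 → p ≠ 1 → p = finRotate 3 ∨ p⁻¹ = finRotate 3 := by
  decide
theorem p_det : ∀ p q : Equiv.Perm (Fin 3), p ^ 3 = 1 → q ^ 3 = 1 → p 0 = q 0 → p⁻¹ * q = 1 := by
  decide
theorem rot_ne : finRotate 3 ≠ 1 := by decide
theorem rot_cube : finRotate 3 ^ 3 = 1 := by decide
theorem tv_one_ne : tv 1 ≠ 1 := by decide +kernel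
theorem neg_ne : (-1 : S3) ≠ 1 := by decide +kernel

theorem w6_ext {w w' : W6} (h0 : ∀ i, w i 0 = w' i 0) (h1 : ∀ i, w i 1 = w' i 1) : w = w' := by
  funext i j
  fin_cases j
  exacts [h0 i, h1 i]

theorem sf_eq (w w' : W6) : sf w w' = w 0 0 * w' 0 1 - w 0 1 * w' 0 0 + (w 1 0 * w' 1 1 - w 1 1 * w' 1 0) +
    (w 2 0 * w' 2 1 - w 2 1 * w' 2 0) := Fin.sum_univ_three _

theorem relIndex_le {X : Type*} [Finite X] (H K : Subgroup G) (φ : G → X)
    (h : ∀ g ∈ K, ∀ g' ∈ K, φ g = φ g' → g⁻¹ * g' ∈ H) : H.relIndex K ≤ Nat.card X := by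
  refine Nat.card_le_card_of_injective (fun c : K ⧸ H.subgroupOf K => φ (c.out : K)) fun c d e => ?_
  rw [← c.out_eq, ← d.out_eq]
  exact QuotientGroup.eq.2 (h _ c.out.2 _ d.out.2 e)

theorem card_inf_mul (H K : Subgroup G) : Nat.card (H ⊓ K : Subgroup G) * H.relIndex K = Nat.card K := by
  rw [← Nat.card_congr (subgroupOfEquivOfLe (inf_le_right : H ⊓ K ≤ K)).toEquiv, inf_subgroupOf_right]
  exact card_mul_index _

theorem qa {q : G} (hq : q ∈ Q3 a) : q * a = a * q :=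
  mem_centralizer_singleton_iff.1 (GT.pCoreOf_le _ hq)
theorem cjQ {g q : G} (hg : g * a = a * g) (hq : q ∈ Q3 a) : g * q * g⁻¹ ∈ Q3 a :=
  (mem_normalizer_iff.1 (norm_Q3 hg) q).1 hq
theorem ci {g : G} (hg : g * a = a * g) : g⁻¹ * a = a * g⁻¹ := Commute.inv_left hg
theorem cm {g h : G} (hg : g * a = a * g) (hh : h * a = a * h) : g * h * a = a * (g * h) :=
  Commute.mul_left hg hh
theorem p3 {T : Subgroup G} (h : T ≤ Q3 y) : IsPGroup 3 T := (GT.isPGroup_pCoreOf 3 _).to_le h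

section basic

variable (F : F3 a)

include F in
theorem ord : orderOf a = 3 := F.esz.orderOf_z
include F in
theorem aQ : a ∈ Q3 a := F.esz.z_mem
include F in
theorem zQ {z : G} (hz : z ∈ zpowers a) : z ∈ Q3 a := F.esz.zpowers_le hz
theorem pmQ {q : G} (hq : q ∈ Q3 a) : F.pm q = 1 := ((F.ker q (qa hq)).1 hq).1
theorem mtQ {q : G} (hq : q ∈ Q3 a) (i : Fin 3) : F.mt q i = 1 := ((F.ker q (qa hq)).1 hq).2 i
theorem vec_z {z : G} (hz : z ∈ zpowers a) : F.vec z = 0 := (F.vec_eq_zero z (zQ F hz)).2 hz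
theorem ra (i : Fin 3) : F.r i * a = a * F.r i := mem_centralizer_singleton_iff.1 (F.R_le (F.r_mem i))
theorem rpm (i : Fin 3) : F.pm (F.r i) = 1 := (F.pm_R (F.r_mem i)).1
theorem rmt (i j : Fin 3) : F.mt (F.r i) j = 1 ∨ F.mt (F.r i) j = -1 := by
  rw [F.r_mt]; split_ifs <;> simp

theorem act1 {g q : G} (hg : g * a = a * g) (h : F.pm g = 1) (hq : q ∈ Q3 a) (i : Fin 3) :
    F.vec (g * q * g⁻¹) i = (F.mt g i).1.mulVec (F.vec q i) := by
  simpa [h] using F.act g hg q hq i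
theorem mt_mul1 {g h : G} (hg : g * a = a * g) (hh : h * a = a * h) (e : F.pm h = 1) (i : Fin 3) :
    F.mt (g * h) i = F.mt g i * F.mt h i := by
  simpa [e] using F.mt_mul g h hg hh i
theorem mt_inv1 {g : G} (hg : g * a = a * g) (e : F.pm g = 1) (i : Fin 3) :
    F.mt g⁻¹ i = (F.mt g i)⁻¹ := by
  simpa [e] using F.mt_inv hg i
theorem pm_inv1 {g : G} (hg : g * a = a * g) (e : F.pm g = 1) : F.pm g⁻¹ = 1 := by
  rw [F.pm_inv hg, e, inv_one]
theorem pm_cube {g : G} (hg : g * a = a * g) (h : g ^ 3 = 1) : F.pm g ^ 3 = 1 := by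
  rw [pow_three', ← F.pm_mul g g hg hg, ← F.pm_mul _ g (cm hg hg) hg, ← pow_three', h, pmQ F (one_mem _)]
theorem mt_cube {g : G} (hg : g * a = a * g) (e : F.pm g = 1) (h : g ^ 3 = 1) (i : Fin 3) :
    F.mt g i ^ 3 = 1 := by
  rw [pow_three', ← mt_mul1 F hg hg e, ← mt_mul1 F (cm hg hg) hg e, ← pow_three', h, mtQ F (one_mem _)]
theorem vec_div {p q : G} (hp : p ∈ Q3 a) (hq : q ∈ Q3 a) : F.vec (p * q⁻¹) = F.vec p - F.vec q := by
  rw [F.vec_mul p hp _ (inv_mem hq), F.vec_inv hq, sub_eq_add_neg]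

/-- The commutator with an element acting by transvections. -/
theorem vec_tv {g q : G} (hg : g * a = a * g) (h : F.pm g = 1) (hq : q ∈ Q3 a) {i : Fin 3} {k : ZMod 3}
    (e : F.mt g i = tv k) :
    F.vec (g * q * g⁻¹ * q⁻¹) i 0 = k * F.vec q i 1 ∧ F.vec (g * q * g⁻¹ * q⁻¹) i 1 = 0 := by
  rw [vec_div F (cjQ hg hq) hq]
  simp only [Pi.sub_apply, act1 F hg h hq, e, tv_vec]
  simp

theorem mem_of_inv {t b : G} (ht : t * a = a * t) (h1 : F.pm t = 1)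
    (h2 : ∀ i, F.mt t i = 1 ∨ F.mt t i = -1) (hb : b * a = a * b) (b3 : b ^ 3 = 1)
    (e : t * b * t⁻¹ = b⁻¹) : b ∈ Q3 a := by
  have hp : F.pm b = 1 := by
    refine p_inv _ (pm_cube F hb b3) ?_
    rw [← F.pm_inv hb, ← e, F.pm_mul _ _ (cm ht hb) (ci ht), F.pm_mul _ _ ht hb, pm_inv1 F ht h1, h1,
      one_mul, mul_one]
  refine (F.ker b hb).2 ⟨hp, fun i => s_inv _ _ (h2 i) (mt_cube F hb hp b3 i) ?_⟩
  rw [← mt_inv1 F hb hp, ← e, mt_mul1 F (cm ht hb) (ci ht) (pm_inv1 F ht h1), mt_mul1 F ht hb hp,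
    mt_inv1 F ht h1]

theorem mem_of_vec {K : Subgroup G} (ha : a ∈ K) {q p : G} (hq : q ∈ Q3 a) (hp : p ∈ Q3 a) (hK : p ∈ K)
    (h : F.vec q = F.vec p) : q ∈ K := by
  simpa using mul_mem (zpowers_le.2 ha ((F.vec_eq hq hp).1 h)) hK

theorem mem_of_vec3 {K : Subgroup G} (ha : a ∈ K) {q p1 p2 p3 : G} (hq : q ∈ Q3 a) (h1 : p1 ∈ Q3 a)
    (h2 : p2 ∈ Q3 a) (h3 : p3 ∈ Q3 a) (k1 : p1 ∈ K) (k2 : p2 ∈ K) (k3 : p3 ∈ K) (i j k : ZMod 3)
    (h : F.vec q = i • F.vec p1 + j • F.vec p2 + k • F.vec p3) : q ∈ K := by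
  have e1 := pow_mem h1 i.val
  have e2 := pow_mem h2 j.val
  have e3 := pow_mem h3 k.val
  refine mem_of_vec F ha hq (mul_mem (mul_mem e1 e2) e3)
    (mul_mem (mul_mem (pow_mem k1 _) (pow_mem k2 _)) (pow_mem k3 _)) ?_
  rw [F.vec_mul _ (mul_mem e1 e2) _ e3, F.vec_mul _ e1 _ e2, F.vec_pow h1, F.vec_pow h2, F.vec_pow h3, h]

theorem vec_zp {y z : G} (hy : y ∈ Q3 a) (y3 : orderOf y = 3) (hz : z ∈ zpowers y) :
    ∃ k : ZMod 3, F.vec z = k • F.vec y := by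
  obtain ⟨k, rfl⟩ := exists_val y3 hz
  exact ⟨k, F.vec_pow hy k⟩

include F in
theorem comm_z {p q : G} (hp : p ∈ Q3 a) (hq : q ∈ Q3 a) : p * q * p⁻¹ * q⁻¹ ∈ zpowers a :=
  F.esz.comm_mem p hp q hq

end basic

/-- `y` generates a conjugate of `⟨a⟩` in `Q3 a` different from `⟨a⟩`. -/
structure Pq (a y : G) : Prop where
  hf : HF a
  mem : y ∈ Q3 a
  ze : ZE a y
  nz : y ∉ zpowers a

namespace Pq

variable (h : Pq a y)
include h

theorem fa : Nonempty (F3 a) := h.hf a (ze_refl a)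
theorem fy : Nonempty (F3 y) := h.hf y h.ze

theorem eq_one {z : G} (h1 : z ∈ zpowers a) (h2 : z ∈ zpowers y) : z = 1 := by
  obtain ⟨F⟩ := h.fa
  obtain ⟨F'⟩ := h.fy
  by_contra hz
  exact h.nz (zp_eq (ord F) h1 hz ▸ (zp_eq (ord F') h2 hz).symm ▸ mem_zpowers y)

theorem symm : Pq y a := by
  obtain ⟨F⟩ := h.fa
  obtain ⟨F'⟩ := h.fy
  refine ⟨fun z hz => h.hf z (ze_trans h.ze hz), ?_, ze_symm h.ze, fun ha => ?_⟩
  · by_contra hn
    have h1 := F.card_le_of_comm (A := Q3 a ⊓ centralizer {y}) inf_le_left fun p hp q hq => by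
      have h2 := F'.comm_mem inf_le_right (p3 inf_le_left) hp hq
      by_contra h3
      rw [← mul_inv_eq_iff_eq_mul, ← mul_inv_eq_one] at h3
      exact hn (zpowers_le.2 h2 (zp_eq (ord F) (comm_z F hp.1 hq.1) h3 ▸ mem_zpowers a))
    rw [F.card_cen h.mem h.nz] at h1
    omega
  · exact F.esz.z_ne_one (h.eq_one (mem_zpowers a) ha)

theorem comm {p q : G} (hp : p ∈ Q3 a) (hp' : p ∈ Q3 y) (hq : q ∈ Q3 a) (hq' : q ∈ Q3 y) :
    p * q = q * p := by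
  obtain ⟨F⟩ := h.fa
  obtain ⟨F'⟩ := h.fy
  rw [← mul_inv_eq_iff_eq_mul, ← mul_inv_eq_one]
  exact h.eq_one (comm_z F hp hq) (comm_z F' hp' hq')

theorem card_star : Nat.card (Q3 y ⊓ centralizer {a} : Subgroup G) = 3 ^ 6 := by
  obtain ⟨F'⟩ := h.fy
  exact F'.card_cen h.symm.mem h.symm.nz

theorem nine_le : 9 ≤ (Q3 a).relIndex (Q3 y ⊓ centralizer {a}) := by
  obtain ⟨F⟩ := h.fa
  have h1 := card_inf_mul (Q3 a) (Q3 y ⊓ centralizer {a})
  have h2 := F.card_le_of_comm (A := Q3 a ⊓ (Q3 y ⊓ centralizer {a})) inf_le_left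
    fun p hp q hq => h.comm hp.1 hp.2.1 hq.1 hq.2.1
  rw [h.card_star] at h1
  by_contra! h3
  nlinarith

theorem vec_ne (F : F3 a) (i : Fin 3) : F.vec y i ≠ 0 := by
  intro h0
  obtain ⟨F'⟩ := h.fy
  have hty : F.r i * y = y * F.r i := by
    obtain ⟨p, hp, e⟩ := F.dec h.mem
    have hv : F.vec y = F.vec (p 0) + F.vec (p 1) + F.vec (p 2) := by
      rw [e, F.vec_mul _ (mul_mem (hp 0).1 (hp 1).1) _ (hp 2).1, F.vec_mul _ (hp 0).1 _ (hp 1).1]
    have hc : ∀ j, Commute (F.r i) (p j) := fun j => by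
      by_cases hj : j = i
      · subst hj
        have : F.vec (p j) = 0 := funext fun k => by
          by_cases hk : k = j
          · subst hk
            have h1 := congrFun hv k
            rw [h0] at h1
            fin_cases k
            · simpa [(hp 1).2 0 (by decide), (hp 2).2 0 (by decide)] using h1.symm
            · simpa [(hp 0).2 1 (by decide), (hp 2).2 1 (by decide)] using h1.symm
            · simpa [(hp 0).2 2 (by decide), (hp 1).2 2 (by decide)] using h1.symm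
          · exact (hp j).2 k hk
        obtain ⟨n, hn⟩ := (F.vec_eq_zero _ (hp j).1).1 this
        rw [← hn]
        exact Commute.zpow_right (ra F j) n
      · exact F.r_P hj (hp j)
    rw [e]
    exact ((hc 0).mul_right (hc 1)).mul_right (hc 2)
  have hr1 : F.r i ≠ 1 := fun e => neg_ne (by simpa [e, mtQ F (one_mem _)] using (F.r_mt i i).symm)
  obtain ⟨p, hp, q, hq, hne, tp, tq⟩ := F'.exists_inv hty (F.r2 i) hr1
  have key : ∀ w ∈ Q3 y, F.r i * w * (F.r i)⁻¹ = w⁻¹ → w ∈ Q3 a := fun w hw tw =>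
    mem_of_inv F (ra F i) (rpm F i) (rmt F i) ((om_eq_zero F'.esz h.symm.mem hw).1
      (om_fix_inv F'.esz hty h.symm.mem hw (ra F i).symm tw)).symm (F'.cube w hw) tw
  exact hne (h.comm (key p hp tp) hp (key q hq tq) hq)

end Pq

theorem wc (hf : HF a) (F : F3 a) : ∀ y ∈ Q3 a, ZE a y → ∀ i, F.vec y i = 0 → y ∈ zpowers a :=
  fun y hy hz i h0 => by_contra fun hn => (⟨hf, hy, hz, hn⟩ : Pq a y).vec_ne F i h0

theorem mt_eq_tv (F : F3 a) (hy : y ∈ Q3 a) (vy : ∀ i, F.vec y i = ![1, 0]) {g : G} (hg : g * a = a * g)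
    (gy : g * y = y * g) (i : Fin 3) : F.mt g i = tv (chi (F.mt g i)) := by
  have := F.act g hg y hy i
  rw [gy, mul_inv_cancel_right, vy, vy] at this
  exact eq_tv _ this.symm

theorem z_one : ∀ b : Fin 3 → ZMod 3, b ≠ 0 → b 0 + b 1 + b 2 = 0 → ∃ j : Fin 3, ∀ s : Fin 3 → ZMod 3,
    s 0 * b 0 = s 1 * b 1 → s 1 * b 1 = s 2 * b 2 → s j = 0 → s = 0 := by decide +kernel

theorem Pq.exists_pm (h : Pq a y) (F0 : F3 a) : ∃ σ ∈ Q3 y, σ * a = a * σ ∧ F0.pm σ ≠ 1 := by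
  by_contra! H
  obtain ⟨F'⟩ := h.fy
  choose b hb using fun i => exists_b _ (h.vec_ne F0 i)
  obtain ⟨F, hv, hp, -⟩ := F0.exists_rebase b
  rw [← hp] at H
  have vy : ∀ i, F.vec y i = ![1, 0] := fun i => by rw [hv, hb]
  set A := Q3 y ⊓ centralizer {a} with hA
  have gA : ∀ g ∈ A, g * a = a * g := fun g hg => mem_centralizer_singleton_iff.1 hg.2
  have hc : ∀ g ∈ A, ∀ e ∈ Q3 a, e ∈ Q3 y → ∃ l : ZMod 3, F.vec (g * e * g⁻¹ * e⁻¹) = l • F.vec y ∧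
      ∀ i, chi (F.mt g i) * F.vec e i 1 = l := fun g hg e he he' => by
    obtain ⟨l, hl⟩ := vec_zp F h.mem (ord F') (comm_z F' hg.1 he')
    refine ⟨l, hl, fun i => ?_⟩
    rw [← (vec_tv F (gA g hg) (H g hg.1 (gA g hg)) he
      (mt_eq_tv F h.mem vy (gA g hg) (qa hg.1) i)).1, hl]
    simp [vy]
  have hβ : ∀ e ∈ Q3 a, e ∈ Q3 y → ∀ i, F.vec e i 1 = 0 := by
    intro e he he'
    have h1 := (F.commute_iff h.mem he).1 (qa he').symm
    simp only [sf_eq, vy, Matrix.cons_val_zero, Matrix.cons_val_one, one_mul, zero_mul, sub_zero] at h1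
    by_contra hn
    obtain ⟨j, hj⟩ := z_one (fun i => F.vec e i 1) (fun e0 => hn (congrFun e0)) h1
    have h2 := relIndex_le (Q3 a) A (fun g => chi (F.mt g j)) fun g hg g' hg' eq => by
      have hm : g⁻¹ * g' ∈ A := mul_mem (inv_mem hg) hg'
      obtain ⟨l, -, hl⟩ := hc _ hm e he he'
      have h3 : chi (F.mt (g⁻¹ * g') j) = 0 := by
        have h4 := chi_mul (F.mt g j) (F.mt (g⁻¹ * g') j)
        rw [← mt_mul1 F (gA g hg) (gA _ hm) (H _ hm.1 (gA _ hm)), mul_inv_cancel_left] at h4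
        exact add_eq_left.1 (h4.symm.trans eq.symm)
      have e0 := hj (fun i => chi (F.mt (g⁻¹ * g') i)) ((hl 0).trans (hl 1).symm)
        ((hl 1).trans (hl 2).symm) h3
      refine (F.ker _ (gA _ hm)).2 ⟨H _ hm.1 (gA _ hm), fun i => ?_⟩
      rw [mt_eq_tv F h.mem vy (gA _ hm) (qa hm.1) i, ← tv_zero]
      exact congrArg tv (congrFun e0 i)
    have : 9 ≤ (Q3 a).relIndex A := h.nine_le
    rw [Nat.card_zmod] at h2
    omega
  have h1 := F'.card_mul_cen (A := Q3 a ⊓ A) (inf_le_right.trans inf_le_left)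
    ⟨h.mem, aQ F', mem_centralizer_singleton_iff.2 (qa h.mem)⟩
  have h2 : A ≤ Q3 y ⊓ centralizer ((Q3 a ⊓ A : Subgroup G) : Set G) := fun g hg =>
    ⟨hg.1, fun e he => by
      obtain ⟨l, hl, hl'⟩ := hc g hg e he.1 he.2.1
      rw [← hl' 0, hβ e he.1 he.2.1, mul_zero, zero_smul] at hl
      have := h.eq_one ((F.vec_eq_zero _ (mul_mem (cjQ (gA g hg) he.1) (inv_mem he.1))).1 hl)
        (comm_z F' hg.1 he.2.1)
      rw [mul_inv_eq_one, mul_inv_eq_iff_eq_mul] at this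
      exact this.symm⟩
  have h3 := card_le_of_le h2
  have h4 := card_inf_mul (Q3 a) A
  have h5 := F.idx_le (T := A) inf_le_right (p3 inf_le_left)
  rw [h.card_star] at h3 h4
  nlinarith

/-- The image of `Q3 a ⊓ Q3 y`. -/
def InE (w : W6) : Prop := w 0 1 = w 1 1 ∧ w 1 1 = w 2 1 ∧ w 0 0 + w 1 0 + w 2 0 = 0

theorem ncard_InE : {w | InE w}.ncard ≤ 27 := by
  have := Set.ncard_le_ncard_of_injOn (s := {w | InE w}) (t := Set.univ)
    (fun w : W6 => (w 0 1, w 0 0, w 1 0)) (fun _ _ => trivial) (fun w ⟨h1, h2, h3⟩ w' ⟨k1, k2, k3⟩ e => by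
      simp only [Prod.mk.injEq] at e
      obtain ⟨e1, e2, e3⟩ := e
      refine w6_ext (fun i => ?_) fun i => ?_ <;> fin_cases i
      · exact e2
      · exact e3
      · show w 2 0 = w' 2 0
        linear_combination h3 - k3 - e2 - e3
      · exact e1
      · show w 1 1 = w' 1 1
        rw [← h1, ← k1, e1]
      · show w 2 1 = w' 2 1
        rw [← h2, ← k2, ← h1, ← k1, e1])
  simpa [Set.ncard_univ] using this

/-- Normalised coordinates for the pair `(a, y)`. -/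
structure St (F : F3 a) (y σ x : G) : Prop where
  pq : Pq a y
  vy : ∀ i, F.vec y i = ![1, 0]
  σQ : σ ∈ Q3 y
  σa : σ * a = a * σ
  σpm : F.pm σ = finRotate 3
  σmt : ∀ i, F.mt σ i = 1
  xQ : x ∈ Q3 y
  xa : x * a = a * x
  xpm : F.pm x = 1
  xmt : ∀ i, F.mt x i = tv 1
  inE : ∀ q ∈ Q3 a, (q ∈ Q3 y ↔ InE (F.vec q))

/-- The commutator with `σ`. -/
theorem vec_rot (F : F3 a) {σ q : G} (σa : σ * a = a * σ) (σpm : F.pm σ = finRotate 3)
    (σmt : ∀ i, F.mt σ i = 1) (hq : q ∈ Q3 a) :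
    F.vec (σ * q * σ⁻¹ * q⁻¹) = ![F.vec q 2 - F.vec q 0, F.vec q 0 - F.vec q 1, F.vec q 1 - F.vec q 2] := by
  have h := fun i => F.act σ σa q hq i
  simp only [σpm, σmt, one_vec] at h
  rw [vec_div F (cjQ σa hq) hq]
  funext i
  fin_cases i
  · exact congrArg (· - F.vec q 0) (h 2)
  · exact congrArg (· - F.vec q 1) (h 0)
  · exact congrArg (· - F.vec q 2) (h 1)

theorem z_rot : ∀ x0 x1 x2 l : ZMod 3, x2 - x0 = l → x0 - x1 = l → x0 + x1 + x2 = 0 := by decide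

theorem z_pm : ∀ k : ZMod 3, k ≠ 0 → k = 1 ∨ -k = 1 := by decide

theorem Pq.exists_st (h : Pq a y) (F0 : F3 a) : ∃ (F : F3 a) (σ x : G), F.r = F0.r ∧ St F y σ x := by
  obtain ⟨F'⟩ := h.fy
  obtain ⟨σ, σQ, σa, σpm⟩ : ∃ σ ∈ Q3 y, σ * a = a * σ ∧ F0.pm σ = finRotate 3 := by
    obtain ⟨σ, h1, h2, h3⟩ := h.exists_pm F0
    rcases p_rot _ (pm_cube F0 h2 (F'.cube σ h1)) h3 with e | e
    · exact ⟨σ, h1, h2, e⟩
    · exact ⟨σ⁻¹, inv_mem h1, ci h2, by rw [F0.pm_inv h2, e]⟩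
  obtain ⟨b0, hb0⟩ := exists_b _ (h.vec_ne F0 0)
  obtain ⟨F, hv, hp, hm, -, hr⟩ := F0.exists_rebase
    ![b0, b0 * (F0.mt σ 0)⁻¹, b0 * (F0.mt σ 0)⁻¹ * (F0.mt σ 1)⁻¹]
  have σmt : ∀ i, F.mt σ i = 1 := by
    have h3 : F0.mt σ 2 * (F0.mt σ 1 * F0.mt σ 0) = 1 := by
      have e1 := F0.mt_mul σ (σ * σ) σa (cm σa σa) 0
      rw [F0.mt_mul σ σ σa σa, F0.pm_mul σ σ σa σa, σpm, ← pow_three, F'.cube σ σQ,
        mtQ F0 (one_mem _)] at e1
      exact e1.symm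
    intro i
    rw [hm, σpm]
    fin_cases i
    · show b0 * (F0.mt σ 0)⁻¹ * F0.mt σ 0 * b0⁻¹ = 1
      group
    · show b0 * (F0.mt σ 0)⁻¹ * (F0.mt σ 1)⁻¹ * F0.mt σ 1 * (b0 * (F0.mt σ 0)⁻¹)⁻¹ = 1
      group
    · show b0 * F0.mt σ 2 * (b0 * (F0.mt σ 0)⁻¹ * (F0.mt σ 1)⁻¹)⁻¹ = 1
      rw [eq_inv_of_mul_eq_one_left h3]; group
  rw [← hp] at σpm
  have vy : ∀ i, F.vec y i = ![1, 0] := by
    have h0 : F.vec y 0 = ![1, 0] := by rw [hv]; exact hb0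
    have h1 := fun i => F.act σ σa y h.mem i
    simp only [σpm, σmt, one_vec, qa σQ, mul_inv_cancel_right] at h1
    have h2 : F.vec y 1 = F.vec y 0 := h1 0
    have h3 : F.vec y 2 = F.vec y 1 := h1 1
    intro i
    fin_cases i
    exacts [h0, h2.trans h0, h3.trans (h2.trans h0)]
  clear hv hm hp hb0
  set A := Q3 y ⊓ centralizer {a} with hA
  have gA : ∀ g ∈ A, g * a = a * g := fun g hg => mem_centralizer_singleton_iff.1 hg.2
  have σ1 : F.pm σ ≠ 1 := σpm ▸ rot_ne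
  have σ3 : F.pm σ ^ 3 = 1 := σpm ▸ rot_cube
  have h9 : 9 ≤ (Q3 a).relIndex A := h.nine_le
  obtain ⟨x, xQ, xa, xpm, xmt⟩ : ∃ x ∈ Q3 y, x * a = a * x ∧ F.pm x = 1 ∧ ∀ i, F.mt x i = tv 1 := by
    obtain ⟨x, hx, xpm, xn⟩ : ∃ x ∈ A, F.pm x = 1 ∧ x ∉ Q3 a := by
      by_contra! H
      have := relIndex_le (Q3 a) A (fun g => F.pm g 0) fun g hg g' hg' e =>
        H _ (mul_mem (inv_mem hg) hg') (by
          rw [F.pm_mul _ _ (ci (gA g hg)) (gA g' hg'), F.pm_inv (gA g hg)]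
          exact p_det _ _ (pm_cube F (gA g hg) (F'.cube g hg.1)) (pm_cube F (gA g' hg') (F'.cube g' hg'.1)) e)
      rw [Nat.card_fin] at this
      omega
    have hk : ∀ i, F.mt x i = tv (chi (F.mt x 0)) := fun i => by
      rw [mt_eq_tv F h.mem vy (gA x hx) (qa hx.1) i, F.chi_eq σa σ1 σ3 (gA x hx) xpm i 0]
    rcases z_pm (chi (F.mt x 0)) (fun e => xn ((F.ker x (gA x hx)).2 ⟨xpm, fun i => by
      rw [hk, e, tv_zero]⟩)) with e | e
    · exact ⟨x, hx.1, gA x hx, xpm, fun i => by rw [hk, e]⟩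
    · exact ⟨x⁻¹, inv_mem hx.1, ci (gA x hx), pm_inv1 F (gA x hx) xpm, fun i => by
        rw [mt_inv1 F (gA x hx) xpm, hk, tv_inv, e]⟩
  have hE : ∀ q ∈ Q3 a, q ∈ Q3 y → InE (F.vec q) := fun q hq hq' => by
    obtain ⟨l, hl⟩ := vec_zp F h.mem (ord F') (comm_z F' xQ hq')
    obtain ⟨m, hm⟩ := vec_zp F h.mem (ord F') (comm_z F' σQ hq')
    have h1 : ∀ i, F.vec q i 1 = l := fun i => by
      simpa [hl, vy] using (vec_tv F xa xpm hq (xmt i)).1.symm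
    rw [vec_rot F σa σpm σmt hq] at hm
    have h2 := congrFun (congrFun hm 0) 0
    have h3 := congrFun (congrFun hm 1) 0
    simp only [Pi.smul_apply, vy, Matrix.cons_val_zero, Matrix.cons_val_one, smul_eq_mul, mul_one,
      Pi.sub_apply] at h2 h3
    exact ⟨by rw [h1, h1], by rw [h1, h1], z_rot _ _ _ m h2 h3⟩
  refine ⟨F, σ, x, hr, h, vy, σQ, σa, σpm, σmt, xQ, xa, xpm, xmt, fun q hq => ⟨hE q hq, fun hq' => ?_⟩⟩
  have aE : a ∈ Q3 a ⊓ A := ⟨aQ F, h.symm.mem, mem_centralizer_singleton_iff.2 rfl⟩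
  have h1 := card_inf_mul (Q3 a) A
  rw [h.card_star, le_antisymm (F.idx_nine σa σ1 σ3 (T := A) inf_le_right (p3 inf_le_left)).1 h9,
    F.card_eq inf_le_left aE] at h1
  have h2 : F.vec '' (Q3 a ⊓ A : Subgroup G) = {w | InE w} :=
    Set.eq_of_subset_of_ncard_le (by rintro _ ⟨e, he, rfl⟩; exact hE e he.1 he.2.1)
      (ncard_InE.trans (by omega))
  obtain ⟨e, he, ev⟩ : F.vec q ∈ F.vec '' (Q3 a ⊓ A : Subgroup G) := h2 ▸ hq'
  exact mem_of_vec F h.symm.mem hq he.1 he.2.1 ev.symm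

end Cfsg.Agent.T3.FB
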