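import Mathlib
import Cfsg.Agent.T3.FBas
import Cfsg.Agent.T3.Co
import Cfsg.Agent.Loc.CardProd
import Cfsg.Agent.NE.Tools

/-!
Sylow 3-subgroups of `C(r₀)` and fusion of the involutions `r₀`, `r₀ r₁`, `r₀ r₁ r₂`.
-/

set_option autoImplicit false
set_option linter.unusedSectionVars false

namespace Cfsg.Agent.T3

open Cfsg.Agent.Spor Cfsg.Agent.Rec Cfsg.Agent.Inv.Fz Cfsg.Agent.GT.PG Subgroup

universe u

variable {G : Type u} [Group G] [Finite G]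

namespace FC

theorem cmul {a g h : G} (hg : g * a = a * g) (hh : h * a = a * h) : g * h * a = a * (g * h) :=
  mem_cen.1 (mul_mem (mem_cen.2 hg) (mem_cen.2 hh))

theorem cinv {a g : G} (hg : g * a = a * g) : g⁻¹ * a = a * g⁻¹ := mem_cen.1 (inv_mem (mem_cen.2 hg))

theorem fix {x y : G} (h : x * y = y * x) : x * y * x⁻¹ = y := by rw [h, mul_inv_cancel_right]

theorem cmul' (g x y : G) : g * (x * y) * g⁻¹ = g * x * g⁻¹ * (g * y * g⁻¹) := by group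

theorem flip {g x y : G} (h : g * x * g⁻¹ = y) : g⁻¹ * y * g⁻¹⁻¹ = x := by rw [← h]; group

theorem cjinv {g x y : G} (h : g * x * g⁻¹ = y) : g * x⁻¹ * g⁻¹ = y⁻¹ := by rw [← h]; group

theorem cjinv' {g x y : G} (h : g * x * g⁻¹ = y⁻¹) : g * x⁻¹ * g⁻¹ = y := (cjinv h).trans (inv_inv y)

theorem cube (x y : G) : (x * y) ^ 3 = x * (y * x * y⁻¹) * (y * (y * x * y⁻¹) * y⁻¹) * y ^ 3 := by
  simp only [pow_succ, pow_zero]; group

theorem inv3 {x : G} (h : x ^ 3 = 1) : x * x = x⁻¹ := by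
  rw [eq_inv_iff_mul_eq_one, ← h]; simp only [pow_succ, pow_zero, one_mul]

theorem ord3 {x : G} (h : x ^ 3 = 1) (h1 : x ≠ 1) : orderOf x = 3 := orderOf_eq_prime h h1

theorem neg_fix : ∀ w : Fin 2 → ZMod 3, w = (-1 : LB.S3).1.mulVec w → w = 0 := by decide +kernel

theorem span2 : ∀ x y w : Fin 2 → ZMod 3, x 0 * y 1 - x 1 * y 0 ≠ 0 → ∃ j m : ZMod 3, w = j • x + m • y := by
  decide +kernel

theorem perm_fix : ∀ (σ : Equiv.Perm (Fin 3)) (i : Fin 3), σ i = i → σ ^ 2 = 1 := by decide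

theorem conj_neg : ∀ m : LB.S3, m * -1 * m⁻¹ = -1 := by decide +kernel

theorem neg_ne : (-1 : LB.S3) ≠ 1 := by decide +kernel

end FC

open FC

namespace F3

variable {a : G} (F : F3 a)

omit F in
theorem fc_Qa {q : G} (hq : q ∈ Q3 a) : q * a = a * q := mem_cen.1 (Co.Q3_le a hq)

theorem fc_ra (i : Fin 3) : F.r i * a = a * F.r i := mem_cen.1 (F.R_le (F.r_mem i))

theorem fc_pr (i : Fin 3) : F.pm (F.r i) = 1 := (F.pm_R (F.r_mem i)).1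

theorem fc_a1 (F : F3 a) : a ≠ 1 := F.esz.z_ne_one

theorem fc_aa (F : F3 a) : a * a ≠ 1 := fun e => F.fc_a1 (by rw [inv3 F.esz.z_pow] at e; simpa using e)

theorem fc_conj {g k : G} (hg : g * a = a * g) (hk : k * a = a * k) (pk : F.pm k = 1) :
    F.pm (g * k * g⁻¹) = 1 ∧ ∀ j, F.mt (g * k * g⁻¹) (F.pm g j) = F.mt g j * F.mt k j * (F.mt g j)⁻¹ := by
  refine ⟨?_, fun j => ?_⟩
  · rw [F.pm_mul _ _ (cmul hg hk) (cinv hg), F.pm_mul _ _ hg hk, pk, F.pm_inv hg, mul_one, mul_inv_cancel]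
  · rw [F.mt_mul _ _ (cmul hg hk) (cinv hg), F.mt_inv hg, F.pm_inv hg, F.mt_mul _ _ hg hk, pk]
    simp

/-- A 3-element fixing one of the factors fixes all of them. -/
theorem fc_pm3 {X : Subgroup G} (hX : IsPGroup 3 X) {g : G} (hg : g ∈ X) (ha : g * a = a * g) {i : Fin 3}
    (h : F.pm g i = i) : F.pm g = 1 := by
  let φ : centralizer ({a} : Set G) →* Equiv.Perm (Fin 3) :=
    MonoidHom.mk' (fun x => F.pm x) fun x y => F.pm_mul _ _ (mem_cen.1 x.2) (mem_cen.1 y.2)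
  obtain ⟨k, hk⟩ := hX ⟨g, hg⟩
  have h1 : (⟨g, mem_cen.2 ha⟩ : centralizer ({a} : Set G)) ^ 3 ^ k = 1 := Subtype.ext (by simpa using congrArg Subtype.val hk)
  have h2 : F.pm g ^ 3 ^ k = 1 := by
    have := map_pow φ ⟨g, mem_cen.2 ha⟩ (3 ^ k)
    rw [h1, map_one] at this
    exact this.symm
  exact Co.eq_one_of_cop (perm_fix _ i h) h2 (Nat.Coprime.pow_right k (by norm_num))

theorem fc_vec0 {t q : G} (ht : t * a = a * t) (pt : F.pm t = 1) {i : Fin 3} (mt : F.mt t i = -1) (hq : q ∈ Q3 a)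
    (h : t * q = q * t) : F.vec q i = 0 := by
  have := F.act t ht q hq i
  rw [fix h, pt, mt] at this
  exact neg_fix _ this

theorem fc_PP {i j : Fin 3} (h : i ≠ j) {p q : G} (hp : p ∈ F.P i) (hq : q ∈ F.P j) : p * q = q * p := by
  refine (F.commute_iff hp.1 hq.1).2 (Finset.sum_eq_zero fun k _ => ?_)
  by_cases e : k = i
  · rw [hq.2 k (e ▸ h)]; simp
  · rw [hp.2 k e]; simp

theorem fc_zP (i : Fin 3) : zpowers a ≤ F.P i := fun z hz =>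
  ⟨F.esz.zpowers_le hz, fun j _ => by rw [(F.vec_eq_zero z (F.esz.zpowers_le hz)).2 hz]; rfl⟩

theorem fc_z {i : Fin 3} {p : G} (hp : p ∈ F.P i) (h : F.vec p i = 0) : p ∈ zpowers a :=
  (F.vec_eq_zero p hp.1).1 (funext fun j => by
    by_cases e : j = i
    exacts [e ▸ h, hp.2 j e])

theorem fc_normP {g : G} (hg : g * a = a * g) (pg : F.pm g = 1) (i : Fin 3) : g ∈ normalizer (F.P i : Set G) :=
  mem_normalizer_of_conj_mem fun p hp => ⟨conj_mem_of_mem_norm (norm_Q3 hg) hp.1, fun j hj => by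
    have := F.act g hg p hp.1 j
    rw [pg, hp.2 j hj, Matrix.mulVec_zero] at this
    exact this⟩

theorem fc_dec12 {q : G} (hq : q ∈ F.P 1 ⊔ F.P 2) : ∃ p ∈ F.P 1, ∃ p' ∈ F.P 2, q = p * p' :=
  (mem_sup_iff_of_le_normalizer fun _ hp => Co.norm_of_comm fun _ hp' => F.fc_PP (by decide) hp hp').1 hq

theorem fc_mem12 {q : G} : q ∈ F.P 1 ⊔ F.P 2 ↔ q ∈ Q3 a ∧ F.vec q 0 = 0 := by
  constructor
  · intro hq
    obtain ⟨p, hp, p', hp', rfl⟩ := F.fc_dec12 hq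
    exact ⟨mul_mem hp.1 hp'.1, by
      rw [F.vec_mul p hp.1 p' hp'.1, Pi.add_apply, hp.2 0 (by decide), hp'.2 0 (by decide), add_zero]⟩
  · rintro ⟨hq, h⟩
    obtain ⟨p, hp, rfl⟩ := F.dec hq
    rw [F.vec_mul _ (mul_mem (hp 0).1 (hp 1).1) _ (hp 2).1, F.vec_mul _ (hp 0).1 _ (hp 1).1, Pi.add_apply, Pi.add_apply,
      (hp 1).2 0 (by decide), (hp 2).2 0 (by decide), add_zero, add_zero] at h
    exact mul_mem (mem_sup_left (mul_mem (F.fc_zP 1 (F.fc_z (hp 0) h)) (hp 1))) (mem_sup_right (hp 2))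

theorem fc_12K : F.P 1 ⊔ F.P 2 ≤ centralizer {F.r 0} :=
  sup_le (fun _ hp => mem_cen.2 (F.r_P (by decide) hp).symm) fun _ hp => mem_cen.2 (F.r_P (by decide) hp).symm

theorem fc_QK {q : G} (hq : q ∈ Q3 a) (h : q ∈ centralizer {F.r 0}) : q ∈ F.P 1 ⊔ F.P 2 :=
  F.fc_mem12.2 ⟨hq, F.fc_vec0 (F.fc_ra 0) (F.fc_pr 0) (by rw [F.r_mt]; rfl) hq (mem_cen.1 h).symm⟩

theorem fc_card12 : Nat.card (F.P 1 ⊔ F.P 2 : Subgroup G) = 3 ^ 5 := by
  have h := Loc.card_sup_mul_card_inf_of_le_normalizer (H := F.P 1) (K := F.P 2)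
    fun _ hp => Co.norm_of_comm fun _ hp' => F.fc_PP (by decide) hp hp'
  have e : F.P 1 ⊓ F.P 2 = zpowers a :=
    le_antisymm (fun p hp => F.fc_z hp.1 (hp.2.2 1 (by decide))) (le_inf (F.fc_zP 1) (F.fc_zP 2))
  rw [e, F.esz.card_zpowers, F.card_P, F.card_P] at h
  omega

/-- The permutation of an element commuting with `t` preserves the signs of `t`. -/
theorem fc_sign {g t : G} (hg : g * a = a * g) (ht : t * a = a * t) (pt : F.pm t = 1) (h : g * t = t * g) (j : Fin 3) :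
    F.mt t (F.pm g j) = F.mt g j * F.mt t j * (F.mt g j)⁻¹ := by
  have := (F.fc_conj hg ht pt).2 j
  rwa [fix h] at this

/-- An element of `Q` commuting with `c` does not change the cube. -/
theorem fc_cube (F : F3 a) {c d w : G} (hc : c * a = a * c) (hd : d ∈ Q3 a) (hw : w ∈ Q3 a) (h : c * d = d * c) :
    (d * (w * c)) ^ 3 = (w * c) ^ 3 := by
  have hz : w * d * w⁻¹ * d⁻¹ ∈ zpowers a := F.esz.comm_mem w hw d hd
  set z := w * d * w⁻¹ * d⁻¹ with hzd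
  have e1 : w * c * d * (w * c)⁻¹ = z * d := by rw [hzd, mul_assoc w, h]; group
  have e2 : w * c * z * (w * c)⁻¹ = z := fix (Co.comm_zpowers (cmul (fc_Qa hw) hc) z hz)
  have e3 : d * z = z * d := Co.comm_zpowers (fc_Qa hd) z hz
  have e4 : z ^ 3 = 1 := F.esz.pow_eq_one_of_mem_zpowers hz
  have e5 := F.cube d hd
  rw [FC.cube, e1, cmul', e1, e2, mul_eq_right]
  calc _ = d * z * d * z * z * d := by group
    _ = z * z * z * (d * d * d) := by simp only [mul_assoc, e3, NE.comm_assoc e3]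
    _ = 1 := by
      rw [pow_three'] at e4 e5
      rw [e4, e5, mul_one]

end F3

namespace FJ

variable {a : G} (s : FJ a)

theorem fc_uv (i : Fin 3) : s.v i * s.u i ≠ s.u i * s.v i := fun e => by
  have := s.vu i
  rw [fix e] at this
  exact s.fc_a1 (by simpa using this)

theorem fc_cv (i : Fin 3) : s.c * s.v i * s.c⁻¹ = a * s.u i * s.v i := by
  have h := s.vc i
  have h1 := s.cu i
  calc _ = a * s.u i * (s.u i)⁻¹ * a⁻¹ * s.c * s.v i * s.c⁻¹ := by group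
    _ = a * s.u i * (s.c * (s.u i)⁻¹ * a⁻¹) * s.v i * s.c⁻¹ := by
      rw [mul_assoc _ a⁻¹, (cinv s.ca.symm), ← (cinv h1.symm)]; group
    _ = _ := by rw [← h]; group

theorem fc_vc' (i : Fin 3) : (s.v i)⁻¹ * s.c * s.v i = s.c * s.u i * a⁻¹ := by
  have h : s.v i * (s.c * s.u i * a⁻¹) * (s.v i)⁻¹ = s.c := by
    rw [cmul', cmul', s.vc, s.vu, fix (cinv (F3.fc_Qa (s.vP i).1).symm).symm]
    have h1 := cinv (F3.fc_Qa (s.uP i).1).symm
    calc _ = s.c * ((s.u i)⁻¹ * (a⁻¹ * s.u i)) * a⁻¹ * a⁻¹ := by group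
      _ = s.c * (a ^ 3)⁻¹ := by rw [h1]; group
      _ = _ := by rw [s.esz.z_pow]; group
  simpa using flip h

/-- No element of `Q c` commutes with `v i`. -/
theorem fc_nc {q : G} (hq : q ∈ Q3 a) (i : Fin 3) : q * s.c * s.v i ≠ s.v i * (q * s.c) := fun e => by
  have h1 : q * (a * s.u i * s.v i) * q⁻¹ = s.v i := by
    rw [← s.fc_cv]
    exact Eq.trans (by group) (fix e)
  have hu := (s.uP i).1
  have hv := (s.vP i).1
  have hz : q * (s.u i * s.v i) * q⁻¹ * (s.u i * s.v i)⁻¹ ∈ zpowers a := s.esz.comm_mem q hq _ (mul_mem hu hv)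
  have h2 : s.u i ∈ zpowers a := by
    have h3 : q * (s.u i * s.v i) * q⁻¹ = a⁻¹ * s.v i := by
      rw [mul_assoc a, cmul' q a, fix (F3.fc_Qa hq)] at h1
      exact eq_inv_mul_of_mul_eq h1
    rw [h3] at hz
    simpa using mul_mem (mem_zpowers a) hz
  exact s.fc_uv i (Co.comm_zpowers (F3.fc_Qa hv) _ h2)

theorem fc_cQ : s.c ∉ Q3 a := fun h => s.fc_nc (inv_mem h) 0 (by simp)

theorem fc_c1 : s.c ≠ 1 := fun e => s.fc_cQ (e ▸ one_mem _)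

theorem exists_h (s : FJ a) :
    ∃ h, h * s.r 0 = s.r 0 * h ∧ h * a * h⁻¹ * a = a * (h * a * h⁻¹) ∧ h * a * h⁻¹ ∉ zpowers a := by
  have ti : s.t⁻¹ = s.t := inv_eq_of_mul_eq_one_right s.t2
  have tt : ∀ x, s.t * (s.t * x * s.t⁻¹) * s.t⁻¹ = x := fun x => by
    calc _ = s.t * s.t * x * (s.t * s.t)⁻¹ := by group
      _ = x := by rw [s.t2]; group
  have hQ : cj s.t (Q3 a) = Q3 s.c := by
    rw [← Q3_cj]
    rcases s.ta with e | e <;> rw [e]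
    exact Co.Q3_inv _
  have mQ : ∀ x, x ∈ Q3 s.c ↔ s.t * x * s.t⁻¹ ∈ Q3 a := fun x => by rw [← hQ, mem_cj, ti]
  have tc : s.t * s.c * s.t⁻¹ = a ∨ s.t * s.c * s.t⁻¹ = a⁻¹ := by
    rcases s.ta with e | e
    · exact .inl (by rw [← e, tt])
    · exact .inr (by rw [← inv_inv s.c, ← e, ← tt a⁻¹]; group)
  have aQ : a ∉ Q3 s.c := fun h => by
    rw [mQ] at h
    rcases s.ta with e | e <;> rw [e] at h
    exacts [s.fc_cQ h, s.fc_cQ (by simpa using h)]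
  have cQ : s.c ∈ Q3 s.c := by
    rw [mQ]
    rcases tc with e | e <;> rw [e]
    exacts [s.esz.z_mem, inv_mem s.esz.z_mem]
  have zc : ZE a s.c := by
    rcases s.ta with e | e
    · exact e ▸ Co.ze_cj (Co.ze_self a) _
    · exact inv_inv s.c ▸ Co.ze_inv (e ▸ Co.ze_cj (Co.ze_self a) _)
  have jm : a ∈ s.J ∧ s.c ∈ s.J ∧ s.u 1 ∈ s.J := ⟨mem_clos (by simp), mem_clos (by simp), mem_clos (by simp)⟩
  obtain ⟨w, hw, hJ, hn⟩ : ∃ w ∈ s.toF3.P 1, w * s.c * w⁻¹ ∈ s.J ∧ w * s.c * w⁻¹ ∉ Q3 s.c := by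
    by_cases e : s.v 1 * s.c * (s.v 1)⁻¹ ∈ Q3 s.c
    · refine ⟨(s.v 1)⁻¹, inv_mem (s.vP 1), ?_, fun e' => aQ ?_⟩
      · rw [inv_inv, s.fc_vc']; exact mul_mem (mul_mem jm.2.1 jm.2.2) (inv_mem jm.1)
      · rw [inv_inv, s.fc_vc'] at e'
        rw [s.vc] at e
        have h1 := mul_mem (mul_mem (inv_mem cQ) e) (mul_mem (inv_mem cQ) e')
        have h2 := cinv (F3.fc_Qa (s.uP 1).1).symm
        have h3 : s.c⁻¹ * (s.c * (s.u 1)⁻¹ * a⁻¹) * (s.c⁻¹ * (s.c * s.u 1 * a⁻¹)) = a := by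
          calc _ = (s.u 1)⁻¹ * (a⁻¹ * s.u 1) * a⁻¹ := by group
            _ = (a * a)⁻¹ := by rw [h2]; group
            _ = a := by rw [inv3 s.esz.z_pow, inv_inv]
        rwa [h3] at h1
    · refine ⟨s.v 1, s.vP 1, ?_, e⟩
      rw [s.vc]; exact mul_mem (mul_mem jm.2.1 (inv_mem jm.2.2)) (inv_mem jm.1)
  set c' := w * s.c * w⁻¹ with hc'
  have rc : s.r 0 * c' = c' * s.r 0 :=
    (mem_cen.1 (mul_mem (mul_mem (s.fc_12K (mem_sup_left hw)) (mem_cen.2 (s.cr 0))) (inv_mem (s.fc_12K (mem_sup_left hw))))).symm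
  have ac : c' * a = a * c' := cmul (cmul (F3.fc_Qa hw.1) s.ca) (cinv (F3.fc_Qa hw.1))
  have nQ : c' ∉ Q3 a := fun h => s.fc_cQ (by simpa [hc', mul_assoc] using mul_mem (mul_mem (inv_mem hw.1) h) hw.1)
  obtain ⟨q, hq, e⟩ := (s.ze _ (conj_mem_of_mem_norm s.tJ hJ) (Co.ze_cj (Co.ze_cj zc w) _)).resolve_left
    fun h => hn ((mQ _).2 h)
  obtain ⟨y, hy, h0, hh0, e0⟩ : ∃ y, (y = c' ∨ y = c'⁻¹) ∧ ∃ h0 ∈ Q3 s.c, h0 * a * h0⁻¹ = y := by
    have h1 : (s.t * q * s.t⁻¹)⁻¹ ∈ Q3 s.c := inv_mem ((mQ _).2 (by rw [tt]; exact hq))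
    have h2 : s.t * (q * (s.t * c' * s.t⁻¹) * q⁻¹) * s.t⁻¹ = s.t * q * s.t⁻¹ * c' * (s.t * q * s.t⁻¹)⁻¹ := by
      rw [cmul', cmul', tt]; group
    have h3 : s.t * q * s.t⁻¹ * c' * (s.t * q * s.t⁻¹)⁻¹ = a ∨ s.t * q * s.t⁻¹ * c' * (s.t * q * s.t⁻¹)⁻¹ = a⁻¹ := by
      rw [← h2]
      rcases e with e | e <;> rw [e]
      · exact tc
      · rcases tc with k | k
        · exact .inr (cjinv k)
        · exact .inl (cjinv' k)
    refine ⟨_, ?_, _, h1, rfl⟩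
    rcases h3 with k | k
    · exact .inl (flip k)
    · exact .inr (flip (cjinv' k))
  have ry : s.r 0 * y * (s.r 0)⁻¹ = y := by
    rcases hy with k | k <;> rw [k]
    exacts [fix rc, fix (cinv rc.symm).symm]
  have r2 : ∀ x, s.r 0 * (s.r 0 * x * (s.r 0)⁻¹) * (s.r 0)⁻¹ = x := fun x => by
    calc _ = s.r 0 * s.r 0 * x * (s.r 0 * s.r 0)⁻¹ := by group
      _ = x := by rw [s.r2]; group
  set h1 := s.r 0 * h0 * (s.r 0)⁻¹ with hh1
  have m1 : h1 ∈ Q3 s.c := conj_mem_of_mem_norm (norm_Q3 (s.cr 0).symm) hh0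
  have e1 : h1 * a * h1⁻¹ = y := by
    rw [← ry, ← e0, cmul', cmul', fix (s.fc_ra 0), hh1]; group
  have d3 : (h0⁻¹ * h1) ^ 3 = 1 := by
    have := s.cube _ ((mQ _).1 (mul_mem (inv_mem hh0) m1))
    rwa [conj_pow, conj_eq_one] at this
  have da : h0⁻¹ * h1 * a = a * (h0⁻¹ * h1) := by
    calc _ = h0⁻¹ * (h1 * a * h1⁻¹) * h1 := by group
      _ = _ := by rw [e1, ← e0]; group
  have e2 : h0 * (h0⁻¹ * h1)⁻¹ * a * (h0 * (h0⁻¹ * h1)⁻¹)⁻¹ = y := by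
    rw [mul_assoc h0, cinv da, ← e0]; group
  refine ⟨h0 * (h0⁻¹ * h1)⁻¹, ?_, ?_, ?_⟩
  · have h2 : s.r 0 * (h0 * (h0⁻¹ * h1)⁻¹) * (s.r 0)⁻¹ = h0 * ((h0⁻¹ * h1) * (h0⁻¹ * h1)) := by
      calc _ = h1 * (s.r 0 * h1 * (s.r 0)⁻¹)⁻¹ * h1 := by rw [hh1]; group
        _ = _ := by rw [hh1, r2]; group
    rw [inv3 d3] at h2
    calc _ = s.r 0 * (h0 * (h0⁻¹ * h1)⁻¹) * (s.r 0)⁻¹ * s.r 0 := by rw [h2]
      _ = _ := by group
  · rw [e2]
    rcases hy with k | k <;> rw [k]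
    exacts [ac, cinv ac]
  · rw [e2]
    intro h
    rcases hy with k | k <;> rw [k] at h
    exacts [nQ (s.esz.zpowers_le h), nQ (s.esz.zpowers_le (by simpa using h))]

theorem exists_g (s : FJ a) :
    ∃ g, g * s.r 0 * g⁻¹ = s.r 1 ∧ g * s.r 1 * g⁻¹ = s.r 2 ∧ g * s.r 2 * g⁻¹ = s.r 0 := by
  have key : ∀ i, ∃ p ∈ s.toF3.P (finRotate 3 i),
      s.σ * s.r i * s.σ⁻¹ = p * s.r (finRotate 3 i) * p⁻¹ := fun i => by
    obtain ⟨h1, h2⟩ := s.fc_conj s.σa (s.fc_ra i) (s.fc_pr i)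
    have ha := cmul (cmul s.σa (s.fc_ra i)) (cinv s.σa)
    refine s.conj_r _ (conj_sq (s.r2 i)) ((s.ker _ (cmul ha (s.fc_ra _))).2 ⟨?_, fun j => ?_⟩)
    · rw [s.pm_mul _ _ ha (s.fc_ra _), h1, s.fc_pr, mul_one]
    · obtain ⟨k, rfl⟩ := (finRotate 3).surjective j
      rw [s.mt_mul _ _ ha (s.fc_ra _), s.fc_pr, Equiv.Perm.one_apply, ← s.σpm, h2, s.σpm, s.r_mt, s.r_mt]
      by_cases e : k = i
      · rw [if_pos e, if_pos (congrArg _ e), conj_neg]; simp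
      · rw [if_neg e, if_neg fun k => e ((finRotate 3).injective k)]; simp
  obtain ⟨p1, h1, e1⟩ := key 0
  obtain ⟨p2, h2, e2⟩ := key 1
  obtain ⟨p0, h0, e0⟩ := key 2
  change p1 ∈ s.toF3.P 1 at h1
  change p2 ∈ s.toF3.P 2 at h2
  change p0 ∈ s.toF3.P 0 at h0
  change _ = p1 * s.r 1 * p1⁻¹ at e1
  change _ = p2 * s.r 2 * p2⁻¹ at e2
  change _ = p0 * s.r 0 * p0⁻¹ at e0
  have k : ∀ {x p p' p'' r : G}, s.σ * x * s.σ⁻¹ = p * r * p⁻¹ → r * p' = p' * r → r * p'' = p'' * r →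
      (p * p' * p'')⁻¹ * s.σ * x * ((p * p' * p'')⁻¹ * s.σ)⁻¹ = r := fun {x p p' p'' r} e b c => by
    calc _ = (p * p' * p'')⁻¹ * (s.σ * x * s.σ⁻¹) * (p * p' * p'') := by group
      _ = p''⁻¹ * (p'⁻¹ * (r * p')) * p'' := by rw [e]; group
      _ = r := by rw [b, inv_mul_cancel_left, mul_assoc, c, inv_mul_cancel_left]
  have c01 := s.fc_PP (by decide) h0 h1
  have c02 := s.fc_PP (by decide) h0 h2
  have c12 := s.fc_PP (by decide) h1 h2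
  refine ⟨(p0 * p1 * p2)⁻¹ * s.σ, ?_, ?_, k e0 (s.r_P (by decide) h1) (s.r_P (by decide) h2)⟩
  · rw [c01]; exact k e1 (s.r_P (by decide) h0) (s.r_P (by decide) h2)
  · rw [mul_assoc p0, c12, ← mul_assoc p0, c02]; exact k e2 (s.r_P (by decide) h0) (s.r_P (by decide) h1)

theorem fc_c12 : zpowers s.c ≤ normalizer ((s.toF3.P 1 ⊔ s.toF3.P 2 : Subgroup G) : Set G) := zpowers_le.2 (by
  rw [← cj_eq_iff, cj_sup, cj_eq_iff.2 (s.fc_normP s.ca s.cpm 1), cj_eq_iff.2 (s.fc_normP s.ca s.cpm 2)])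

theorem fc_T {y : G} (hy : y ∈ s.toF3.P 1 ⊔ s.toF3.P 2 ⊔ zpowers s.c) :
    y ∈ s.toF3.P 1 ⊔ s.toF3.P 2 ∨ ∃ q ∈ s.toF3.P 1 ⊔ s.toF3.P 2, y = q * s.c ∨ y⁻¹ = q * s.c := by
  obtain ⟨q, hq, k, hk, rfl⟩ := (Loc.mem_sup_iff_of_le_normalizer' s.fc_c12).1 hy
  rcases T16.mem_zpowers_three s.c3 hk with rfl | rfl | rfl
  · exact .inl (by simpa using hq)
  · exact .inr ⟨q, hq, .inl rfl⟩
  · exact .inr ⟨_, conj_mem_of_mem_norm (s.fc_c12 (mem_zpowers _)) (inv_mem hq), .inr (by group)⟩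

/-- A Sylow 3-subgroup of `C(r₀)`. -/
theorem syl (s : FJ a) : IsSylIn 3 (s.toF3.P 1 ⊔ s.toF3.P 2 ⊔ zpowers s.c) (centralizer {s.r 0}) ∧
    Nat.card (s.toF3.P 1 ⊔ s.toF3.P 2 ⊔ zpowers s.c : Subgroup G) = 3 ^ 6 := by
  have hQ : s.toF3.P 1 ⊔ s.toF3.P 2 ≤ Q3 a := fun q hq => (s.fc_mem12.1 hq).1
  have hc : Nat.card (s.toF3.P 1 ⊔ s.toF3.P 2 ⊔ zpowers s.c : Subgroup G) = 3 ^ 6 := by
    have h := Loc.card_sup_mul_card_inf_of_le_normalizer' s.fc_c12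
    have e : (s.toF3.P 1 ⊔ s.toF3.P 2) ⊓ zpowers s.c = ⊥ := eq_bot_iff.2 fun x hx => by
      rcases T16.mem_zpowers_three s.c3 hx.2 with rfl | rfl | rfl
      exacts [one_mem _, absurd (hQ hx.1) s.fc_cQ, absurd (by simpa using hQ hx.1) s.fc_cQ]
    rw [e, card_bot, s.fc_card12, Nat.card_zpowers, ord3 s.c3 s.fc_c1] at h
    omega
  refine ⟨U6.co_climb (sup_le s.fc_12K (zpowers_le.2 (mem_cen.2 (s.cr 0)))) (IsPGroup.of_card hc)
    fun X hX hXK hTX hn => ?_, hc⟩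
  have hTa : s.toF3.P 1 ⊔ s.toF3.P 2 ⊔ zpowers s.c ≤ centralizer {a} :=
    sup_le (hQ.trans (Co.Q3_le a)) (zpowers_le.2 (mem_cen.2 s.ca))
  have hXa : X ≤ centralizer {a} := fun g hg => by
    refine T16.Fr.cen_of_pm_k hX hg ((T16.mem_zpowers_three s.esz.z_pow ?_).resolve_left
      fun e => s.fc_a1 (conj_eq_one.1 e))
    have h1 : ∀ y ∈ s.toF3.P 1 ⊔ s.toF3.P 2 ⊔ zpowers s.c, g * a * g⁻¹ * y = y * (g * a * g⁻¹) := fun y hy => by
      have h2 := mem_cen.1 (hTa (conj_mem_of_mem_norm (inv_mem (hn hg)) hy))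
      calc _ = g * (a * (g⁻¹ * y * g⁻¹⁻¹)) * g⁻¹ := by group
        _ = _ := by rw [← h2]; group
    have hv := h1 _ (mem_sup_left (mem_sup_left (s.vP 1)))
    rcases s.fc_T (conj_mem_of_mem_norm (hn hg) (mem_sup_left (mem_sup_left (s.fc_zP 1 (mem_zpowers a))))) with
      h | ⟨q, hq, h | h⟩
    · refine s.esz.mem_zpowers_of_forall_commute (hQ h) fun y hy => ?_
      obtain ⟨p, hp, rfl⟩ := s.dec hy
      refine Commute.mul_left (Commute.mul_left ?_ (h1 _ (mem_sup_left (mem_sup_left (hp 1)))).symm)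
        (h1 _ (mem_sup_left (mem_sup_right (hp 2)))).symm
      exact Co.comm_sup (fun x hx => s.fc_PP (by decide) (hp 0) hx) (fun x hx => s.fc_PP (by decide) (hp 0) hx) _ h
    · exact absurd (h ▸ hv) (s.fc_nc (hQ hq) 1)
    · exact absurd (h ▸ cinv hv) (s.fc_nc (hQ hq) 1)
  have hpm : ∀ g ∈ X, s.pm g = 1 := fun g hg => by
    refine s.fc_pm3 hX hg (mem_cen.1 (hXa hg)) (i := 0) ?_
    have := s.fc_sign (mem_cen.1 (hXa hg)) (s.fc_ra 0) (s.fc_pr 0) (mem_cen.1 (hXK hg)) 0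
    rw [s.r_mt, s.r_mt, if_pos rfl, conj_neg] at this
    by_contra e
    rw [if_neg e] at this
    exact neg_ne this.symm
  have h3 := (s.idx_nine s.σa (by rw [s.σpm]; decide) (by rw [s.σpm]; decide) hXa hX).2 hpm
  have h4 : Nat.card (Q3 a ⊓ X : Subgroup G) ≤ 3 ^ 5 :=
    s.fc_card12 ▸ card_le_of_le fun q hq => s.fc_QK hq.1 (hXK hq.2)
  refine (eq_of_le_of_card_ge hTX ?_).ge
  rw [hc, Loc.card_eq_relIndex_mul_card_inf (Q3 a) X]
  calc _ ≤ 3 * 3 ^ 5 := Nat.mul_le_mul h3 h4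
    _ = _ := by norm_num

theorem fc_P {i : Fin 3} {q : G} (hq : q ∈ s.toF3.P i) :
    ∃ d ∈ zpowers (s.u i) ⊔ zpowers a, ∃ w ∈ zpowers (s.v i), q = d * w := by
  have hu := s.uP i
  have hv := s.vP i
  have h1 : sf (s.vec (s.u i)) (s.vec (s.v i)) ≠ 0 := fun e => s.fc_uv i ((s.commute_iff hu.1 hv.1).2 e).symm
  rw [sf, Finset.sum_eq_single i (fun k _ e => by rw [hu.2 k e]; simp) (by simp)] at h1
  obtain ⟨j, m, e⟩ := span2 _ _ (s.vec q i) h1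
  have hw : s.u i ^ j.val * s.v i ^ m.val ∈ s.toF3.P i := mul_mem (pow_mem hu _) (pow_mem hv _)
  have h2 : s.vec q = s.vec (s.u i ^ j.val * s.v i ^ m.val) := funext fun k => by
    by_cases e' : k = i
    · rw [e', e, s.vec_mul _ (pow_mem hu.1 _) _ (pow_mem hv.1 _), s.vec_pow hu.1, s.vec_pow hv.1]; rfl
    · rw [hq.2 k e', hw.2 k e']
  exact ⟨q * (s.u i ^ j.val * s.v i ^ m.val)⁻¹ * s.u i ^ j.val,
    mul_mem (mem_sup_right ((s.vec_eq hq.1 hw.1).1 h2)) (mem_sup_left (pow_mem (mem_zpowers _) _)),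
    s.v i ^ m.val, pow_mem (mem_zpowers _) _, by group⟩

theorem fc_vcube {i : Fin 3} {w : G} (hw : w ∈ zpowers (s.v i)) : w = 1 ∨ (w * s.c) ^ 3 = a := by
  have v3 := s.cube _ (s.vP i).1
  have h1 := cinv (F3.fc_Qa (s.uP i).1).symm
  have h2 := cinv s.ca.symm
  have h3 := s.cu i
  have h4 := cinv h3.symm
  have h5 := cinv (F3.fc_Qa (inv_mem (s.uP i).1)).symm
  have c3 := s.c3
  have a3 := s.esz.z_pow
  rw [pow_three'] at c3
  have fin : s.c * s.c * s.c * (a * a)⁻¹ = a := by rw [c3, inv3 a3, inv_inv, one_mul]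
  rcases T16.mem_zpowers_three v3 hw with rfl | rfl | rfl
  · exact .inl rfl
  · refine .inr ?_
    calc _ = s.v i * s.c * (s.v i)⁻¹ * (s.v i * s.v i * s.c * s.v i) * s.c := by
          simp only [pow_succ, pow_zero]; group
      _ = s.c * (s.u i)⁻¹ * a⁻¹ * (s.c * s.u i * a⁻¹) * s.c := by rw [inv3 v3, s.vc, s.fc_vc']
      _ = s.c * s.c * s.c * (a * a)⁻¹ := by
          simp only [mul_assoc, mul_inv_rev, h2, NE.comm_assoc h1, NE.comm_assoc h2, NE.comm_assoc h4,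
            inv_mul_cancel_left]
      _ = a := fin
  · refine .inr ?_
    calc _ = (s.v i)⁻¹ * s.c * s.v i * ((s.v i * s.v i)⁻¹ * s.c * (s.v i)⁻¹) * s.c := by
          simp only [pow_succ, pow_zero]; group
      _ = s.c * s.u i * a⁻¹ * (s.c * (s.u i)⁻¹ * a⁻¹) * s.c := by rw [inv3 v3, inv_inv, s.vc, s.fc_vc']
      _ = s.c * s.c * s.c * (a * a)⁻¹ := by
          simp only [mul_assoc, mul_inv_rev, h2, NE.comm_assoc h5, NE.comm_assoc h2, NE.comm_assoc h3.symm,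
            mul_inv_cancel_left]
      _ = a := fin

/-- The centraliser of `r₀` in `J`. -/
abbrev B0 : Subgroup G := zpowers s.c ⊔ (zpowers (s.u 2) ⊔ (zpowers (s.u 1) ⊔ zpowers a))

theorem fc_B0 : Nat.card s.B0 = 81 ∧ (∀ x ∈ s.B0, ∀ y ∈ s.B0, x * y = y * x) ∧ s.B0 ≤ centralizer {s.r 0} := by
  have u1 := s.uP 1
  have u2 := s.uP 2
  have u12 := s.fc_PP (by decide) u2 u1
  have hD : zpowers (s.u 1) ⊔ zpowers a ≤ s.toF3.P 1 := sup_le (zpowers_le.2 u1) (s.fc_zP 1)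
  have nu : ∀ i, s.u i ∉ zpowers a := fun i h => s.fc_uv i (Co.comm_zpowers (F3.fc_Qa (s.vP i).1) _ h)
  have ou : ∀ i, orderOf (s.u i) = 3 := fun i => ord3 (s.cube _ (s.uP i).1) fun e => nu i (e ▸ one_mem _)
  have k : ∀ {g : G}, g * s.c = s.c * g → g * s.u 2 = s.u 2 * g → g * s.u 1 = s.u 1 * g → g * a = a * g →
      ∀ y ∈ s.B0, g * y = y * g := fun h1 h2 h3 h4 => Co.comm_sup (Co.comm_zpowers h1)
    (Co.comm_sup (Co.comm_zpowers h2) (Co.comm_sup (Co.comm_zpowers h3) (Co.comm_zpowers h4)))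
  have kc := k rfl (s.cu 2) (s.cu 1) s.ca
  have k2 := k (s.cu 2).symm rfl u12 (F3.fc_Qa u2.1)
  have k1 := k (s.cu 1).symm u12.symm rfl (F3.fc_Qa u1.1)
  have ka := k s.ca.symm (F3.fc_Qa u2.1).symm (F3.fc_Qa u1.1).symm rfl
  refine ⟨?_, fun x hx => k (kc x hx).symm (k2 x hx).symm (k1 x hx).symm (ka x hx).symm, fun x hx => mem_cen.2
    (k (s.cr 0).symm (s.r_P (by decide) u2) (s.r_P (by decide) u1) (s.fc_ra 0) x hx).symm⟩
  rw [LB.card_sup_zp (ord3 s.c3 s.fc_c1) (fun y hy => kc y (mem_sup_right hy))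
      fun h => s.fc_cQ (sup_le (zpowers_le.2 u2.1) (fun x hx => (hD hx).1) h),
    LB.card_sup_zp (ou 2) (fun y hy => k2 y (mem_sup_right (mem_sup_right hy)))
      fun h => nu 2 (s.fc_z u2 ((hD h).2 2 (by decide))),
    LB.card_sup_zp (ou 1) (Co.comm_zpowers (F3.fc_Qa u1.1)) (nu 1), s.esz.card_zpowers]

theorem fc_qc {q : G} (hq : q ∈ s.toF3.P 1 ⊔ s.toF3.P 2) (h : (q * s.c) ^ 3 = 1) : q * s.c ∈ s.B0 := by
  obtain ⟨p, hp, p', hp', rfl⟩ := s.fc_dec12 hq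
  obtain ⟨d, hd, w, hw, rfl⟩ := s.fc_P hp
  obtain ⟨d', hd', w', hw', rfl⟩ := s.fc_P hp'
  have hD : ∀ i, zpowers (s.u i) ⊔ zpowers a ≤ s.toF3.P i := fun i => sup_le (zpowers_le.2 (s.uP i)) (s.fc_zP i)
  have w1 : w ∈ s.toF3.P 1 := zpowers_le.2 (s.vP 1) hw
  have w2 : w' ∈ s.toF3.P 2 := zpowers_le.2 (s.vP 2) hw'
  have b1 : d ∈ s.B0 := mem_sup_right (mem_sup_right hd)
  have b2 : d' ∈ s.B0 := mem_sup_right (SetLike.le_def.1 (sup_le_sup_left le_sup_right _) hd')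
  have bc : s.c ∈ s.B0 := mem_sup_left (mem_zpowers _)
  have e : d * w * (d' * w') * s.c = d * d' * (w * w' * s.c) := by
    have := s.fc_PP (by decide) w1 (hD 2 hd')
    simp only [mul_assoc, NE.comm_assoc this]
  rw [e, s.fc_cube s.ca (mul_mem (hD 1 hd).1 (hD 2 hd').1) (mul_mem w1.1 w2.1) (s.fc_B0.2.1 _ bc _ (mul_mem b1 b2))] at h
  have n1 := s.fc_normP s.ca s.cpm 1
  have n2 := s.fc_normP s.ca s.cpm 2
  have e2 : (w * w' * s.c) ^ 3 = (w * s.c) ^ 3 * (w' * s.c) ^ 3 := by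
    have x1 := conj_mem_of_mem_norm n1 w1
    have x2 := conj_mem_of_mem_norm n1 x1
    have y1 := conj_mem_of_mem_norm n2 w2
    rw [FC.cube, FC.cube, FC.cube, s.c3, cmul', cmul']
    have c1 := s.fc_PP (by decide) w2 x1
    have c2 := s.fc_PP (by decide) w2 x2
    have c3 := s.fc_PP (by decide) y1 x2
    generalize s.c * (s.c * w * s.c⁻¹) * s.c⁻¹ = A at *
    generalize s.c * (s.c * w' * s.c⁻¹) * s.c⁻¹ = B at *
    generalize s.c * w * s.c⁻¹ = C at *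
    generalize s.c * w' * s.c⁻¹ = D at *
    simp only [mul_assoc, mul_one, NE.comm_assoc c1, NE.comm_assoc c2, NE.comm_assoc c3]
  rw [e2] at h
  rw [e]
  rcases s.fc_vcube hw with rfl | k <;> rcases s.fc_vcube hw' with rfl | k'
  · simpa using mul_mem (mul_mem b1 b2) bc
  · rw [k', one_mul, s.c3, one_mul] at h; exact absurd h s.fc_a1
  · rw [k, one_mul, s.c3, mul_one] at h; exact absurd h s.fc_a1
  · rw [k, k'] at h; exact absurd h s.fc_aa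

/-- A conjugate of `r₀` in `C(a)` centralises an abelian subgroup of order 81 of `C(a)`. -/
theorem fc_B {t : G} (h : IsConj (s.r 0) t) (ta : t * a = a * t) : ∃ B : Subgroup G, B ≤ centralizer {a} ∧
    B ≤ centralizer {t} ∧ Nat.card B = 81 ∧ ∀ x ∈ B, ∀ y ∈ B, x * y = y * x := by
  obtain ⟨g, rfl⟩ := isConj_iff.1 h
  have y3 : (g⁻¹ * a * g⁻¹⁻¹) ^ 3 = 1 := by rw [conj_pow, s.esz.z_pow]; group
  have yK : g⁻¹ * a * g⁻¹⁻¹ ∈ centralizer {s.r 0} := mem_cen.2 (by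
    calc _ = g⁻¹ * (a * (g * s.r 0 * g⁻¹)) * g := by group
      _ = _ := by rw [← ta]; group)
  obtain ⟨k, hk, hle⟩ := s.syl.1.exists_cj_le (Q := zpowers (g⁻¹ * a * g⁻¹⁻¹))
    (IsPGroup.of_card (n := 1) (by rw [Nat.card_zpowers, ord3 y3 fun e => s.fc_a1 (conj_eq_one.1 e), pow_one]))
    (zpowers_le.2 yK)
  rw [cj_zpowers, zpowers_le] at hle
  have hz : ZE a (k * (g⁻¹ * a * g⁻¹⁻¹) * k⁻¹) := Co.ze_cj (Co.ze_cj (Co.ze_self a) _) _
  have z3 : (k * (g⁻¹ * a * g⁻¹⁻¹) * k⁻¹) ^ 3 = 1 := by rw [conj_pow, y3]; group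
  have hB : k * (g⁻¹ * a * g⁻¹⁻¹) * k⁻¹ ∈ s.B0 := by
    rcases s.fc_T hle with e | ⟨q, hq, e | e⟩
    · obtain ⟨h1, h2⟩ := s.fc_mem12.1 e
      exact mem_sup_right (mem_sup_right (mem_sup_right (s.wc _ h1 hz 0 h2)))
    · rw [e] at z3 ⊢; exact s.fc_qc hq z3
    · rw [← inv_mem_iff, e]; exact s.fc_qc hq (by rw [← e, inv_pow, z3, inv_one])
  obtain ⟨h1, h2, h3⟩ := s.fc_B0
  refine ⟨cj (g * k⁻¹) s.B0, ?_, ?_, by rw [card_cj, h1], fun x hx y hy => ?_⟩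
  · refine (cj_mono fun x hx => mem_cen.2 (h2 x hx _ hB)).trans (Eq.le ?_)
    rw [cj_centralizer_singleton]
    congr 2; group
  · rw [show g * s.r 0 * g⁻¹ = g * k⁻¹ * s.r 0 * (g * k⁻¹)⁻¹ by
      rw [mul_assoc g k⁻¹, cinv (mem_cen.1 hk)]; group, ← cj_centralizer_singleton]
    exact cj_mono h3
  · have := h2 _ (mem_cj.1 hx) _ (mem_cj.1 hy)
    calc _ = g * k⁻¹ * ((g * k⁻¹)⁻¹ * x * (g * k⁻¹) * ((g * k⁻¹)⁻¹ * y * (g * k⁻¹))) * (g * k⁻¹)⁻¹ := by group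
      _ = _ := by rw [this]; group

theorem fc_r01 : s.pm (s.r 0 * s.r 1) = 1 ∧ ∀ j, s.mt (s.r 0 * s.r 1) j = if j = 2 then 1 else -1 := by
  refine ⟨by rw [s.pm_mul _ _ (s.fc_ra 0) (s.fc_ra 1), s.fc_pr, s.fc_pr, mul_one], fun j => ?_⟩
  rw [s.mt_mul _ _ (s.fc_ra 0) (s.fc_ra 1), s.fc_pr, s.r_mt, s.r_mt]
  fin_cases j <;> simp

theorem nc2 (s : FJ a) : ¬ IsConj (s.r 0) (s.r 0 * s.r 1) := fun h => by
  have ta := cmul (s.fc_ra 0) (s.fc_ra 1)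
  obtain ⟨p1, m1⟩ := s.fc_r01
  obtain ⟨B, h1, h2, h3, h4⟩ := s.fc_B h ta
  have hB : IsPGroup 3 B := IsPGroup.of_card (n := 4) h3
  have hpm : ∀ g ∈ B, s.pm g = 1 := fun g hg => by
    refine s.fc_pm3 hB hg (mem_cen.1 (h1 hg)) (i := 2) ?_
    have := s.fc_sign (mem_cen.1 (h1 hg)) ta p1 (mem_cen.1 (h2 hg)) 2
    rw [m1, m1, if_pos rfl, mul_one, mul_inv_cancel] at this
    by_contra e
    rw [if_neg e] at this
    exact neg_ne this
  have h5 := (s.idx_nine s.σa (by rw [s.σpm]; decide) (by rw [s.σpm]; decide) h1 hB).2 hpm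
  have h6 : Q3 a ⊓ B ≤ s.toF3.P 2 := fun q hq => ⟨hq.1, fun j hj =>
    s.fc_vec0 ta p1 (by rw [m1, if_neg hj]) hq.1 (mem_cen.1 (h2 hq.2)).symm⟩
  have h7 : Nat.card (Q3 a ⊓ B : Subgroup G) ≤ 9 := by
    have d1 := card_dvd_of_le h6
    have d2 := Inv.Fz.card_lt_of_lt (lt_of_le_of_ne h6 fun e =>
      s.fc_uv 2 (h4 _ (e.ge (s.vP 2)).2 _ (e.ge (s.uP 2)).2))
    rw [s.card_P] at d1 d2
    obtain ⟨i, hi, e⟩ := (Nat.dvd_prime_pow Nat.prime_three (m := 3)).1 d1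
    rw [e] at d2 ⊢
    interval_cases i <;> simp_all
  have := Nat.mul_le_mul h5 h7
  rw [← Loc.card_eq_relIndex_mul_card_inf, h3] at this
  omega

theorem nc3 (s : FJ a) : ¬ IsConj (s.r 0) (s.r 0 * s.r 1 * s.r 2) := fun h => by
  have ta0 := cmul (s.fc_ra 0) (s.fc_ra 1)
  have ta := cmul ta0 (s.fc_ra 2)
  obtain ⟨p1, m1⟩ := s.fc_r01
  have p2 : s.pm (s.r 0 * s.r 1 * s.r 2) = 1 := by rw [s.pm_mul _ _ ta0 (s.fc_ra 2), p1, s.fc_pr, mul_one]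
  have m2 : ∀ j, s.mt (s.r 0 * s.r 1 * s.r 2) j = -1 := fun j => by
    rw [s.mt_mul _ _ ta0 (s.fc_ra 2), s.fc_pr, m1, s.r_mt]
    fin_cases j <;> simp
  obtain ⟨B, h1, h2, h3, -⟩ := s.fc_B h ta
  have h5 := (s.idx_nine s.σa (by rw [s.σpm]; decide) (by rw [s.σpm]; decide) h1 (IsPGroup.of_card (n := 4) h3)).1
  have h7 : Nat.card (Q3 a ⊓ B : Subgroup G) ≤ 3 := s.esz.card_zpowers ▸ card_le_of_le fun q hq =>
    (s.vec_eq_zero q hq.1).1 (funext fun j => s.fc_vec0 ta p2 (m2 j) hq.1 (mem_cen.1 (h2 hq.2)).symm)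
  have := Nat.mul_le_mul h5 h7
  rw [← Loc.card_eq_relIndex_mul_card_inf, h3] at this
  omega

end FJ

end Cfsg.Agent.T3
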