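import Mathlib
import Cfsg.Agent.Spor.FiMods

/-! The centraliser of a 3-transposition of `Fi₂₂` or `Fi₂₂ : 2`: definition (see `stubs/Cfsg/Agent/T3/FPLAN.md`). -/

set_option autoImplicit false

namespace Cfsg.Agent.T3

open Cfsg.Agent.Spor Subgroup

variable {G : Type*} [Group G]

/-- `K₀` is a perfect normal subgroup of index at most two of `C(d)` with `K₀ / ⟨d⟩ ≅ U₆(2)`; `x, y` are conjugates of `d`
over two commuting transvections. -/
structure Kh (d x y : G) (K0 : Subgroup G) (π : K0 →* TT.PU6) : Prop where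
  ord : orderOf d = 2
  le : K0 ≤ centralizer {d}
  idx : K0 = centralizer {d} ∨ K0.relIndex (centralizer {d}) = 2
  perf : ⁅K0, K0⁆ = K0
  surj : Function.Surjective π
  dm : d ∈ K0
  ker : ∀ k : K0, π k = 1 ↔ (k : G) = 1 ∨ (k : G) = d
  cen : centralizer {d} ⊓ centralizer (K0 : Set G) ≤ zpowers d
  xm : ∃ h : x ∈ K0, π ⟨x, h⟩ ∈ TT.tvP
  ym : ∃ h : y ∈ K0, π ⟨y, h⟩ ∈ TT.tvP
  xy : x * y = y * x
  cyc : ∃ g, g * d * g⁻¹ = x ∧ g * x * g⁻¹ = y ∧ g * y * g⁻¹ = d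
  ne : x ≠ y
  nc2 : ¬ IsConj d (d * x)
  nc3 : ¬ IsConj d (d * x * y)

end Cfsg.Agent.T3
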