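import Mathlib
import Cfsg.Agent.T3.FLA
import Cfsg.Agent.Spor.FC.U6

/-!
A conjugation invariant set which is locally the image of a non-split double cover of the class of transvections of
`U₆(2)` generates `Fi₂₂`.
-/

set_option autoImplicit false

namespace Cfsg.Agent.T3.FL

open Cfsg.Agent.Spor.TT Cfsg.Agent.Spor.FC Subgroup

variable {G K : Type*} [Group G] [Group K] {D : Set G} {d0 : K} {π : K → PU6} {O : Set K} {d x y : G}

/-- `D` is locally an embedded copy of `O`. -/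
structure LH (d0 : K) (π : K → PU6) (O : Set K) (D : Set G) : Prop where
  cov : Cov d0 π tvP O
  hex : Hex d0 π tvP O
  cen : ∀ k, Commute d0 k
  cls : ∀ x ∈ D, ∀ y ∈ D, ∃ g, cj g x = y
  inv : ∀ g, ∀ x ∈ D, cj g x ∈ D
  loc : ∀ x ∈ D, ∃ ι : K →* G, Function.Injective ι ∧ ι d0 = x ∧ ι '' O = Dx D x

namespace LH

theorem loc' (h : LH d0 π O D) (hx : x ∈ D) : ∃ ι : K →* G, Function.Injective ι ∧ ι d0 = x ∧
    QIso ι O (Dx D x) := by
  obtain ⟨ι, h1, h2, h3⟩ := h.loc x hx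
  exact ⟨ι, h1, h2, h3 ▸ qiso_of_injective ι h1 h.cov.tt.cj_mem⟩

theorem ord (h : LH d0 π O D) (hx : x ∈ D) : orderOf x = 2 := by
  obtain ⟨ι, h1, rfl, -⟩ := h.loc x hx
  rw [orderOf_injective ι h1, h.cov.ord]

theorem tt (h : LH d0 π O D) (hx : x ∈ D) : IsTT (Dx D x) :=
  let ⟨_, _, _, q⟩ := h.loc' hx
  q.isTT h.cov.tt fun _ k => h.ord k.1

theorem ls (h : LH d0 π O D) : LS D := by
  have k := h.cov
  have n1 : (1 : G) ∉ D := fun m => by simpa using h.ord m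
  refine ⟨h.inv, fun _ => h.ord, fun _ => h.tt, fun x hx y hy c m => ?_, fun a b c t m => ?_, fun x hx => ?_,
    fun d hd a ha => ?_, fun d hd a ha => ?_, fun d hd c hc a ha => ?_⟩
  · obtain ⟨ι, h1, rfl, q⟩ := h.loc' hx
    by_cases e : y = ι d0
    · exact n1 (by rwa [e, ← map_mul, k.sq, map_one] at m)
    obtain ⟨b, hb, rfl⟩ := q.surj ⟨hy, e, c⟩
    obtain ⟨a, ha, e'⟩ := q.surj ⟨m, fun e => n1 (mul_eq_left.1 e ▸ hy), (Commute.refl _).mul_right c⟩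
    exact k.ne_mul ha hb (h1 (by rw [e', map_mul]))
  · obtain ⟨ι, h1, rfl, q⟩ := h.loc' t.ma
    obtain ⟨b, hb, rfl⟩ := q.surj ⟨t.mb, t.ab.symm, t.cab⟩
    obtain ⟨c, hc, rfl⟩ := q.surj ⟨t.mc, t.ac.symm, t.cac⟩
    have n : b ≠ c := fun e => t.bc (by rw [e])
    obtain ⟨a, ha, e⟩ := q.surj ⟨m, fun e => n (by
      rw [mul_assoc, mul_eq_left, ← map_mul, map_eq_one_iff ι h1] at e
      exact (k.tt.set.mul_eq_one_iff hb).1 e), ((Commute.refl _).mul_right t.cab).mul_right t.cac⟩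
    rw [← map_mul, ← map_mul, h1.eq_iff] at e
    refine k.bs.two _ (k.mem hb) _ (k.mem hc) (fun e => n ((k.inj hb hc).1 e))
      ((k.commute_iff hb hc).2 ((q.commute_iff hb hc).1 t.cbc)) ?_
    rw [← k.map_two hb hc, ← k.d_mul (h.cen _), ← mul_assoc, ← e]
    exact k.mem ha
  · obtain ⟨ι, -, -, q⟩ := h.loc' hx
    obtain ⟨a, ha⟩ := k.nonempty
    exact ⟨_, q.mem ha⟩
  · obtain ⟨ι, -, -, q⟩ := h.loc' hd
    obtain ⟨a, ha', rfl⟩ := q.surj ha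
    obtain ⟨b, hb⟩ := k.exists_mem_Dx ha'
    have := (q.dx ha').mem hb
    exact ⟨_, hd, ha.1, this.1.1, ha.2.1.symm, this.1.2.1.symm, this.2.1.symm, ha.2.2, this.1.2.2, this.2.2⟩
  · obtain ⟨ι, -, rfl, q⟩ := h.loc' hd
    obtain ⟨a, ha', rfl⟩ := q.surj ha
    obtain ⟨l, l1, l2, l3⟩ := h.hex.exists_list k ha'
    exact ⟨l.map ι, by simpa using l1, List.forall_mem_map.2 fun y hy => (q.dx ha').mem (l2 y hy),
      by rw [← map_list_prod, ← map_mul, l3]⟩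
  · obtain ⟨ι, h1, rfl, q⟩ := h.loc' hd
    obtain ⟨c, hc', rfl⟩ := q.surj hc
    obtain ⟨a, ha', rfl⟩ := (q.dx hc').surj ha
    obtain ⟨f, t⟩ := k.exists_ext hc' ha'
    have t' := k.cl3 t
    refine ⟨ι f, ⟨hc, ha.1, q.mem t.mc, ha.2.1.symm, fun e => t'.ac (h1 e), fun e => t'.bc (h1 e), ha.2.2,
      t'.cac.map ι, t'.cbc.map ι⟩, fun p hp r hr p1 p2 n e => ?_⟩
    have e2 : π (c * (d0 * a) * f) = π c * π a * π f := by
      rw [k.mul _ _ (h.cen _) (h.cen _), k.mul _ _ (h.cen _) (h.cen _), k.d_mul (h.cen _)]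
    rw [← map_mul, ← map_mul, ← map_mul] at e
    by_cases q1 : p = ι d0
    · obtain ⟨r, hr', rfl⟩ := q.surj ⟨hr, fun e => n (q1.trans e.symm), p2⟩
      rw [q1, ← map_mul, h1.eq_iff] at e
      rw [e, k.d_mul (h.cen _)] at e2
      exact k.bs.three _ _ _ t.trg.toCl3 (e2 ▸ k.mem hr')
    obtain ⟨p, hp', rfl⟩ := q.surj ⟨hp, q1, p1⟩
    by_cases q2 : r = ι d0
    · rw [q2, ← map_mul, h1.eq_iff] at e
      rw [e, ← (h.cen p).eq, k.d_mul (h.cen _)] at e2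
      exact k.bs.three _ _ _ t.trg.toCl3 (e2 ▸ k.mem hp')
    obtain ⟨r, hr', rfl⟩ := q.surj ⟨hr, q2, p2⟩
    rw [← map_mul, h1.eq_iff] at e
    rw [e, k.map_two hp' hr'] at e2
    exact t.trg.ne _ (k.mem hp') _ (k.mem hr') e2.symm

theorem qiso (h : LH d0 π O D) (hx : x ∈ D) : ∃ ψ, QIso ψ tvP (Dx D x) :=
  let ⟨_, _, _, q⟩ := h.loc' hx
  let ⟨_, q', _⟩ := h.cov.qiso.symm
  ⟨_, q.comp q'⟩

theorem exists_not_commute (h : LH d0 π O D) (hx : x ∈ D) : ∃ c ∈ D, ¬ Commute x c := by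
  obtain ⟨ψ, q⟩ := h.qiso hx
  obtain ⟨u, hu⟩ := fis_tvP.cls.nonempty
  obtain ⟨v, hv⟩ := fis_tvP.exists_mem_Ax hu
  obtain ⟨g, rfl⟩ := h.cls _ (q.mem hu).1 x hx
  exact ⟨_, h.inv g _ (q.mem hv.1).1, fun c => hv.2 ((q.commute_iff hu hv.1).1 (commute_cj.1 c))⟩

variable [Finite G]

theorem isTT (h : LH d0 π O D) : IsTT D := h.ls.isTT

theorem orb (h : LH d0 π O D) (hd : d ∈ D) (hx : x ∈ D) : Orb (closure D) d x := by
  by_cases c1 : Commute d x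
  swap
  · exact Orb.of_not_commute h.isTT.set hd hx (subset_closure hd) (subset_closure hx) c1
  by_cases c2 : x = d
  · exact c2 ▸ Orb.refl _ _
  obtain ⟨f, l⟩ := h.ls.exists_cl3 hd ⟨hx, c2, c1⟩
  obtain ⟨ι, -, -, q⟩ := h.loc' l.mc
  obtain ⟨a, ha, rfl⟩ := q.surj ⟨hd, l.ac, l.cac.symm⟩
  obtain ⟨b, hb, rfl⟩ := q.surj ⟨hx, l.bc, l.cbc.symm⟩
  obtain ⟨g, hg, rfl⟩ := h.cov.exists_cj ha hb
  refine ⟨ι g, ?_, (map_cj ι g a).symm⟩
  have : (closure O).map ι ≤ closure D := by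
    rw [MonoidHom.map_closure]
    exact closure_mono fun _ ⟨c, hc, e⟩ => e ▸ (q.mem hc).1
  exact this ⟨g, h.cov.gen hg, rfl⟩

theorem g22 (h : LH d0 π O D) (hd : d ∈ D) (hz : ∀ z, (∀ x ∈ D, Commute z x) → z = 1) : G22 (sub D) := by
  have ht := h.isTT.group_subtype
  have hc : IsThreeTranspositionClass (sub D) := ht.cls ⟨⟨d, subset_closure hd⟩, hd⟩ fun a ha b hb =>
    let ⟨g, hg, e⟩ := h.orb ha hb
    ⟨⟨g, hg⟩, Subtype.ext e⟩
  have q : ∀ a ∈ sub D, ∃ ψ, QIso ψ tvP (Dx (sub D) a) := fun a ha => by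
    obtain ⟨ψ, q⟩ := h.qiso ha
    obtain ⟨φ, q', -⟩ := (qiso_of_injective (closure D).subtype (subtype_injective _) (ht.isTT.dx a).cj_mem).symm
    rw [image_Dx_sub] at q'
    exact ⟨_, q'.comp q⟩
  have hU : LocU (sub D) := ⟨ht.isTT, fun a ha => let ⟨_, q⟩ := q a ha; hasU_tvP.map q⟩
  have hl : ∀ C, IsComp (sub D) C → TM22 C := fun C k => ((k.fs.locally_U (n := 6) (by decide) fun s hs =>
    k.Dx_eq hs ▸ (hU.loc s (k.sub hs)).isU).resolve_left (by decide)).2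
  have hF : Fis (sub D) := by
    have hc' : ∀ x ∈ sub D, ∃ C, IsComp (sub D) C ∧ x ∈ C := fun x hx =>
      ⟨_, ht.isTT.isComp hx fun s hs =>
        let ⟨_, q⟩ := q s (comp_sub hx hs)
        q.red (ht.isTT.dx s) fis_tvP.fs.toRed, self_mem_comp _ _⟩
    rcases exists_two_comp hc' hc.nonempty with k | ⟨C₁, C₂, h₁, h₂, n12⟩
    · exact fis_of_fs k.fs hc
    · exact (h₁.not_tm22 ht.isTT h₂ n12 (hl _ h₂)).elim
  obtain ⟨e, he⟩ := hF.iso22 (eq_bot_iff.2 fun z k => Subtype.ext (hz z fun x hx =>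
    congrArg Subtype.val (mem_center_iff.1 k ⟨x, subset_closure hx⟩).symm)) hU
  exact g22_of_iso hF e he

theorem cen_le (h : LH d0 π O D) (hd : d ∈ D) (hz : ∀ z, (∀ x ∈ D, Commute z x) → z = 1) :
    closure D ⊓ centralizer {d} ≤ closure (Dx D d) := fun g ⟨h1, h2⟩ => by
  have k := (h.g22 hd hz).gen (d := ⟨d, subset_closure hd⟩) hd
  have : (⟨g, h1⟩ : closure D) ∈ closure (Dx (sub D) ⟨d, subset_closure hd⟩) := by
    rw [k, mem_cen]
    exact Subtype.ext (mem_cen.1 h2)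
  have := mem_map_of_mem (closure D).subtype this
  rwa [MonoidHom.map_closure, image_Dx_sub] at this

end LH

end Cfsg.Agent.T3.FL
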