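import Mathlib
import Cfsg.Agent.Spor.FC.U6

/-! An outer involutory automorphism of `U₆(2)` and a plane of transvections. -/

set_option autoImplicit false
set_option maxRecDepth 100000
set_option exponentiation.threshold 100000

namespace Cfsg.Agent.T3

open Cfsg.Agent.Spor Cfsg.Agent.Spor.TT Cfsg.Agent.Spor.FC Subgroup
open scoped Pointwise

namespace FPl

/-- The points of the standard plane; the first nine generate its group. -/
def pl : ℕ → ℕ :=
  getP 12 4095 (nat_lit 0x5ff5fa5f55f05af5aa5a555f55a55550f05f5a055050a50505a055500050005)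

/-- Coordinates of the points in the group of the plane. -/
def ka : ℕ → ℕ := getP 9 511 (nat_lit 0x1eced6c70d72a7cf1f2d7579943700401004010040100401)

/-- The coordinates of the products of two points. -/
def m2 (n : ℕ) : Bool := Nat.testBit (nat_lit 0x168669196994946292699462254a4a9594699264861669896916168958a1a15669929264866916898616698958a1a156432c2c9338c1c13638c1c136871e1e69) n

/-- The number of the line through the points `p` and `x`. -/
def lk (p x : ℕ) : ℕ := getP 3 7 (nat_lit 0x14cc4646e34880006523228cb8d10000a168c8e329a2000234d45098da2416a000a86071a6884630032a410b6911116004cb42431a20a70c40029872344429a2c00e40626884cc88801c62169105c4622988e00d02118dc2538146802046880146e02a34486a151802421a6890ca90b4608980d02222d32e112201a0438514d19046d004029c46386069a0080a32d48d08480d022346351a8096802049236d2443448040) (Nat.add (Nat.mul 21 p) x)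

/-- The product of three points is a product of two points. -/
def tt (a b x : ℕ) : Bool := m2 (ka a ^^^ ka b ^^^ ka x)

/-- The basis points selected by `x`. -/
def bl (x : ℕ) : ℕ → List ℕ
  | 0 => []
  | n + 1 => cond (x.testBit n) (pl n :: bl x n) (bl x n)

/-- A transvection. -/
noncomputable def pt (u : ℕ) : PU6 := ρ0 (dec u)

/-- The element of the group of the plane with coordinates `x`. -/
noncomputable def ev (x : ℕ) : PU6 := evalW pt (bl x 9)

theorem iso_pl : ∀ i < 21, iso (pl i) = true := by decide +kernel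

theorem ka_lt : ∀ i < 21, ka i < 2 ^ 9 := by decide +kernel

theorem pt_mem {u : ℕ} (h : iso u = true) : pt u ∈ tvP := mem0 h

theorem comm_pl {i j : ℕ} (hi : i < 21) (hj : j < 21) : Commute (pt (pl i)) (pt (pl j)) := by
  have k : ∀ i < 21, ∀ j < 21, fm (pl j) (pl i) = 0 := by decide +kernel
  exact (ufr0.commute_code (iso_pl i hi) (iso_pl j hj)).2 (k i hi j hj)

theorem mem_bl {x n u : ℕ} (h : u ∈ bl x n) : ∃ i < n, u = pl i := by
  induction n with
  | zero => simp [bl] at h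
  | succ n ih =>
    rw [bl] at h
    cases e : x.testBit n <;> rw [e] at h
    · exact let ⟨i, h1, h2⟩ := ih h; ⟨i, by omega, h2⟩
    · rcases List.mem_cons.1 h with h | h
      · exact ⟨n, by omega, h⟩
      · exact let ⟨i, h1, h2⟩ := ih h; ⟨i, by omega, h2⟩

theorem iso_bl (x : ℕ) : ∀ u ∈ bl x 9, iso u = true := fun _ h =>
  let ⟨i, h1, h2⟩ := mem_bl h; h2 ▸ iso_pl i (by omega)

theorem comm_ev {i n : ℕ} (hi : i < 21) (hn : n ≤ 21) (x : ℕ) :
    Commute (pt (pl i)) (evalW pt (bl x n)) := by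
  induction n with
  | zero => exact Commute.one_right _
  | succ n ih =>
    rw [bl]
    cases x.testBit n
    · exact ih (by omega)
    · exact (comm_pl hi (by omega)).mul_right (ih (by omega))

theorem ev_xor' (a b : ℕ) {n : ℕ} (hn : n ≤ 21) :
    evalW pt (bl (a ^^^ b) n) = evalW pt (bl a n) * evalW pt (bl b n) := by
  induction n with
  | zero => exact (one_mul _).symm
  | succ n ih =>
    have h3 := (comm_ev (i := n) (n := n) (by omega) (by omega) a).eq
    have h4 := sq0 _ (pt_mem (iso_pl n (by omega)))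
    rw [bl, bl, bl, Nat.testBit_xor]
    cases a.testBit n <;> cases b.testBit n <;>
      simp only [Bool.xor_false, Bool.xor_true, Bool.not_false, Bool.not_true, cond_true, cond_false,
        evalW_cons, ih (by omega)]
    · rw [← mul_assoc, h3, mul_assoc]
    · rw [mul_assoc]
    · rw [h3, mul_assoc, ← mul_assoc (pt (pl n)), h4, one_mul]

theorem ev_xor (a b : ℕ) : ev (a ^^^ b) = ev a * ev b := ev_xor' a b (by decide)

theorem ev_zero : ev 0 = 1 := rfl

theorem ev_sq (a : ℕ) : ev a * ev a = 1 := by rw [← ev_xor, Nat.xor_self, ev_zero]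

theorem pt_pl {i : ℕ} (hi : i < 21) : pt (pl i) = ev (ka i) := by
  have k : ∀ i < 21, trivU (pl i :: bl (ka i) 9) = true := by decide +kernel
  have := eq_one_of_triv (k i hi)
  rw [evalW_cons] at this
  exact (eq_inv_of_mul_eq_one_left this).trans (inv_eq_of_mul_eq_one_right (ev_sq _))

theorem cj_word {l : List ℕ} (hl : ∀ u ∈ l, iso u = true) {y : ℕ} (hy : iso y = true) :
    cj (evalW pt l) (pt y) = pt (traceP sysU.T l y) := ((ufr0.real sq0).word hl hy).2

theorem ev_eq_one {x : ℕ} (hx : x < 2 ^ 9) (h : ev x = 1) : x = 0 := by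
  have k : allRange 0 512 (fun x => bor (Nat.beq x 0) (!allL [6, 96, 1536] fun y =>
      force (traceP sysU.T (bl x 9) y) fun v =>
        !band (iso y) (band (iso v) (allLt 4 fun c => !Nat.beq v (sm c y))))) = true := by
    decide +kernel
  have k1 := allRange_zero k x hx
  rw [bor_iff, nbeq_iff, Bool.not_eq_true', ← Bool.not_eq_true, allL_iff] at k1
  refine k1.resolve_right fun k2 => k2 fun y hy => ?_
  rw [force_eq, Bool.not_eq_true', ← Bool.not_eq_true]
  intro k3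
  have := cj_word (iso_bl x) ((band_iff _ _).1 k3).1
  rw [show evalW pt (bl x 9) = 1 from h, cj_one] at this
  exact ufr0.ne_code k3 this

theorem ev_inj {x y : ℕ} (hx : x < 2 ^ 9) (hy : y < 2 ^ 9) (h : ev x = ev y) : x = y :=
  Nat.xor_eq_zero_iff.1 (ev_eq_one (Nat.xor_lt_two_pow hx hy) (by rw [ev_xor, h, ev_sq]))

theorem pair_inj {a b c d : ℕ} (ha : a < 21) (hb : b < 21) (hc : c < 21) (hd : d < 21) (n : a ≠ b)
    (e : ka a ^^^ ka b = ka c ^^^ ka d) : c = a ∨ c = b := by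
  have k : allLt 21 (fun a => allLt 21 fun b => bor (Nat.beq a b) (force (Nat.xor (ka a) (ka b))
      fun s => allLt 21 fun c => bor (Nat.beq c a) (bor (Nat.beq c b) (force (Nat.xor s (ka c))
        fun r => allLt 21 fun d => !Nat.beq r (ka d))))) = true := by decide +kernel
  simp only [allLt_iff, bor_iff, nbeq_iff, force_eq, Bool.not_eq_true', ← Bool.not_eq_true] at k
  rcases (k a ha b hb).resolve_left n c hc with h | h | h
  exacts [Or.inl h, Or.inr h, absurd (by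
    show ka a ^^^ ka b ^^^ ka c = ka d
    rw [e, Nat.xor_comm (ka c), Nat.xor_assoc, Nat.xor_self, Nat.xor_zero]) (h d hd)]

theorem ka_inj : ∀ a < 21, ∀ b < 21, ka a = ka b → a = b := by decide +kernel

theorem m2_iff {n : ℕ} (hn : n < 2 ^ 9) : m2 n = true ↔ ∃ c < 21, ∃ d < 21, n = ka c ^^^ ka d := by
  have k1 : ∀ c < 21, ∀ d < 21, m2 (ka c ^^^ ka d) = true := by decide +kernel
  have k2 : allRange 0 512 (fun n => bor (!m2 n) (!allLt 21 fun c => force (Nat.xor n (ka c))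
      fun r => allLt 21 fun d => !Nat.beq r (ka d))) = true := by decide +kernel
  refine ⟨fun h => ?_, fun ⟨c, hc, d, hd, e⟩ => e ▸ k1 c hc d hd⟩
  have k3 := allRange_zero k2 n hn
  simp only [h, allLt_iff, bor_iff, nbeq_iff, force_eq, Bool.not_eq_true', ← Bool.not_eq_true,
    not_forall, not_not, not_true, false_or] at k3
  obtain ⟨c, hc, d, hd, e⟩ := k3
  refine ⟨c, hc, d, hd, ?_⟩
  rw [← show n ^^^ ka c = ka d from e, Nat.xor_comm n, ← Nat.xor_assoc, Nat.xor_self, Nat.zero_xor]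

theorem line {p a b q : ℕ} (hp : p < 21) (ha : a < 21) (hb : b < 21) (hq : q < 21) (n : a ≠ b)
    (na : a ≠ p) (nb : b ≠ p) (e : lk p a = lk p b) (nq : q ≠ p) (f : lk p q ≠ lk p a) :
    tt a b p = true ∧ tt a b q = false := by
  have k : allLt 21 (fun p => allLt 21 fun a => allLt 21 fun b => bor (Nat.beq a b) (bor (Nat.beq a p)
      (bor (Nat.beq b p) (bor (!Nat.beq (lk p a) (lk p b)) (band (tt a b p) (allLt 21 fun q =>
        bor (Nat.beq q p) (bor (Nat.beq (lk p q) (lk p a)) (!tt a b q)))))))) = true := by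
    decide +kernel
  simp only [allLt_iff, bor_iff, band_iff, nbeq_iff, Bool.not_eq_true', ← Bool.not_eq_true] at k
  have k1 := ((((k p hp a ha b hb).resolve_left n).resolve_left na).resolve_left nb).resolve_left
    (not_not.2 e)
  exact ⟨k1.1, Bool.eq_false_iff.2 (((k1.2 q hq).resolve_left nq).resolve_left f)⟩

theorem comb {σ : ℕ → ℕ} (h1 : ∀ i < 21, σ i < 21)
    (h3 : ∀ a < 21, ∀ b < 21, ∀ x < 21, tt a b x = true → tt (σ a) (σ b) (σ x) = true)
    {p : ℕ} (hp : p < 21) (n : σ p ≠ p) : ∃ i < 21, ∃ j < 21, ∃ k < 21,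
      ka i ^^^ ka (σ i) ≠ 0 ∧ ka j ^^^ ka (σ j) ≠ 0 ∧ ka k ^^^ ka (σ k) ≠ 0 ∧
      ka i ^^^ ka (σ i) ≠ ka j ^^^ ka (σ j) ∧ ka i ^^^ ka (σ i) ≠ ka k ^^^ ka (σ k) ∧
      ka j ^^^ ka (σ j) ≠ ka k ^^^ ka (σ k) ∧
      ka i ^^^ ka (σ i) ^^^ (ka j ^^^ ka (σ j)) ≠ ka k ^^^ ka (σ k) := by
  classical
  set Mv := (Finset.range 21).filter fun i => σ i ≠ i with hMv
  have mem : ∀ i, i ∈ Mv ↔ i < 21 ∧ σ i ≠ i := fun i => by simp [hMv]
  have c1 : ∀ p < 21, ∀ q < 21,
      ((Finset.range 21).filter fun x => lk p x = lk p q).card ≤ 5 ∧ lk p q < 5 := by decide +kernel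
  have c2 : (((Finset.range 21).filter fun i => ¬ σ i ≠ i).filter
      fun x => ¬ lk p x = lk p (σ p)).card ≤ (Finset.range 5).card := by
    refine Finset.card_le_card_of_injOn (lk p) (fun x hx => ?_) fun a ha b hb e => ?_
    · simp only [Finset.coe_filter, Finset.mem_filter, Finset.mem_range, Set.mem_ofPred_eq] at hx
      simpa using (c1 p hp x hx.1.1).2
    · simp only [Finset.coe_filter, Finset.mem_filter, Finset.mem_range, Set.mem_ofPred_eq,
        not_not] at ha hb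
      by_contra nab
      obtain ⟨k1, k2⟩ := line hp ha.1.1 hb.1.1 (h1 p hp) nab (fun x => n (x ▸ ha.1.2))
        (fun x => n (x ▸ hb.1.2)) e n (Ne.symm ha.2)
      have := h3 a ha.1.1 b hb.1.1 p hp k1
      rw [ha.1.2, hb.1.2, k2] at this
      exact absurd this (by decide)
  have c3 : (((Finset.range 21).filter fun i => ¬ σ i ≠ i).filter
      fun x => lk p x = lk p (σ p)).card ≤ 5 :=
    (Finset.card_le_card (Finset.filter_subset_filter _ (Finset.filter_subset _ _))).trans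
      (c1 p hp _ (h1 p hp)).1
  have c4 := Finset.card_filter_add_card_filter_not (s := (Finset.range 21).filter fun i => ¬ σ i ≠ i)
    fun x => lk p x = lk p (σ p)
  have c5 := Finset.card_filter_add_card_filter_not (s := Finset.range 21) fun i => σ i ≠ i
  rw [Finset.card_range] at c2 c5
  have c6 : 11 ≤ Mv.card := by rw [hMv]; omega
  have nz : ∀ i ∈ Mv, ka i ^^^ ka (σ i) ≠ 0 := fun i hi e =>
    ((mem i).1 hi).2 (ka_inj _ ((mem i).1 hi).1 _ (h1 i ((mem i).1 hi).1)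
      (Nat.xor_eq_zero_iff.1 e)).symm
  have fib : ∀ r : ℕ, (Mv.filter fun k => r = ka k ^^^ ka (σ k)).card ≤ 2 := fun r => by
    rcases (Mv.filter fun k => r = ka k ^^^ ka (σ k)).eq_empty_or_nonempty with e | ⟨b, hb⟩
    · rw [e]; decide
    refine (Finset.card_le_card (t := {b, σ b}) fun k hk => ?_).trans Finset.card_le_two
    rw [Finset.mem_filter, mem] at hb hk
    simpa using pair_inj hb.1.1 (h1 b hb.1.1) hk.1.1 (h1 k hk.1.1) hb.1.2.symm
      (hb.2.symm.trans hk.2)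
  have hpM : p ∈ Mv := (mem p).2 ⟨hp, n⟩
  obtain ⟨j, hj, nj⟩ := Finset.exists_mem_notMem_of_card_lt_card
    ((fib (ka p ^^^ ka (σ p))).trans_lt (by omega : 2 < Mv.card))
  obtain ⟨k, hk, nk⟩ := Finset.exists_mem_notMem_of_card_lt_card
    (s := (Mv.filter fun k => ka p ^^^ ka (σ p) = ka k ^^^ ka (σ k)) ∪
      ((Mv.filter fun k => ka j ^^^ ka (σ j) = ka k ^^^ ka (σ k)) ∪
      (Mv.filter fun k => ka p ^^^ ka (σ p) ^^^ (ka j ^^^ ka (σ j)) = ka k ^^^ ka (σ k)))) (t := Mv)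
    ((Finset.card_union_le _ _).trans_lt ((Nat.add_le_add (fib _) ((Finset.card_union_le _ _).trans
      (Nat.add_le_add (fib _) (fib _)))).trans_lt (by omega)))
  simp only [Finset.mem_union, Finset.mem_filter, hj, hk, true_and, not_or] at nj nk
  exact ⟨p, hp, j, ((mem j).1 hj).1, k, ((mem k).1 hk).1, nz p hpM, nz j hj, nz k hk, nj, nk.1,
    nk.2.1, nk.2.2⟩

theorem indep {a b c : ℕ} (ha : a < 2 ^ 9) (hb : b < 2 ^ 9) (hc : c < 2 ^ 9) (n1 : a ≠ 0) (n2 : b ≠ 0)
    (n3 : c ≠ 0) (n4 : a ≠ b) (n5 : a ≠ c) (n6 : b ≠ c) (n7 : a ^^^ b ≠ c) (e : Fin 3 → Fin 2)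
    (h : ev a ^ (e 0).val * ev b ^ (e 1).val * ev c ^ (e 2).val = 1) : e = 0 := by
  have t : ∀ x : Fin 2, x = 0 ∨ x = 1 := by decide
  have z : ∀ {x y : ℕ}, x < 2 ^ 9 → y < 2 ^ 9 → ev x * ev y = 1 → x = y := fun hx hy h =>
    Nat.xor_eq_zero_iff.1 (ev_eq_one (Nat.xor_lt_two_pow hx hy) (by rw [ev_xor, h]))
  rcases t (e 0) with e0 | e0 <;> rcases t (e 1) with e1 | e1 <;> rcases t (e 2) with e2 | e2 <;>
    simp only [e0, e1, e2, Fin.val_zero, Fin.val_one, pow_zero, pow_one, one_mul, mul_one] at h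
  · funext i; fin_cases i; exacts [e0, e1, e2]
  · exact absurd (ev_eq_one hc h) n3
  · exact absurd (ev_eq_one hb h) n2
  · exact absurd (z hb hc h) n6
  · exact absurd (ev_eq_one ha h) n1
  · exact absurd (z ha hc h) n5
  · exact absurd (z ha hb h) n4
  · exact absurd (z (Nat.xor_lt_two_pow ha hb) hc (by rwa [ev_xor])) n7

theorem map_mem (β : MulAut PU6) {x : PU6} (hx : x ∈ tvP) : β x ∈ tvP := by
  refine subset_tvP (E := β '' tvP) ⟨?_, ?_⟩ ?_ ⟨x, hx, rfl⟩
  · rintro _ ⟨d, hd, rfl⟩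
    rw [MulEquiv.orderOf_eq]; exact fis_tvP.set.1 d hd
  · rintro _ ⟨d, hd, rfl⟩ _ ⟨e, he, rfl⟩
    rw [← map_mul, ← map_pow, ← map_pow, map_eq_one_iff _ β.injective, map_eq_one_iff _ β.injective]
    exact fis_tvP.set.2 d hd e he
  · rintro g _ ⟨d, hd, rfl⟩
    exact ⟨cj (β.symm g) d, fis_tvP.cj_mem _ _ hd, by simp [cj]⟩

theorem exists_code {x : PU6} (hx : x ∈ tvP) : ∃ w, iso w = true ∧ pt w = x := by
  obtain ⟨v, hv, rfl⟩ := ufr0.surj x hx
  obtain ⟨w, hw, rfl⟩ := exists_iso hv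
  exact ⟨w, hw, rfl⟩

/-- The candidates for the image of `y` are reached by elements of the group of the plane. -/
noncomputable def chk (F : List ℕ) (y : ℕ) (tab : List ℕ) : Bool :=
  band (band (iso y) (allL F iso)) <| band (allL tab fun x => fixesL sysU.T (bl x 9) F) <|
    allRange 0 4096 fun w => bor (!band (iso w) (allL F fun u =>
      Nat.beq (Nat.min (fm w u) 1) (Nat.min (fm y u) 1))) (force (nrm w) fun v =>
        !allL tab fun x => !Nat.beq (traceP sysU.T (bl x 9) y) v)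

theorem step {F : List ℕ} {y : ℕ} {tab : List ℕ} (h : chk F y tab = true) {β : MulAut PU6}
    (h1 : ∀ i < 21, β (pt (pl i)) = pt (pl i)) (h2 : ∀ u ∈ F, β (pt u) = pt u) :
    ∃ g : PU6, (∀ i < 21, ((MulAut.conj g)⁻¹ * β) (pt (pl i)) = pt (pl i)) ∧
      ∀ u ∈ y :: F, ((MulAut.conj g)⁻¹ * β) (pt u) = pt u := by
  simp only [chk, band_iff, allL_iff, fixesL, nbeq_iff] at h
  obtain ⟨⟨iy, iF⟩, hf, hw⟩ := h
  obtain ⟨w, iw, e⟩ := exists_code (map_mem β (pt_mem iy))
  have k := allRange_zero hw w (iso_iff.1 iw).1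
  have k1 : allL F (fun u => Nat.beq (Nat.min (fm w u) 1) (Nat.min (fm y u) 1)) = true :=
    (allL_iff _ _).2 fun u hu => (nbeq_iff _ _).2 (by
      have : fm w u = 0 ↔ fm y u = 0 := by
        rw [← ufr0.commute_code (iF u hu) iw, ← ufr0.commute_code (iF u hu) iy]
        show Commute (pt u) (pt w) ↔ Commute (pt u) (pt y)
        rw [e]; nth_rw 1 [← h2 u hu]
        exact ⟨fun c => c.of_map β.injective, fun c => c.map β⟩
      show min _ 1 = min _ 1
      omega)
  rw [iw, k1, bor_iff, force_eq] at k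
  have k2 := k.resolve_left (by decide)
  simp only [Bool.not_eq_true', ← Bool.not_eq_true, allL_iff, not_forall, not_not, nbeq_iff] at k2
  obtain ⟨x, hx, k3⟩ := k2
  have key : ∀ a b : PU6, cj (ev x) a = b → β a = b → ((MulAut.conj (ev x))⁻¹ * β) a = a :=
    fun a b e1 e2 => by
      rw [MulAut.mul_apply, e2, ← e1, ← map_inv, MulAut.conj_apply, cj]; group
  refine ⟨ev x, fun i hi => key _ _ (cj_eq_self_iff.2 (comm_ev hi (by decide) x).symm) (h1 i hi),
    List.forall_mem_cons.2 ⟨key _ _ ?_ e.symm, fun u hu => key _ _ ?_ (h2 u hu)⟩⟩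
  · exact (cj_word (iso_bl x) iy).trans (by rw [k3]; exact ufr0.nrm iw)
  · exact (cj_word (iso_bl x) (iF u hu)).trans (by rw [hf x hx u hu])

theorem eq_one {β : MulAut PU6} (h1 : ∀ i < 21, β (pt (pl i)) = pt (pl i))
    (h2 : ∀ u ∈ [1536, 96, 6, 5, 80, 1280], β (pt u) = pt u) : β = 1 := by
  have h3 : ∀ u ∈ [1536, 96, 6, 5, 80, 1280, 85, 90, 95, 1360, 1520],
      pt u ∈ MonoidHom.eqLocus β.toMonoidHom (MonoidHom.id _) := by
    simp only [List.forall_mem_cons] at h2 ⊢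
    exact ⟨h2.1, h2.2.1, h2.2.2.1, h2.2.2.2.1, h2.2.2.2.2.1, h2.2.2.2.2.2.1, h1 3 (by decide),
      h1 4 (by decide), h1 9 (by decide), h1 7 (by decide), h1 17 (by decide), by simp⟩
  have k : ∀ x < 7, ∃ e ∈ [([], 6), ([], 5), ([95, 6], 5), ([85, 96, 90, 6], 5), ([], 80),
      ([1520, 1536, 96], 1360), ([], 1280)], traceP sysU.T e.1 e.2 = cdU x ∧
      ∀ u ∈ e.2 :: e.1, iso u = true ∧ u ∈ [1536, 96, 6, 5, 80, 1280, 85, 90, 95, 1360, 1520] := by
    decide +kernel
  have h4 := ufr_subset ufr0 (K := MonoidHom.eqLocus β.toMonoidHom (MonoidHom.id _)) fun x hx => by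
    obtain ⟨e, -, e1, e2⟩ := k x hx
    rw [List.forall_mem_cons] at e2
    have m := evalW_mem (g := pt) (w := e.1) fun u hu => h3 u (e2.2 u hu).2
    have := mul_mem (mul_mem m (h3 _ e2.1.2)) (inv_mem m)
    rw [← e1]
    show pt _ ∈ _
    rw [← cj_word (fun u hu => (e2.2 u hu).1) e2.1.1]
    exact this
  exact MulEquiv.ext fun g => (closure_le _).2 h4 (fis_tvP.group.mem_closure g)

theorem inner {β : MulAut PU6} (h1 : ∀ i < 21, β (pt (pl i)) = pt (pl i)) :
    ∃ g, β = MulAut.conj g := by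
  obtain ⟨g1, a1, b1⟩ := step (F := [5, 80, 1280]) (y := 6) (tab := [0, 1, 24, 16, 25, 9, 17, 8, 96,
    64, 97, 33, 65, 32, 120, 81, 121, 40, 80, 41, 113, 73, 112, 57, 72, 56, 105, 88, 104, 48, 89, 49])
    (by decide +kernel) h1 (by
      simp only [List.forall_mem_cons]
      exact ⟨h1 0 (by decide), h1 1 (by decide), h1 2 (by decide), by simp⟩)
  obtain ⟨g2, a2, b2⟩ := step (F := [6, 5, 80, 1280]) (y := 96) (tab := [0, 2, 384, 256, 386, 130, 258, 128])
    (by decide +kernel) a1 b1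
  obtain ⟨g3, a3, b3⟩ := step (F := [96, 6, 5, 80, 1280]) (y := 1536) (tab := [0, 4])
    (by decide +kernel) a2 b2
  have := eq_one a3 b3
  rw [inv_mul_eq_one, eq_inv_mul_iff_mul_eq, eq_inv_mul_iff_mul_eq] at this
  exact ⟨g1 * (g2 * g3), by rw [map_mul, map_mul, this]⟩

/-- The group of the plane. -/
noncomputable def EP : Subgroup PU6 where
  carrier := Set.range ev
  one_mem' := ⟨0, ev_zero⟩
  mul_mem' := by rintro _ _ ⟨a, rfl⟩ ⟨b, rfl⟩; exact ⟨_, ev_xor a b⟩
  inv_mem' := by rintro _ ⟨a, rfl⟩; exact ⟨a, (inv_eq_of_mul_eq_one_right (ev_sq a)).symm⟩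

theorem pg_EP : IsPGroup 2 EP := fun ⟨_, a, rfl⟩ =>
  ⟨1, Subtype.ext (by rw [pow_one, pow_two]; exact ev_sq a)⟩

theorem comm_of_pg {S : Subgroup PU6} (hS : IsPGroup 2 S) {a b : PU6} (ha : a ∈ tvP) (hb : b ∈ tvP)
    (ha' : a ∈ S) (hb' : b ∈ S) : Commute a b := by
  rw [fis_tvP.set.commute_iff_sq ha hb]
  refine (fis_tvP.set.2 a ha b hb).elim id fun h3 => ?_
  obtain ⟨k, hk⟩ := hS ⟨a * b, mul_mem ha' hb'⟩
  have h2 : (a * b) ^ 2 ^ k = 1 := congrArg Subtype.val hk
  have := pow_gcd_eq_one.2 ⟨h2, h3⟩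
  rw [Nat.Coprime.gcd_eq_one (Nat.Coprime.pow_left k (by decide)), pow_one] at this
  rw [this, one_pow]

theorem max_pl {x : PU6} (hx : x ∈ tvP) (h : ∀ i < 21, Commute (pt (pl i)) x) :
    ∃ j < 21, x = pt (pl j) := by
  have k : allRange 0 4096 (fun w => bor (!band (iso w) (allLt 3 fun i => Nat.beq (fm w (pl i)) 0))
      (force (nrm w) fun v => !allLt 21 fun j => !Nat.beq v (pl j))) = true := by decide +kernel
  obtain ⟨w, iw, rfl⟩ := exists_code hx
  have k1 := allRange_zero k w (iso_iff.1 iw).1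
  rw [iw, (allLt_iff _ _).2 fun i hi => (nbeq_iff _ _).2
    ((ufr0.commute_code (iso_pl i (by omega)) iw).1 (h i (by omega))), bor_iff, force_eq] at k1
  have k2 := k1.resolve_left (by decide)
  simp only [Bool.not_eq_true', ← Bool.not_eq_true, allLt_iff, not_forall, not_not, nbeq_iff] at k2
  obtain ⟨j, hj, e⟩ := k2
  exact ⟨j, hj, (ufr0.nrm iw).symm.trans (by rw [e]; rfl)⟩

theorem exists_plane (α : MulAut PU6) (h2 : α * α = 1) :
    ∃ g, ∀ i < 21, ∃ j < 21, α (g * pt (pl i) * g⁻¹) = g * pt (pl j) * g⁻¹ := by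
  have : Fact (Nat.Prime 2) := ⟨Nat.prime_two⟩
  have hP : IsPGroup 2 (zpowers α) := by
    refine IsPGroup.of_card_dvd_pow (n := 1) ?_
    rw [Nat.card_zpowers, pow_one]
    exact orderOf_dvd_of_pow_eq_one (by rw [pow_two, h2])
  obtain ⟨S, hS⟩ := hP.nonempty_fixed_point_of_prime_not_dvd_card (Sylow 2 PU6)
    (not_dvd_card_sylow 2 PU6)
  have hS' : α • S = S := hS ⟨α, mem_zpowers α⟩
  obtain ⟨S0, h0⟩ := pg_EP.exists_le_sylow
  obtain ⟨g, rfl⟩ := MulAction.exists_smul_eq PU6 S0 S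
  have m : ∀ i < 21, g * pt (pl i) * g⁻¹ ∈ ((g • S0 : Sylow 2 PU6) : Subgroup PU6) := fun i hi =>
    smul_mem_pointwise_smul _ (MulAut.conj g) _ (h0 ⟨_, (pt_pl hi).symm⟩)
  have t : ∀ i < 21, g * pt (pl i) * g⁻¹ ∈ tvP := fun i hi =>
    fis_tvP.cj_mem g _ (pt_mem (iso_pl i hi))
  refine ⟨g, fun i hi => ?_⟩
  have m' : α (g * pt (pl i) * g⁻¹) ∈ ((g • S0 : Sylow 2 PU6) : Subgroup PU6) := by
    rw [← hS']; exact smul_mem_pointwise_smul _ α _ (m i hi)
  obtain ⟨j, hj, e⟩ := max_pl (fis_tvP.cj_mem g⁻¹ _ (map_mem α (t i hi))) fun j hj => by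
    have := (comm_of_pg (g • S0).isPGroup' (t j hj) (map_mem α (t i hi)) (m j hj) m').conj g⁻¹
    simpa [mul_assoc, cj] using this
  exact ⟨j, hj, by rw [← e, cj]; group⟩

end FPl

open FPl in
/-- An outer involutory automorphism of `U₆(2)` moves three commuting transvections independently. -/
theorem aut_plane (α : MulAut TT.PU6) (h2 : α * α = 1) (hn : ∀ g, α ≠ MulAut.conj g) :
    ∃ p : Fin 3 → TT.PU6, (∀ i, p i ∈ TT.tvP) ∧ (∀ i j, Commute (p i) (p j) ∧ Commute (p i) (α (p j))) ∧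
      ∀ e : Fin 3 → Fin 2, (p 0 * α (p 0)) ^ (e 0).val * (p 1 * α (p 1)) ^ (e 1).val * (p 2 * α (p 2)) ^ (e 2).val = 1 →
        e = 0 := by
  obtain ⟨g, hg⟩ := exists_plane α h2
  choose! σ h1 hσ using hg
  have hβ : ∀ i < 21, ((MulAut.conj g)⁻¹ * α * MulAut.conj g) (pt (pl i)) = pt (pl (σ i)) :=
    fun i hi => by
      rw [MulAut.mul_apply, MulAut.mul_apply, MulAut.conj_apply, hσ i hi, ← map_inv,
        MulAut.conj_apply]
      group
  generalize hb : (MulAut.conj g)⁻¹ * α * MulAut.conj g = β at hβ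
  by_cases hf : ∀ i < 21, σ i = i
  · obtain ⟨k, hk⟩ := inner fun i hi => (hβ i hi).trans (by rw [hf i hi])
    refine absurd ?_ (hn (g * k * g⁻¹))
    rw [map_mul, map_mul, map_inv, ← hk, ← hb]; group
  simp only [not_forall] at hf
  obtain ⟨p, hp, n⟩ := hf
  have lt : ∀ a < 21, ∀ b < 21, ka a ^^^ ka b < 2 ^ 9 := fun a ha b hb =>
    Nat.xor_lt_two_pow (ka_lt a ha) (ka_lt b hb)
  have lt3 : ∀ a < 21, ∀ b < 21, ∀ x < 21, ka a ^^^ ka b ^^^ ka x < 2 ^ 9 := fun a ha b hb x hx =>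
    Nat.xor_lt_two_pow (lt a ha b hb) (ka_lt x hx)
  have hβ' : ∀ i < 21, β (ev (ka i)) = ev (ka (σ i)) := fun i hi => by
    rw [← pt_pl hi, ← pt_pl (h1 i hi), hβ i hi]
  obtain ⟨i, hi, j, hj, k, hk, n1, n2, n3, n4, n5, n6, n7⟩ := comb h1 (fun a ha b hb x hx t => by
    obtain ⟨c, hc, d, hd, e⟩ := (m2_iff (lt3 a ha b hb x hx)).1 t
    refine (m2_iff (lt3 _ (h1 a ha) _ (h1 b hb) _ (h1 x hx))).2 ⟨_, h1 c hc, _, h1 d hd, ev_inj
      (lt3 _ (h1 a ha) _ (h1 b hb) _ (h1 x hx)) (lt _ (h1 c hc) _ (h1 d hd)) ?_⟩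
    rw [ev_xor, ev_xor, ev_xor, ← hβ' a ha, ← hβ' b hb, ← hβ' x hx, ← hβ' c hc, ← hβ' d hd, ← map_mul,
      ← map_mul, ← map_mul, ← ev_xor, ← ev_xor, ← ev_xor, e]) hp n
  have hq : ∀ m : Fin 3, ![i, j, k] m < 21 := fun m => by fin_cases m; exacts [hi, hj, hk]
  have w : ∀ i < 21, g * pt (pl i) * g⁻¹ * α (g * pt (pl i) * g⁻¹) =
      g * ev (ka i ^^^ ka (σ i)) * g⁻¹ := fun i hi => by
    rw [hσ i hi, ev_xor, ← pt_pl hi, ← pt_pl (h1 i hi)]; group
  refine ⟨fun m => g * pt (pl (![i, j, k] m)) * g⁻¹,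
    fun m => fis_tvP.cj_mem g _ (pt_mem (iso_pl _ (hq m))), fun a b => ⟨(comm_pl (hq a) (hq b)).conj g,
      by rw [hσ _ (hq b)]; exact (comm_pl (hq a) (h1 _ (hq b))).conj g⟩, fun e he => ?_⟩
  refine indep (lt _ hi _ (h1 i hi)) (lt _ hj _ (h1 j hj)) (lt _ hk _ (h1 k hk)) n1 n2 n3 n4 n5 n6 n7 e ?_
  rw [w _ (hq 0), w _ (hq 1), w _ (hq 2), conj_pow, conj_pow, conj_pow, conj_mul, conj_mul,
    conj_eq_one_iff] at he
  exact he

end Cfsg.Agent.T3
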