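import Mathlib
import Cfsg.Agent.T3.FKh
import Cfsg.Agent.T3.FP
import Cfsg.Agent.T3.FLB
import Cfsg.Agent.F24S.KAut

/-! `Fi₂₂` or `Fi₂₂ : 2` from the centraliser of an involution (section FL of `stubs/Cfsg/Agent/T3/FPLAN.md`). -/

set_option autoImplicit false

namespace Cfsg.Agent.T3

open Cfsg.Agent.Spor

section

open Cfsg.Agent.Spor.TT Cfsg.Agent.Spor.FC Subgroup
open scoped commutatorElement

variable {G : Type*} [Group G] {d x y n e : G} {K0 : Subgroup G} {π : K0 →* PU6} {O : Set K0} {a b c t : K0}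

theorem FL.aut_tvP (α : MulAut PU6) {u : PU6} (hu : u ∈ tvP) : α u ∈ tvP := by
  have h1 := cls_tvP.group.image (f := α.toMonoidHom) α.surjective fun d hd h =>
    cls_tvP.set.ne_one hd (α.map_eq_one_iff.1 h)
  exact subset_tvP h1.set h1.cj_mem ⟨u, hu, rfl⟩

namespace Kh

theorem comm (h : Kh d x y K0 π) (k : K0) : Commute d k := mem_cen.1 (h.le k.2)

theorem comm' (h : Kh d x y K0 π) (k : K0) : Commute (⟨d, h.dm⟩ : K0) k := Subtype.ext (h.comm k)

theorem sq (h : Kh d x y K0 π) : d * d = 1 := by rw [← pow_two, ← h.ord, pow_orderOf_eq_one]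

theorem proj (h : Kh d x y K0 π) : Proj (⟨d, h.dm⟩ : K0) π := by
  refine ⟨by rw [← h.ord, ← orderOf_coe], fun a b _ _ => map_mul π a b, fun a _ => ?_,
    fun u => let ⟨k, hk⟩ := h.surj u; ⟨k, h.comm' k, hk⟩, fun K hK => ?_⟩
  · rw [h.ker, Subtype.ext_iff, Subtype.ext_iff]; rfl
  · have h1 : ⁅K0, K0⁆ ≤ K.map K0.subtype := commutator_le.2 fun a ha b hb => by
      refine ⟨⁅(⟨a, ha⟩ : K0), (⟨b, hb⟩ : K0)⁆, ?_, rfl⟩
      generalize (⟨a, ha⟩ : K0) = a, (⟨b, hb⟩ : K0) = b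
      have e1 : ∀ a b : K0, ⁅(⟨d, h.dm⟩ : K0) * a, b⁆ = ⁅a, b⁆ := fun a b => by
        rw [commutatorElement_def, commutatorElement_def, (h.comm' a).eq, mul_inv_rev, mul_assoc a _ b,
          (h.comm' b).eq]
        group
      have e2 : ∀ a b : K0, ⁅a, (⟨d, h.dm⟩ : K0) * b⁆ = ⁅a, b⁆ := fun a b => by
        rw [← commutatorElement_inv, e1, commutatorElement_inv]
      have m : ∀ a ∈ K, ∀ b ∈ K, ⁅a, b⁆ ∈ K := fun a ha b hb =>
        mul_mem (mul_mem (mul_mem ha hb) (inv_mem ha)) (inv_mem hb)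
      rcases hK a (h.comm' a) with k1 | k1 <;> rcases hK b (h.comm' b) with k2 | k2 <;>
        simpa only [e1, e2, SetLike.mem_coe] using m _ k1 _ k2
    rw [h.perf] at h1
    obtain ⟨k, hk, e⟩ := h1 h.dm
    rwa [show (⟨d, h.dm⟩ : K0) = k from Subtype.ext e.symm]

theorem norm (h : Kh d x y K0 π) (hn : Commute d n) (k : K0) : cj n k ∈ K0 := by
  rcases h.idx with e | e
  · have := commute_cj_of_commute hn (h.comm k)
    rw [← mem_cen, ← e] at this
    exact this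
  · have := normal_of_index_eq_two e
    exact this.conj_mem (⟨k, h.le k.2⟩ : centralizer {d}) k.2 ⟨n, mem_cen.2 hn⟩

theorem mul_mem' (h : Kh d x y K0 π) {u v : G} (hu : Commute d u) (hv : Commute d v) (h1 : u ∉ K0) (h2 : v ∉ K0) :
    u * v ∈ K0 := by
  rcases h.idx with e | e
  · exact absurd (e ▸ mem_cen.2 hu) h1
  · exact (mul_mem_iff_of_index_two e (a := ⟨u, mem_cen.2 hu⟩) (b := ⟨v, mem_cen.2 hv⟩)).2 (iff_of_false h1 h2)

theorem exists_aut (h : Kh d x y K0 π) (hn : Commute d n) :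
    ∃ α : MulAut PU6, ∀ k : K0, α (π k) = π ⟨cj n k, h.norm hn k⟩ := by
  let β : K0 →* K0 := ⟨⟨fun k => ⟨cj n k, h.norm hn k⟩, Subtype.ext (cj_one_right n)⟩,
    fun a b => Subtype.ext (cj_mul n a b)⟩
  let ψ : PU6 →* PU6 := π.liftOfSurjective h.surj ⟨π.comp β, fun k hk => by
    rw [MonoidHom.mem_ker] at hk ⊢
    refine (h.ker _).2 (((h.ker k).1 hk).imp (fun e => ?_) fun e => ?_)
    · exact (congrArg (cj n) e).trans (cj_one_right n)
    · exact (congrArg (cj n) e).trans (cj_of_commute hn.symm)⟩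
  have hψ : ∀ k, ψ (π k) = π (β k) := fun k => π.liftOfRightInverse_comp_apply _ _ _ k
  have hs : Function.Surjective ψ := fun u => by
    obtain ⟨k, rfl⟩ := h.surj u
    exact ⟨_, (hψ ⟨_, h.norm hn.inv_right k⟩).trans (congrArg π (Subtype.ext (cj_cj_inv n k)))⟩
  exact ⟨MulEquiv.ofBijective ψ ⟨Finite.injective_iff_surjective.2 hs, hs⟩, hψ⟩

theorem exists_O (h : Kh d x y K0 π) : ∃ O : Set K0, Cov ⟨d, h.dm⟩ π tvP O ∧ ∃ x' ∈ O, (x' : G) = x := by
  obtain ⟨O, k⟩ := h.proj.exists_cov bs_tvP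
  obtain ⟨hx, m⟩ := h.xm
  obtain ⟨a, ha, e⟩ := k.lift m
  rcases k.eq_or (h.comm' _) (h.comm' _) e with e | e
  · exact ⟨O, k, a, ha, congrArg Subtype.val e.symm⟩
  · exact ⟨_, k.swap, _, ⟨a, ha, rfl⟩, congrArg Subtype.val e.symm⟩

variable (h : Kh d x y K0 π) (k : Cov ⟨d, h.dm⟩ π tvP O) (hx : ∃ x' ∈ O, (x' : G) = x)
include k hx

theorem memD (ha : a ∈ O) : (a : G) ∈ conjugatesOf d ∧ d * a ∉ conjugatesOf d := by
  obtain ⟨x', hx, rfl⟩ := hx
  obtain ⟨g, -, rfl⟩ := k.exists_cj hx ha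
  obtain ⟨g0, e, -⟩ := h.cyc
  refine ⟨cj_mem_conjugatesOf (g : G) (isConj_iff.2 ⟨g0, e⟩), fun m => h.nc2 ?_⟩
  rw [coe_cj, ← cj_of_commute (h.comm g).symm, ← cj_mul, cj_of_commute (h.comm g).symm,
    cj_mem_conjugatesOf_iff] at m
  exact m

theorem mem_O (ht : (t : G) ∈ conjugatesOf d) (m : π t ∈ tvP) : t ∈ O := by
  obtain ⟨a, ha, e⟩ := k.lift m
  rcases k.eq_or (h.comm' _) (h.comm' _) e with rfl | rfl
  · exact ha
  · exact absurd ht (h.memD k hx ha).2

theorem pair (ha : a ∈ O) (hb : b ∈ Dx O a) : ∃ g : G, cj g d = d ∧ cj g x = a ∧ cj g y = b := by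
  obtain ⟨hy, m⟩ := h.ym
  obtain ⟨g0, e1, e2, -⟩ := h.cyc
  have hy' : (⟨y, hy⟩ : K0) ∈ O := h.mem_O k hx ((isConj_iff.2 ⟨g0, e1⟩).trans (isConj_iff.2 ⟨g0, e2⟩)) m
  obtain ⟨x', hx, rfl⟩ := hx
  obtain ⟨g, -, f1, f2⟩ := k.exists_pair hx ⟨hy', fun e => h.ne (congrArg Subtype.val e).symm, Subtype.ext h.xy⟩ ha hb
  exact ⟨g, cj_of_commute (h.comm g).symm, congrArg Subtype.val f1, congrArg Subtype.val f2⟩

theorem two (ha : a ∈ O) (hb : b ∈ Dx O a) :
    (a : G) * b ∉ conjugatesOf d ∧ d * ((a : G) * b) ∉ conjugatesOf d := by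
  obtain ⟨g, e1, e2, e3⟩ := h.pair k hx ha hb
  obtain ⟨g0, f1, f2, -⟩ := h.cyc
  rw [← e2, ← e3, ← cj_mul]
  refine ⟨fun m => h.nc2 ?_, fun m => h.nc3 ?_⟩
  · rw [cj_mem_conjugatesOf_iff, ← f2, ← f1, ← cj_def, ← cj_def, ← cj_mul, cj_mem_conjugatesOf_iff, cj_def, f1] at m
    exact m
  · rw [← e1, ← cj_mul, e1, cj_mem_conjugatesOf_iff, ← mul_assoc] at m
    exact m

theorem cjO (hn : Commute d n) (ha : a ∈ O) : (⟨cj n a, h.norm hn a⟩ : K0) ∈ O := by
  obtain ⟨α, hα⟩ := h.exists_aut hn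
  exact h.mem_O k hx (cj_mem_conjugatesOf n (h.memD k hx ha).1) (hα a ▸ FL.aut_tvP α (k.mem ha))

theorem three (l : Cl3 O a b c) : (a : G) * b * c ∉ conjugatesOf d := by
  obtain ⟨g1, -, e2, e3⟩ := h.pair k hx l.ma ⟨l.mb, l.ab.symm, l.cab⟩
  obtain ⟨g2, -, f2, f3⟩ := h.pair k hx l.ma ⟨l.mc, l.ac.symm, l.cac⟩
  obtain ⟨g0, s1, s2, -⟩ := h.cyc
  rw [← cj_def] at s1 s2
  obtain ⟨x', hx', rfl⟩ := id hx
  have hn : Commute d ((g1 * g0)⁻¹ * (g2 * g0)) := (cj_eq_self_iff.1 (by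
    rw [← cj_cj, ← cj_cj g2, s1, f2, ← e2, ← s1, cj_cj g1, cj_inv_cj])).symm
  have e4 : cj (g1 * g0) (cj ((g1 * g0)⁻¹ * (g2 * g0)) x') = c := by
    rw [cj_cj, mul_inv_cancel_left, ← cj_cj, s2, f3]
  have e5 : cj (g1 * g0) x' = b := by rw [← cj_cj, s2, e3]
  have e6 : cj (g1 * g0) d = a := by rw [← cj_cj, s1, e2]
  rw [← e4, ← e5, ← e6, ← cj_mul, ← cj_mul, cj_mem_conjugatesOf_iff, mul_assoc]
  refine (h.two k hx hx' ⟨h.cjO k hx hn hx', fun e => l.bc (Subtype.ext ?_), commute_coe.1 ?_⟩).2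
  · rw [← e4, ← e5]
    exact congrArg (cj _) (congrArg Subtype.val e).symm
  · refine (commute_cj (g := g1 * g0)).1 ?_
    rw [e4, e5]
    exact commute_coe.2 l.cbc

variable [Finite G]

theorem cases (ht : (t : G) ∈ conjugatesOf d) : (t : G) = d ∨ t ∈ O := by
  have t2 : t * t = 1 := Subtype.ext (by
    obtain ⟨g, e⟩ := TT.mem_conjugatesOf_iff.1 ht
    rw [coe_mul, ← e, ← cj_mul, h.sq, cj_one_right, coe_one])
  obtain ⟨s, e, l⟩ := k.cases (h.comm' t) (by rw [← map_mul, t2, map_one])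
  rcases l with rfl | l | ⟨a, ha, b, hb, rfl⟩ | ⟨a, b, c, l, rfl⟩ <;> rcases e with rfl | rfl
  · exact absurd (Subtype.ext (isConj_one_left.1 ht)) k.ne_one
  · exact Or.inl (mul_one d)
  · exact Or.inr l
  · exact absurd ht (h.memD k hx l).2
  · exact absurd ht (h.two k hx ha hb).1
  · exact absurd ht (h.two k hx ha hb).2
  · exact absurd ht (h.three k hx (k.cl3 l))
  · obtain ⟨p, q, r, p', q', r', u, u', -, e⟩ := k.hexU
    obtain ⟨g, hg, e2⟩ := k.exists_tri l u'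
    have e3 : p * q * r = cj g (⟨d, h.dm⟩ * (a * b * c)) := by
      rw [cj_mul, cj_of_commute hg.symm, e2, ← e, mul_assoc (p * q * r), k.sq_three (k.cl3 u'), mul_one]
    refine absurd ?_ (h.three k hx (k.cl3 u))
    rw [← coe_mul, ← coe_mul, e3, coe_cj]
    exact cj_mem_conjugatesOf _ ht

theorem four {v w : G} (hv : v ∈ K0) (hw : w ∈ K0) (h1 : d * v ∈ conjugatesOf d) (h2 : d * w ∈ conjugatesOf d)
    (h3 : d * (v * w) ∈ conjugatesOf d) (n1 : v ≠ 1) (n2 : w ≠ 1) (n3 : v ≠ w) (c : Commute v w) : False := by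
  have m1 := (h.cases k hx (t := ⟨d * v, mul_mem h.dm hv⟩) h1).resolve_left fun e => n1 (mul_eq_left.1 e)
  have m2 := (h.cases k hx (t := ⟨d * w, mul_mem h.dm hw⟩) h2).resolve_left fun e => n2 (mul_eq_left.1 e)
  have c1 : Commute d v := h.comm ⟨v, hv⟩
  have c2 : Commute d w := h.comm ⟨w, hw⟩
  refine (h.two k hx m1 ⟨m2, fun e => n3 (mul_left_cancel (congrArg Subtype.val e)).symm,
    commute_coe.1 (((Commute.refl d).mul_right c2).mul_left (c1.symm.mul_right c))⟩).2 ?_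
  show d * (d * v * (d * w)) ∈ _
  rwa [mul_assoc d v, c1.symm.left_comm, ← mul_assoc d d (v * w), h.sq, one_mul]

theorem out (he : e ∈ conjugatesOf d) (hc : Commute d e) : e ∈ K0 := by
  by_contra hn
  obtain ⟨g, hg⟩ := TT.mem_conjugatesOf_iff.1 he
  have e2 : e * e = 1 := by rw [← hg, ← cj_mul, h.sq, cj_one_right]
  have ee : ∀ z, cj e (cj e z) = z := fun z => by rw [cj_cj, e2, cj_one]
  obtain ⟨α, hα⟩ := h.exists_aut hc
  obtain ⟨p, p1, p2, p3⟩ := aut_plane α (MulEquiv.ext fun u => by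
      obtain ⟨z, rfl⟩ := h.surj u
      rw [MulAut.mul_apply, hα, hα]
      exact congrArg π (Subtype.ext (ee z))) fun u hu => by
    obtain ⟨z, rfl⟩ := h.surj u
    have h1 : ∀ a ∈ O, Commute ((z : G)⁻¹ * e) a := fun a ha => by
      have := k.cj_eq (h.comm' z) ha (h.cjO k hx hc ha) (by rw [← hα, hu]; rfl)
      rw [← cj_eq_self_iff, ← cj_cj, cj_eq_iff, inv_inv]
      exact (congrArg Subtype.val this).symm
    have h2 : (z : G)⁻¹ * e ∈ zpowers d := h.cen ⟨mem_cen.2 ((h.comm z).inv_right.mul_right hc), fun w hw => by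
      have := mem_map_of_mem K0.subtype (k.gen (h.comm' ⟨w, hw⟩))
      rw [MonoidHom.map_closure] at this
      exact (commute_of_mem_closure (by rintro _ ⟨a, ha, rfl⟩; exact h1 a ha) this).symm⟩
    exact hn (by simpa using mul_mem z.2 ((zpowers_le.2 h.dm) h2))
  choose a a1 a2 using fun i => k.lift (p1 i)
  let b : Fin 3 → K0 := fun i => ⟨cj e (a i), h.norm hc (a i)⟩
  have b1 : ∀ i, b i ∈ O := fun i => h.cjO k hx hc (a1 i)
  have b2 : ∀ i, π (b i) = α (p i) := fun i => by rw [← a2, hα]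
  have aa : ∀ i j, Commute (a i) (a j) := fun i j => (k.commute_iff (a1 i) (a1 j)).1 (by rw [a2, a2]; exact (p2 i j).1)
  have ab : ∀ i j, Commute (a i) (b j) := fun i j => (k.commute_iff (a1 i) (b1 j)).1 (by rw [a2, b2]; exact (p2 i j).2)
  have bb : ∀ i j, Commute (b i) (b j) := fun i j => commute_coe.1 (commute_cj.2 (commute_coe.2 (aa i j)))
  have ww : ∀ i j, Commute (a i * b i) (a j * b j) := fun i j =>
    ((aa i j).mul_right (ab i j)).mul_left ((ab j i).symm.mul_right (bb i j))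
  have w2 : ∀ i, a i * b i * (a i * b i) = 1 := fun i => k.sq_two (a1 i) (b1 i) (ab i i)
  have we : ∀ i, Commute e (a i * b i : K0) := fun i => cj_eq_self_iff.1 (by
    rw [coe_mul, cj_mul, ee, ← coe_mul, (ab i i).eq]
    rfl)
  let f : (Fin 3 → Fin 2) → K0 := fun ε =>
    (a 0 * b 0) ^ (ε 0).val * (a 1 * b 1) ^ (ε 1).val * (a 2 * b 2) ^ (ε 2).val
  have pw : ∀ i (s t : Fin 2), (a i * b i) ^ (s + t).val = (a i * b i) ^ s.val * (a i * b i) ^ t.val := fun i s t => by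
    fin_cases s <;> fin_cases t <;> simp [w2, Fin.add_def]
  have f1 : ∀ ε δ, f (ε + δ) = f ε * f δ := fun ε δ => by
    simp only [f, Pi.add_apply, pw]
    rw [((ww 0 1).pow_pow _ _).mul_mul_mul_comm,
      (((ww 0 2).pow_pow _ _).mul_left ((ww 1 2).pow_pow _ _)).mul_mul_mul_comm]
  have f2 : ∀ ε, f ε = 1 → ε = 0 := fun ε l => p3 ε (by
    have := congrArg π l
    simpa only [f, map_mul, map_pow, a2, b2, map_one] using this)
  have f3 : ∀ ε, Commute e (f ε) := fun ε => by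
    simp only [f, coe_mul, coe_pow]
    exact (((we 0).pow_right _).mul_right ((we 1).pow_right _)).mul_right ((we 2).pow_right _)
  have st : ∀ i (s : Fin 2) (z : K0), Commute (a i) z → e * z ∈ conjugatesOf d →
      e * ((a i * b i) ^ s.val * z : K0) ∈ conjugatesOf d := fun i s z c m => by
    fin_cases s
    · simpa using m
    · have s1 : (a i : G) * a i = 1 := congrArg Subtype.val (k.sq' (a1 i))
      have := cj_mem_conjugatesOf (a i : G) m
      rw [cj_mul, cj_of_commute (commute_coe.2 c)] at this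
      have e1 : cj (a i : G) e = e * (b i * a i) := by
        show _ = e * (cj e (a i) * a i)
        rw [cj_def, cj_def, inv_eq_of_mul_eq_one_right s1, inv_eq_of_mul_eq_one_right e2]
        simp only [← mul_assoc, e2, one_mul]
      simpa [e1, (ab i i).eq, mul_assoc] using this
  have f4 : ∀ ε, e * f ε ∈ conjugatesOf d := fun ε => by
    have aw : ∀ i j, Commute (a i) (a j * b j) := fun i j => (aa i j).mul_right (ab i j)
    have := st 0 (ε 0) _ (((aw 0 1).pow_right _).mul_right (((aw 0 2).pow_right _).mul_right (Commute.one_right _)))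
      (st 1 (ε 1) _ (((aw 1 2).pow_right _).mul_right (Commute.one_right _))
        (st 2 (ε 2) 1 (Commute.one_right _) (by simpa using he)))
    rwa [mul_one, ← mul_assoc] at this
  have F3 : ∀ ε, Commute d (cj g⁻¹ (f ε)) := fun ε => commute_cj_left.1 (hg ▸ f3 ε)
  have F4 : ∀ ε, d * cj g⁻¹ (f ε) ∈ conjugatesOf d := fun ε => by
    rw [← cj_mem_conjugatesOf_iff g, cj_mul, cj_cj_inv, hg]
    exact f4 ε
  have F1 : ∀ ε δ, cj g⁻¹ (f (ε + δ) : G) = cj g⁻¹ (f ε) * cj g⁻¹ (f δ) := fun ε δ => by rw [f1, coe_mul, cj_mul]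
  have F2 : ∀ ε, cj g⁻¹ (f ε : G) = 1 → ε = 0 := fun ε l =>
    f2 ε (Subtype.ext (cj_inj.1 (l.trans (cj_one_right _).symm)))
  have key : ∀ ε δ, ε ≠ 0 → δ ≠ 0 → ε + δ ≠ 0 → cj g⁻¹ (f ε : G) ∈ K0 → cj g⁻¹ (f δ : G) ∈ K0 → False :=
    fun ε δ n1 n2 n3 m1 m2 => h.four k hx m1 m2 (F4 ε) (F4 δ) (F1 ε δ ▸ F4 _) (fun l => n1 (F2 _ l))
      (fun l => n2 (F2 _ l)) (fun l => n3 (F2 _ (by
        have : ∀ δ : Fin 3 → Fin 2, δ + δ = 0 := by decide
        rw [F1, l, ← F1, this]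
        simp [f, cj_one_right]))) (by rw [Commute, SemiconjBy, ← F1, ← F1, add_comm])
  have hm : ∀ ε δ, cj g⁻¹ (f ε : G) ∉ K0 → cj g⁻¹ (f δ : G) ∉ K0 → cj g⁻¹ (f (ε + δ) : G) ∈ K0 := fun ε δ m1 m2 =>
    F1 ε δ ▸ h.mul_mem' (F3 ε) (F3 δ) m1 m2
  by_cases m0 : cj g⁻¹ (f ![1, 0, 0] : G) ∈ K0 <;> by_cases m1 : cj g⁻¹ (f ![0, 1, 0] : G) ∈ K0 <;>
    by_cases m2 : cj g⁻¹ (f ![0, 0, 1] : G) ∈ K0
  · exact key _ _ (by decide) (by decide) (by decide) m0 m1
  · exact key _ _ (by decide) (by decide) (by decide) m0 m1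
  · exact key _ _ (by decide) (by decide) (by decide) m0 m2
  · exact key _ _ (by decide) (by decide) (by decide) m0 (hm _ _ m1 m2)
  · exact key _ _ (by decide) (by decide) (by decide) m1 m2
  · exact key _ _ (by decide) (by decide) (by decide) m1 (hm _ _ m0 m2)
  · exact key _ _ (by decide) (by decide) (by decide) m2 (hm _ _ m0 m1)
  · exact key _ _ (by decide) (by decide) (by decide) (hm _ _ m0 m1) (hm _ _ m0 m2)

theorem image_O : K0.subtype '' O = Dx (conjugatesOf d) d := by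
  refine Set.Subset.antisymm ?_ fun z hz => ?_
  · rintro _ ⟨a, ha, rfl⟩
    exact ⟨(h.memD k hx ha).1, fun e => k.ne_d ha (Subtype.ext e), h.comm a⟩
  · exact ⟨⟨z, h.out k hx hz.1 hz.2.2⟩, (h.cases k hx hz.1).resolve_left hz.2.1, rfl⟩

theorem lh : FL.LH ⟨d, h.dm⟩ π O (conjugatesOf d) := by
  refine ⟨k, k.hexU, h.comm', fun x hx y hy => isConj_iff.1 (hx.symm.trans hy),
    fun g _ => cj_mem_conjugatesOf g, fun z hz => ?_⟩
  obtain ⟨g, rfl⟩ := TT.mem_conjugatesOf_iff.1 hz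
  refine ⟨(MulAut.conj g).toMonoidHom.comp K0.subtype, (MulAut.conj g).injective.comp (subtype_injective _), rfl, ?_⟩
  rw [← image_cj_Dx fun g _ => cj_mem_conjugatesOf g, ← h.image_O k hx, Set.image_image]
  rfl

theorem closure_Dx : closure (Dx (conjugatesOf d) d) = K0 := by
  rw [← h.image_O k hx, ← MonoidHom.map_closure, show closure O = ⊤ from eq_top_iff.2 fun z _ => k.gen (h.comm' z),
    ← MonoidHom.range_eq_map, range_subtype]

theorem eq_one {z : G} (hz : ∀ w ∈ conjugatesOf d, Commute z w) : z = 1 := by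
  classical
  have h1 : z ∈ zpowers d := h.cen ⟨mem_cen.2 (hz d (IsConj.refl d)).symm, fun w hw => by
    rw [← h.closure_Dx k hx] at hw
    exact (commute_of_mem_closure (fun s hs => hz s hs.1) hw).symm⟩
  rw [mem_zpowers_iff_mem_range_orderOf, h.ord] at h1
  obtain ⟨c, hc, n⟩ := (h.lh k hx).exists_not_commute (IsConj.refl d)
  simp only [Finset.mem_image, Finset.mem_range] at h1
  obtain ⟨i, hi, rfl⟩ := h1
  interval_cases i
  · exact pow_zero d
  · exact absurd (by simpa using hz c hc) n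

end Kh

end

open Cfsg.Agent.Spor.TT Cfsg.Agent.Spor.FC Subgroup in
theorem Kh.fi22 {G : Type*} [Group G] [Finite G] {d x y : G} {K0 : Subgroup G} {π : K0 →* TT.PU6} (h : Kh d x y K0 π) :
    ∃ G0 : Subgroup G, G0.Normal ∧ Nonempty (G0 ≃* Cfsg.Spor.Fi22) ∧ G0 ⊓ Subgroup.centralizer {d} = K0 ∧
      (G0 = ⊤ ∨ G0.index = 2 ∧ Nonempty (G ≃* MulAut Cfsg.Spor.Fi22)) := by
  obtain ⟨O, k, hx⟩ := h.exists_O
  have l := h.lh k hx
  have hd : d ∈ conjugatesOf d := IsConj.refl d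
  have hz := fun z => h.eq_one k hx (z := z)
  have hN : (closure (conjugatesOf d)).Normal := normal_closure_of_cj l.inv
  obtain ⟨e, -⟩ := (l.g22 hd hz).iso
  have h1 : closure (conjugatesOf d) ⊓ centralizer {d} = K0 :=
    le_antisymm ((l.cen_le hd hz).trans (h.closure_Dx k hx).le)
      (le_inf ((h.closure_Dx k hx).ge.trans (closure_mono fun _ m => m.1)) h.le)
  have h2 : centralizer {d} ⊔ closure (conjugatesOf d) = ⊤ := eq_top_iff.2 fun g _ => by
    obtain ⟨u, hu, e⟩ := l.orb hd (l.inv g d hd)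
    have : u⁻¹ * g ∈ centralizer {d} :=
      mem_cen.2 (cj_eq_self_iff.1 (by rw [← cj_cj, ← e, cj_inv_cj])).symm
    rw [← mul_inv_cancel_left u g]
    exact mul_mem (mem_sup_right hu) (mem_sup_left this)
  refine ⟨_, hN, ⟨e⟩, h1, h.idx.imp (fun e => ?_) fun e' => ?_⟩
  · exact (sup_eq_right.2 ((h1.trans e).ge.trans inf_le_left)).symm.trans h2
  have h3 : (closure (conjugatesOf d)).index = 2 := by
    rw [← relIndex_top_right, ← h2, relIndex_sup_right, ← inf_relIndex_right, h1, e']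
  refine ⟨h3, ?_⟩
  have hi : Function.Injective (MulAut.conjNormal : G →* MulAut (closure (conjugatesOf d))) :=
    (injective_iff_map_eq_one _).2 fun z m => hz z fun w hw => cj_eq_self_iff.1
      (congrArg Subtype.val (DFunLike.congr_fun m ⟨w, subset_closure hw⟩) :)
  have h4 : Nat.card (MulAut (closure (conjugatesOf d))) = 2 * Nat.card (closure (conjugatesOf d)) :=
    ((Nat.card_congr (MulAut.congr e).toEquiv).trans F24S.card_aut_fi22).trans
      (congrArg (2 * ·) (Nat.card_congr e.toEquiv).symm)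
  exact ⟨(MulEquiv.ofBijective _ ((Nat.bijective_iff_injective_and_card _).2
    ⟨hi, by rw [h4, ← h3, index_mul_card]⟩)).trans (MulAut.congr e)⟩

end Cfsg.Agent.T3
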