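import Mathlib
import Cfsg.Agent.Spor.FC.U6

/-!
The 20-dimensional module of `U₆(2)` over `𝔽₂` (the real form of `Λ³(𝔽₄⁶)`): definitions
(see `stubs/Cfsg/Agent/T3/XPLAN.md`).
-/

set_option autoImplicit false

namespace Cfsg.Agent.T3

open Cfsg.Agent.Spor Cfsg.Agent.Spor.TT Cfsg.Agent.Spor.FC

/-- Coordinates at the ten triples `012, 013, 014, 015, 023, 024, 025, 034, 035, 045`. -/
abbrev A10 : Type := Fin 10 → F4

/-- Words in transvections: the transpositions `(i, i+1)` for `i < 5`, the transvection at `e₀ + ω e₁`, and the Fourier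
matrix on the first three coordinates. -/
def xw : Fin 7 → List ℕ := ![[5], [20], [80], [320], [1280], [9], [65, 105, 149, 169]]

/-- The element of `U₆(2)` given by a word in transvection codes. -/
noncomputable def pw (l : List ℕ) : PU6 := evalW (fun u => ρ0 (dec u)) l

/-- The seven generators. -/
noncomputable def xg (n : Fin 7) : PU6 := pw (xw n)

/-- Their action on the module. -/
def xa : Fin 7 → A10 → A10 := ![
  fun x => ![x 0, x 1, x 2, x 3, s4 (x 9), s4 (x 8), s4 (x 7), s4 (x 6), s4 (x 5), s4 (x 4)],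
  fun x => ![x 0, x 4, x 5, x 6, x 1, x 2, x 3, x 7, x 8, x 9],
  fun x => ![x 1, x 0, x 2, x 3, x 4, x 7, x 8, x 5, x 6, x 9],
  fun x => ![x 0, x 2, x 1, x 3, x 5, x 4, x 6, x 7, x 9, x 8],
  fun x => ![x 0, x 1, x 3, x 2, x 4, x 6, x 5, x 8, x 7, x 9],
  fun x => ![x 0, x 1, x 2, x 3, (om + 1) * s4 (x 9), (om + 1) * s4 (x 8), (om + 1) * s4 (x 7), (om + 1) * s4 (x 6),
    (om + 1) * s4 (x 5), (om + 1) * s4 (x 4)],
  fun x => ![x 0, (om + 1) * x 1 + om * x 4 + s4 (x 9), (om + 1) * x 2 + om * x 5 + s4 (x 8),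
    (om + 1) * x 3 + om * x 6 + s4 (x 7), om * x 1 + (om + 1) * x 4 + s4 (x 9), om * x 2 + (om + 1) * x 5 + s4 (x 8),
    om * x 3 + (om + 1) * x 6 + s4 (x 7), s4 (x 3) + s4 (x 6) + x 7, s4 (x 2) + s4 (x 5) + x 8, s4 (x 1) + s4 (x 4) + x 9]]

/-- Products of generators and their action. -/
noncomputable def xp (l : List (Fin 7)) : PU6 := (l.map xg).prod

def xl (l : List (Fin 7)) (x : A10) : A10 := l.foldr xa x

/-- `ι` identifies `A` with the module. -/
structure M20 {X : Type*} [Group X] (θ : PU6 →* X) (A : Subgroup X) (ι : A10 → X) : Prop where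
  add : ∀ x y, ι (x + y) = ι x * ι y
  inj : Function.Injective ι
  mem : ∀ g, g ∈ A ↔ ∃ x, ι x = g
  nrm : ∀ g, θ g ∈ Subgroup.normalizer (A : Set X)
  act : ∀ n x, θ (xg n) * ι x * (θ (xg n))⁻¹ = ι (xa n x)

theorem M20.actl {X : Type*} [Group X] {θ : PU6 →* X} {A : Subgroup X} {ι : A10 → X} (h : M20 θ A ι) (l : List (Fin 7))
    (x : A10) : θ (xp l) * ι x * (θ (xp l))⁻¹ = ι (xl l x) := by
  induction l with
  | nil => simp [xp, xl]
  | cons n l ih =>
    have e : xp (n :: l) = xg n * xp l := by simp [xp]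
    rw [e, map_mul, show xl (n :: l) x = xa n (xl l x) from rfl, ← h.act, ← ih]
    group

/-- Coordinatewise conjugation. -/
def cv {n : ℕ} (v : Fin n → F4) : Fin n → F4 := fun i => s4 (v i)

end Cfsg.Agent.T3
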