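import Mathlib
import Cfsg.Agent.T3.XDefs
import Cfsg.Agent.Spor.FiTwo
import Cfsg.Agent.Spor.ESBasic

/-!
Outer involutory automorphisms of `U₆(2)` are semilinear monomial maps in a suitable orthonormal basis.
-/

set_option autoImplicit false
set_option maxRecDepth 100000

namespace Cfsg.Agent.T3

open Cfsg.Agent.Spor Cfsg.Agent.Spor.TT Cfsg.Agent.Spor.FC Cfsg.Agent.Cl Subgroup

namespace XD

theorem exists_aut {ρ : V6 → PU6} (h : UFr ρ tvP) : ∃ e : MulAut PU6, ∀ v, Iso v → e (ρ0 v) = ρ v := by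
  choose! r hr using ufr0.surj
  have k : ∀ v, Iso v → ρ (r (ρ0 v)) = ρ v := fun v hv =>
    let ⟨h1, h2⟩ := hr _ (ufr0.mem v hv); (h.eq_iff _ _ h1 hv).2 ((ufr0.eq_iff _ _ h1 hv).1 h2)
  obtain ⟨e, he, -⟩ := exists_equiv_of_center' fis_tvP.cj_mem fis_tvP.group.gen fis_tvP.center_eq_bot fis_tvP.group.gen
    fis_tvP.center_eq_bot (fun x => ρ (r x)) ⟨fun x hx => h.mem _ (hr x hx).1, fun x hx y hy e => by
      rw [← (hr x hx).2, ← (hr y hy).2]
      exact (ufr0.eq_iff _ _ (hr x hx).1 (hr y hy).1).2 ((h.eq_iff _ _ (hr x hx).1 (hr y hy).1).1 e), fun x hx =>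
        let ⟨v, hv, e⟩ := h.surj x hx; ⟨_, ufr0.mem v hv, (k v hv).trans e⟩⟩ fun a ha b hb => by
      obtain ⟨u, hu, rfl⟩ := ufr0.surj a ha
      obtain ⟨v, hv, rfl⟩ := ufr0.surj b hb
      rw [ufr0.cj_eq u v hu hv, k _ (hv.tv hu.2), k u hu, k v hv, h.cj_eq u v hu hv]
  exact ⟨e, fun v hv => (he _ (ufr0.mem v hv)).trans (k v hv)⟩

theorem aut_ext {α β : MulAut PU6} (h : ∀ v, Iso v → α (ρ0 v) = β (ρ0 v)) : α = β :=
  MulEquiv.toMonoidHom_injective (MonoidHom.eq_of_eqOn_dense fis_tvP.group.gen fun x hx =>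
    let ⟨v, hv, e⟩ := ufr0.surj x hx; e ▸ h v hv)

theorem exists_UG (x : PU6) : ∃ g ∈ UG B6, ∀ v, Iso v → x * ρ0 v * x⁻¹ = ρ0 (g v) := by
  obtain ⟨g, rfl⟩ := QuotientGroup.mk'_surjective _ x
  refine ⟨g, g.2.1, fun v hv => ?_⟩
  rw [ρ0, ρ0, ← map_inv, ← map_mul, ← map_mul]
  refine congrArg _ (Subtype.ext ?_)
  rw [tvS_coe ((UG_map g.2.1 v v).trans hv.2), ← uRefl_conj g.2.1, ← tvS_coe hv.2]
  rfl

/-- Semilinear isometries. -/
structure SI (θ : V6 → V6) : Prop where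
  add : ∀ u v, θ (u + v) = θ u + θ v
  smul : ∀ (c : F4) v, θ (c • v) = s4 c • θ v
  form : ∀ u v, B6 (θ u) (θ v) = s4 (B6 u v)

theorem si_cv : SI cv := ⟨fun u v => funext fun i => map_add s4 _ _, fun c v => funext fun i => map_mul s4 _ _,
  fun u v => by simp [uStd_apply, cv]⟩

theorem cv_cv (v : V6) : cv (cv v) = v := funext fun _ => s4_s4 _

variable {θ : V6 → V6}

theorem SI.comp (h : SI θ) {g : V6 ≃ₗ[F4] V6} (hg : g ∈ UG B6) : SI (g ∘ θ) :=
  ⟨fun u v => by simp [h.add], fun c v => by simp [h.smul], fun u v => (UG_map hg _ _).trans (h.form u v)⟩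

theorem SI.zero (h : SI θ) : θ 0 = 0 := by simpa using h.smul 0 0

theorem SI.inj (h : SI θ) : Function.Injective θ := fun u v e => v6_add_eq_zero.1 (herm6.nondeg _ fun w => by
  rw [← s4_eq_zero, ← h.form, h.add, e, v6_add_self, map_zero, LinearMap.zero_apply])

theorem SI.iso (h : SI θ) {v : V6} (hv : Iso v) : Iso (θ v) :=
  ⟨fun e => hv.1 (h.inj (e.trans h.zero.symm)), by rw [h.form, hv.2, map_zero]⟩

theorem ufr_cv : UFr (ρ0 ∘ cv) tvP := by
  refine ⟨fun v hv => ufr0.mem _ (si_cv.iso hv), fun x hx => ?_, fun u v hu hv => ?_, fun u v hu hv => ?_⟩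
  · obtain ⟨v, hv, rfl⟩ := ufr0.surj x hx
    exact ⟨_, si_cv.iso hv, congrArg ρ0 (cv_cv v)⟩
  · refine (ufr0.eq_iff _ _ (si_cv.iso hu) (si_cv.iso hv)).trans ⟨fun ⟨c, e⟩ => ⟨s4 c, si_cv.inj ?_⟩,
      fun ⟨c, e⟩ => ⟨s4 c, e ▸ si_cv.smul c u⟩⟩
    rw [si_cv.smul, s4_s4, e]
  · simp only [Function.comp, ufr0.cj_eq _ _ (si_cv.iso hu) (si_cv.iso hv), tvV, si_cv.form, si_cv.add, si_cv.smul]

theorem iso_pair : ∀ i j : Fin 6, i ≠ j → ∀ c : F4, c ≠ 0 → Iso (Pi.single i 1 + c • Pi.single j 1) := by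
  unfold Iso; decide +kernel

/-- A map that fixes all isotropic points is diagonal. -/
theorem exists_diag {f : V6 → V6} {μ : F4} (h1 : ∀ u v, f (u + v) = f u + f v) (h2 : ∀ v, f (om • v) = μ • f v)
    (hμ : μ ≠ 1) (h : ∀ v, Iso v → ∃ c : F4, f v = c • v) : ∃ d : F4, ∀ j, f (Pi.single j 1) = d • Pi.single j 1 := by
  have k0 : ∀ i j, i ≠ j → ∃ a : F4, f (Pi.single i 1) + f (Pi.single j 1) = a • (Pi.single i 1 + Pi.single j 1) :=
    fun i j n => by simpa [h1] using h _ (iso_pair i j n 1 one_ne_zero)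
  have k1 : ∀ j k, k ≠ j → f (Pi.single j 1) k = 0 := fun j k n => by
    obtain ⟨i, n1, n2⟩ : ∃ i, i ≠ j ∧ k ≠ i := by revert j k; decide
    obtain ⟨a, e1⟩ := k0 i j n1
    obtain ⟨b, e2⟩ := h _ (iso_pair i j n1 om (by decide))
    rw [h1, h2] at e2
    have e3 := congrFun e1 k
    have e4 := congrFun e2 k
    simp only [Pi.add_apply, Pi.smul_apply, Pi.single_eq_of_ne n, Pi.single_eq_of_ne n2, smul_eq_mul, mul_zero,
      add_zero] at e3 e4
    exact (mul_eq_zero.1 (show (μ - 1) * f (Pi.single j 1) k = 0 by linear_combination e4 - e3)).resolve_left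
      (sub_ne_zero.2 hμ)
  refine ⟨f (Pi.single 0 1) 0, fun j => funext fun k => ?_⟩
  by_cases n : k = j
  · subst n
    by_cases m : k = 0
    · simp [m]
    obtain ⟨a, e⟩ := k0 k 0 m
    have e3 := congrFun e k
    have e4 := congrFun e 0
    simp only [Pi.add_apply, Pi.smul_apply, Pi.single_eq_of_ne m, Pi.single_eq_of_ne (Ne.symm m), smul_eq_mul,
      add_zero, zero_add, k1 _ _ m, k1 _ _ (Ne.symm m), Pi.single_eq_same] at e3 e4 ⊢
    rw [e3, e4, mul_one, mul_one]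
  · simp [k1 j k n, n]

theorem SI.moves (h : SI θ) : ¬ ∀ v, Iso v → ∃ c : F4, θ v = c • v := fun k => by
  obtain ⟨d, hd⟩ := exists_diag h.add (h.smul om) (by decide) k
  obtain ⟨b, e⟩ := k _ (iso_pair 0 1 (by decide) om (by decide))
  rw [h.add, h.smul, hd, hd] at e
  have e3 := congrFun e 0
  have e4 := congrFun e 1
  simp at e3 e4
  have e5 : d = 0 := (by decide : ∀ d b : F4, d = b → s4 om * d = b * om → d = 0) d b e3 e4
  exact absurd (h.inj ((hd 0).trans (by rw [e5, zero_smul, h.zero]))) (by simp)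

theorem SI.sq (h : SI θ) (k : ∀ v, Iso v → ∃ c : F4, θ (θ v) = c • v) (v : V6) : θ (θ v) = v := by
  have l : ∀ (c : F4) v, θ (θ (c • v)) = c • θ (θ v) := fun c v => by rw [h.smul, h.smul, s4_s4]
  obtain ⟨d, hd⟩ := exists_diag (f := θ ∘ θ) (fun u v => by simp [h.add]) (l om) (by decide) k
  have e : ∀ v, θ (θ v) = d • v := fun v => LinearMap.congr_fun (show
      ({ toFun := θ ∘ θ, map_add' := fun u v => by simp [h.add], map_smul' := l } : V6 →ₗ[F4] V6) = d • LinearMap.id from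
    (Pi.basisFun F4 (Fin 6)).ext fun j => by simpa using hd j) v
  have n : θ (Pi.single 0 1) ≠ 0 := fun m => absurd (h.inj (m.trans h.zero.symm)) (by simp)
  have e1 := e (θ (Pi.single 0 1))
  rw [e (Pi.single 0 1), h.smul] at e1
  rcases f4_fixed d (smul_left_injective F4 n e1) with m | m
  · exact absurd (h.inj ((e _).trans (by rw [m, zero_smul, h.zero]))) n
  · rw [e, m, one_smul]

/-- Orthonormal sets that are invariant. -/
def On (θ : V6 → V6) (S : Finset V6) : Prop := (∀ x ∈ S, ∀ y ∈ S, B6 x y = if x = y then 1 else 0) ∧ ∀ x ∈ S, θ x ∈ S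

theorem On.sum {S : Finset V6} (h : On θ S) (c : V6 → F4) {y : V6} (hy : y ∈ S) : B6 (∑ x ∈ S, c x • x) y = c y := by
  rw [map_sum, LinearMap.sum_apply, Finset.sum_congr rfl fun x hx => by rw [B6_sl, h.1 x hx y hy]]
  simp [hy]

theorem SI.exists_on (h : SI θ) (h2 : ∀ v, θ (θ v) = v) : ∃ S, On θ S ∧ S.card = 6 := by
  obtain ⟨S, hS, mx⟩ := Set.exists_max_image {S | On θ S} Finset.card (Set.toFinite _) ⟨∅, by simp [On]⟩
  have grow : ∀ b, (∀ x ∈ S, B6 b x = 0) → B6 b b = 1 → (θ b = b ∨ B6 b (θ b) = 0) → False := fun b k1 k2 k3 => by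
    have k4 : ∀ x ∈ S, B6 (θ b) x = 0 := fun x hx => by rw [← h2 x, h.form, k1 _ (hS.2 x hx), map_zero]
    have k5 : B6 (θ b) (θ b) = 1 := by rw [h.form, k2, map_one]
    have n : ∀ w, (∀ x ∈ S, B6 w x = 0) → B6 w w = 1 → ∀ x ∈ S, w ≠ x := fun w l1 l2 x hx e =>
      zero_ne_one ((l1 w (e ▸ hx)).symm.trans l2)
    refine absurd (mx (insert b (insert (θ b) S)) ⟨?_, ?_⟩) (not_le.2 (Finset.card_lt_card
      ⟨(Finset.subset_insert _ _).trans (Finset.subset_insert _ _), fun l => n b k1 k2 b (l (by simp)) rfl⟩))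
    · simp only [Finset.forall_mem_insert, if_true, k2, k5, true_and]
      refine ⟨⟨?_, fun x hx => by rw [k1 x hx, if_neg (n b k1 k2 x hx)]⟩, ⟨?_, fun x hx => by
        rw [k4 x hx, if_neg (n _ k4 k5 x hx)]⟩, fun x hx => ⟨by rw [B6_comm.1 (k1 x hx), if_neg (n b k1 k2 x hx).symm],
        by rw [B6_comm.1 (k4 x hx), if_neg (n _ k4 k5 x hx).symm], hS.1 x hx⟩⟩ <;> rcases k3 with l | l
      · rw [l, k2, if_pos rfl]
      · rw [l, if_neg fun e : b = θ b => zero_ne_one (l.symm.trans (e ▸ k2))]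
      · rw [l, k2, if_pos rfl]
      · rw [B6_comm.1 l, if_neg fun e : θ b = b => zero_ne_one (l.symm.trans (e.symm ▸ k2))]
    · simp only [Finset.forall_mem_insert, h2]
      exact ⟨by simp, by simp, fun x hx => by simp [hS.2 x hx]⟩
  have perp : ∀ u, (∀ x ∈ S, B6 u x = 0) → u = 0 := fun u hu => by
    let U : Set V6 := {u | ∀ x ∈ S, B6 u x = 0}
    have tr : ∀ u ∈ U, ∀ c : F4, c • u + θ (c • u) ∈ U ∧ θ (c • u + θ (c • u)) = c • u + θ (c • u) := fun u hu c =>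
      ⟨fun x hx => by rw [B6_al, B6_sl, hu x hx, ← h2 x, h.form, B6_sl, hu _ (hS.2 x hx)]; simp,
        by rw [h.add, h2, add_comm]⟩
    have dec : ∀ u, u = s4 om • ((1 : F4) • u + θ ((1 : F4) • u)) + (om • u + θ (om • u)) := fun u => by
      rw [one_smul, h.smul, smul_add, add_add_add_comm, v6_add_self, add_zero, ← add_smul,
        show s4 om + om = 1 by decide, one_smul]
    have n1 : ∀ x ∈ U, θ x = x → B6 x x = 0 := fun x hx e =>
      (f4_fixed _ (B6_symm x x)).resolve_right fun l => grow x hx l (.inl e)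
    have n2 : ∀ x ∈ U, θ x = x → ∀ y ∈ U, θ y = y → B6 x y = 0 := fun x hx e y hy e' =>
      (f4_fixed _ (by rw [← h.form, e, e'])).resolve_right fun l => grow (x + om • y)
        (fun w hw => by rw [B6_al, B6_sl, hx w hw, hy w hw, mul_zero, add_zero])
        (by simp only [B6_al, B6_ar, B6_sl, B6_sr, n1 x hx e, n1 y hy e', l, herm6.eq_one_symm l]; decide)
        (.inr (by
          simp only [h.add, h.smul, e, e', B6_al, B6_ar, B6_sl, B6_sr, n1 x hx e, n1 y hy e', l, herm6.eq_one_symm l]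
          decide))
    have n3 : ∀ w ∈ U, B6 u w = 0 := fun w hw => by
      rw [dec u, dec w]
      simp only [B6_al _ (_ + _), B6_ar _ _ (_ + _), B6_sl _ (_ + _), B6_sr _ _ (_ + _),
        n2 _ (tr u hu _).1 (tr u hu _).2 _ (tr w hw _).1 (tr w hw _).2, mul_zero, add_zero]
    refine herm6.nondeg u fun w => ?_
    have := n3 (w + ∑ x ∈ S, B6 w x • x) fun y hy => by rw [B6_al, hS.sum _ hy, f4_add_self]
    rwa [B6_ar, map_sum, Finset.sum_eq_zero fun x hx => by rw [B6_sr, hu x hx, mul_zero], add_zero] at this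
  refine ⟨S, hS, Nat.pow_right_injective (show 2 ≤ 4 by norm_num) ?_⟩
  have := Nat.card_eq_of_bijective (fun (v : V6) (x : S) => B6 v x) ⟨fun u v e => v6_add_eq_zero.1 (perp _
    fun x hx => by rw [B6_al, show B6 u x = B6 v x from congrFun e ⟨x, hx⟩, f4_add_self]), fun c =>
      ⟨∑ x ∈ S, (if hx : x ∈ S then c ⟨x, hx⟩ else 0) • x, funext fun x => (hS.sum _ x.2).trans (dif_pos x.2)⟩⟩
  simpa [natCard_GF4, card_GF4] using this.symm

open Equiv Equiv.Perm in
theorem perm_std (σ : Perm (Fin 6)) (h : σ ^ 2 = 1) :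
    ∃ P ∈ [1, swap 0 1, swap 0 1 * swap 2 3, swap 0 1 * swap 2 3 * swap 4 5], IsConj P σ := by
  have h1 := cycleType_of_pow_prime_eq_one h
  have h2 := σ.sum_cycleType.le.trans σ.support.card_le_univ
  simp only [isConj_iff_cycleType_eq]
  generalize σ.cycleType.card = n at h1
  rw [h1, Multiset.sum_replicate, Fintype.card_fin, smul_eq_mul] at h2
  have h3 : n ≤ 3 := by omega
  rw [h1]
  interval_cases n <;> decide +kernel

theorem SI.std (h : SI θ) (h2 : ∀ v, θ (θ v) = v) : ∃ g ∈ UG B6, ∃ P ∈ [1, Equiv.swap 0 1,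
    Equiv.swap 0 1 * Equiv.swap 2 3, Equiv.swap (0 : Fin 6) 1 * Equiv.swap 2 3 * Equiv.swap 4 5],
    ∀ v, θ (g v) = g (cv v ∘ P) := by
  obtain ⟨S, hS, c⟩ := h.exists_on h2
  let e := (Finset.equivFinOfCardEq c).symm
  let t : Equiv.Perm S := Function.Involutive.toPerm (fun x => ⟨θ x, hS.2 x x.2⟩) fun x => Subtype.ext (h2 x)
  obtain ⟨P, hP, l⟩ := perm_std (e.symm.permCongr t) (Equiv.ext fun i => by simp [pow_two, t, Function.Involutive.toPerm, h2])
  obtain ⟨τ, l⟩ := isConj_iff.1 l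
  have l1 : ∀ i, θ (e (τ i)) = e (τ (P i)) := fun i => by
    have := Equiv.congr_fun l (τ i)
    simp only [Equiv.Perm.mul_apply, Equiv.Perm.inv_def, Equiv.symm_apply_apply, Equiv.permCongr_apply,
      Equiv.symm_symm] at this
    rw [this, Equiv.apply_symm_apply]
    rfl
  have l2 : ∀ i, P (P i) = i := fun i => τ.injective (e.injective (Subtype.ext (by rw [← l1, ← l1, h2])))
  let f : V6 →ₗ[F4] V6 := Fintype.linearCombination F4 fun i => e (τ i)
  have l3 : ∀ u v, B6 (f u) (f v) = B6 u v := fun u v => by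
    simp only [f, Fintype.linearCombination_apply, map_sum, LinearMap.sum_apply, B6_sl, B6_sr,
      hS.1 _ (e _).2 _ (e _).2, Subtype.val_inj, Equiv.apply_eq_iff_eq]
    simp [uStd_apply, mul_comm]
  have l4 : Function.Injective f := (injective_iff_map_eq_zero f).2 fun u k => herm6.nondeg u fun v => by
    rw [← l3, k, map_zero, LinearMap.zero_apply]
  refine ⟨LinearEquiv.ofBijective f ⟨l4, Finite.injective_iff_surjective.1 l4⟩, l3, P, hP, fun v => ?_⟩
  change AddMonoidHom.mk' θ h.add (f v) = f _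
  simp only [f, Fintype.linearCombination_apply, map_sum, AddMonoidHom.mk'_apply, h.smul, l1]
  rw [← Equiv.sum_comp P]
  simp only [l2]
  rfl

theorem cj_swap {u : ℕ} {i j : Fin 6} (hu : iso u = true) (e : dec u = Pi.single i 1 + Pi.single j 1) {v : V6}
    (hv : Iso v) : Iso (v ∘ Equiv.swap i j) ∧ cj (pw [u]) (ρ0 v) = ρ0 (v ∘ Equiv.swap i j) := by
  have h1 := (iso_iff.1 hu).2
  have h2 : tvV (dec u) v = v ∘ Equiv.swap i j := by
    have n : i ≠ j := fun l => h1.1 (by rw [e, l, v6_add_self])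
    rw [tvV, e, B6_ar, uStd_single_right, uStd_single_right]
    funext k
    by_cases a : k = i
    · simp [a, n, ← add_assoc, f4_add_self]
    by_cases b : k = j
    · simp [b, n.symm, add_comm (v i), ← add_assoc, f4_add_self]
    · simp [a, b, Equiv.swap_apply_of_ne_of_ne]
  exact ⟨h2 ▸ hv.tv h1.2, by rw [pw, evalW_cons, evalW_nil, mul_one, ufr0.cj_eq _ _ h1 hv, h2]⟩

theorem conj_six {Q : Type*} [Group Q] (h : Nat.card Q = 6) {a b : Q} (ha : orderOf a = 2) (hb : orderOf b = 2) :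
    ∃ g, g * a * g⁻¹ = b := by
  have : Finite Q := Nat.finite_of_card_ne_zero (by omega)
  have e : (Nat.card Q).factorization 2 = 1 := by rw [h]; decide +kernel
  obtain ⟨g, hg⟩ := MulAction.exists_smul_eq Q (Sylow.ofCard (p := 2) (zpowers a) (by rw [e, Nat.card_zpowers, ha]; rfl))
    (Sylow.ofCard (zpowers b) (by rw [e, Nat.card_zpowers, hb]; rfl))
  have k : g * a * g⁻¹ ∈ zpowers b := by
    have l := congrArg (fun P : Sylow 2 Q => (P : Subgroup Q)) hg
    exact (show _ = zpowers b from l) ▸ smul_mem_pointwise_smul _ (MulAut.conj g) _ (mem_zpowers a)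
  exact ⟨g, ((mem_zpowers_iff_of_sq (orderOf_eq_two_iff'.1 hb).2).1 k).resolve_left fun l =>
    (orderOf_eq_two_iff'.1 ha).1 (conj_eq_one_iff.1 l)⟩

end XD

open XD

/-- An outer involutory automorphism of `U₆(2)` permutes an orthonormal basis semilinearly. -/
theorem outer_std (α : MulAut PU6) (h2 : α * α = 1) (hn : ∀ g, α ≠ MulAut.conj g) :
    ∃ β : MulAut PU6, ∃ m ∈ [1, xg 0, xg 0 * xg 2, xg 0 * xg 2 * xg 4],
      ∀ v, Iso v → α (β (ρ0 v)) = β (m * ρ0 (cv v) * m⁻¹) := by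
  obtain ⟨φ, hφ⟩ := exists_aut ufr_cv
  have hN : (MulAut.conj : PU6 →* MulAut PU6).range.Normal := ⟨by
    rintro _ ⟨x, rfl⟩ γ
    exact ⟨γ x, MulEquiv.ext fun y => by simp⟩⟩
  have c : Nat.card (MulAut PU6 ⧸ (MulAut.conj : PU6 →* MulAut PU6).range) = 6 := by
    have l := card_eq_card_quotient_mul_card_subgroup (MulAut.conj : PU6 →* MulAut PU6).range
    rw [card_aut_PU6, ← Nat.card_congr (MonoidHom.ofInjective ((injective_iff_map_eq_one _).2 fun x e =>
      mem_bot.1 (fis_tvP.center_eq_bot ▸ mem_center_iff.2 fun y =>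
        (mul_inv_eq_iff_eq_mul.1 (DFunLike.congr_fun e y)).symm))).toEquiv] at l
    exact (Nat.eq_of_mul_eq_mul_right Nat.card_pos l).symm
  have o : ∀ γ : MulAut PU6, γ * γ = 1 → (∀ g, γ ≠ MulAut.conj g) →
      orderOf (QuotientGroup.mk' (MulAut.conj : PU6 →* MulAut PU6).range γ) = 2 := fun γ l1 l2 =>
    orderOf_eq_two_iff'.2 ⟨fun l => let ⟨g, e⟩ := (QuotientGroup.eq_one_iff _).1 l; l2 g e.symm,
      by rw [← map_mul, l1, map_one]⟩
  obtain ⟨γ, hγ⟩ := conj_six c (o α h2 hn) (o φ (aut_ext fun v hv => by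
    rw [MulAut.mul_apply, hφ v hv, Function.comp, hφ _ (si_cv.iso hv), Function.comp, cv_cv]; rfl) fun x e => by
      obtain ⟨g, hg, k⟩ := exists_UG x⁻¹
      refine (si_cv.comp hg).moves fun v hv => (ufr0.eq_iff _ _ hv ((si_cv.comp hg).iso hv)).1 ?_
      rw [Function.comp, ← k _ (si_cv.iso hv), ← show _ = ρ0 (cv v) from hφ v hv, e, MulAut.conj_apply]
      group)
  obtain ⟨γ, rfl⟩ := QuotientGroup.mk'_surjective _ γ
  rw [← map_inv, ← map_mul, ← map_mul, eq_comm, ← mul_inv_eq_one, ← map_inv, ← map_mul] at hγ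
  obtain ⟨x, e⟩ := (QuotientGroup.eq_one_iff _).1 hγ
  obtain ⟨g, hg, k⟩ := exists_UG x⁻¹
  have s := si_cv.comp hg
  have k1 : ∀ v, Iso v → (γ * α * γ⁻¹) (ρ0 v) = ρ0 ((g ∘ cv) v) := fun v hv => by
    rw [show γ * α * γ⁻¹ = (MulAut.conj x)⁻¹ * φ by rw [e]; group, MulAut.mul_apply, hφ v hv, ← map_inv]
    exact k _ (si_cv.iso hv)
  obtain ⟨g1, hg1, P, hP, k2⟩ := s.std (s.sq fun v hv => (ufr0.eq_iff _ _ hv (s.iso (s.iso hv))).1 (by
    rw [← k1 _ (s.iso hv), ← k1 v hv, ← MulAut.mul_apply, conj_mul, h2]; simp))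
  obtain ⟨β, hβ⟩ := exists_aut (ufr0.comp hg1)
  obtain ⟨m, hm, k3⟩ : ∃ m ∈ [1, xg 0, xg 0 * xg 2, xg 0 * xg 2 * xg 4], ∀ v, Iso v →
      Iso (v ∘ P) ∧ cj m (ρ0 v) = ρ0 (v ∘ P) := by
    have a := @cj_swap 5 0 1 (by decide +kernel) (by decide +kernel)
    have b := @cj_swap 80 2 3 (by decide +kernel) (by decide +kernel)
    have c := @cj_swap 1280 4 5 (by decide +kernel) (by decide +kernel)
    simp only [List.mem_cons, List.not_mem_nil, or_false] at hP
    rcases hP with rfl | rfl | rfl | rfl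
    · exact ⟨1, by simp, fun v hv => ⟨hv, cj_one _⟩⟩
    · exact ⟨xg 0, by simp, fun v hv => a hv⟩
    · refine ⟨xg 0 * xg 2, by simp, fun v hv => ?_⟩
      rw [show Equiv.swap (0 : Fin 6) 1 * Equiv.swap 2 3 = Equiv.swap 2 3 * Equiv.swap 0 1 by decide, ← cj_cj]
      exact ⟨(a (b hv).1).1, (congrArg _ (b hv).2).trans (a (b hv).1).2⟩
    · refine ⟨xg 0 * xg 2 * xg 4, by simp, fun v hv => ?_⟩
      rw [show Equiv.swap (0 : Fin 6) 1 * Equiv.swap 2 3 * Equiv.swap 4 5 =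
        Equiv.swap 4 5 * Equiv.swap 2 3 * Equiv.swap 0 1 by decide, ← cj_cj, ← cj_cj]
      exact ⟨(a (b (c hv).1).1).1, (congrArg _ ((congrArg _ (c hv).2).trans (b (c hv).1).2)).trans
        (a (b (c hv).1).1).2⟩
  refine ⟨γ⁻¹ * β, m, hm, fun v hv => γ.injective ?_⟩
  obtain ⟨k4, k5⟩ := k3 _ (si_cv.iso hv)
  rw [← cj_def, k5, MulAut.mul_apply, MulAut.mul_apply, hβ v hv, hβ _ k4, MulAut.apply_inv_self, Function.comp,
    Function.comp, ← k2, ← k1 _ ⟨by simpa using hv.1, (UG_map hg1 v v).trans hv.2⟩]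
  rfl

end Cfsg.Agent.T3
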