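import Mathlib
import Cfsg.Agent.T3.XDefs

/-!
Weight spaces of `3⁴` acting on an elementary abelian 2-group.
-/

set_option autoImplicit false

namespace Cfsg.Agent.T3.XA

open Cfsg.Agent.Cl Cfsg.Agent.Spor Cfsg.Agent.Spor.TT

/-- Exponent vectors, and linear forms on them. -/
abbrev Y : Type := Fin 4 → ZMod 3

variable {V : Type*} [AddCommGroup V]

/-- An action of `3⁴` on a group of exponent two. -/
structure Op (u : Y → AddMonoid.End V) : Prop where
  two : ∀ v : V, v + v = 0
  zero : ∀ v, u 0 v = v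
  add : ∀ a b v, u (a + b) v = u a (u b v)

/-- The weight space of `± l`. -/
def B (u : Y → AddMonoid.End V) (l : Y) (v : V) : Prop :=
  (∀ k, l ⬝ᵥ k = 0 → u k v = v) ∧ ∀ k, l ⬝ᵥ k ≠ 0 → v + u k v + u k (u k v) = 0

/-- `l` and `m` are independent. -/
def Sep (l m : Y) : Prop := ∃ i j, l i * m j ≠ l j * m i

instance (l m : Y) : Decidable (Sep l m) := inferInstanceAs (Decidable (∃ _ _, _))

theorem Sep.ex {l m : Y} (h : Sep l m) : ∃ k, l ⬝ᵥ k = 0 ∧ m ⬝ᵥ k ≠ 0 := by
  obtain ⟨i, j, h⟩ := h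
  refine ⟨Pi.single j (l i) - Pi.single i (l j), by simp [mul_comm], ?_⟩
  simpa [sub_eq_zero, mul_comm] using h

variable {u : Y → AddMonoid.End V} {l k : Y} {f v w : V}

theorem B.add (h : B u l v) (h' : B u l w) : B u l (v + w) :=
  ⟨fun k e => by rw [map_add, h.1 k e, h'.1 k e], fun k e => by
    rw [← add_zero (0 : V)]
    nth_rw 1 [← h.2 k e]
    rw [← h'.2 k e, map_add, map_add]
    abel⟩

theorem B.zero : B u l 0 := ⟨by simp, by simp⟩

theorem B.neg (h : B u (-l) v) : B u l v := by simpa [B] using h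

/-- The vector `a f + b g` for `c = a + b ω`. -/
def ph (f g : V) (c : F4) : V := (c.code % 2) • f + (c.code / 2) • g

theorem ph_zero (f g : V) : ph f g 0 = 0 := by simp [ph, TF.code_zero]

theorem ph_one (f g : V) : ph f g 1 = f := by simp [ph, TF.code_one]

theorem ph_om (f g : V) : ph f g om = g := by simp [ph, show om.code = 2 from rfl]

theorem ph_om1 (f g : V) : ph f g (om + 1) = g + f := by simp [ph, show (om + 1).code = 3 from rfl, add_comm]

namespace Op

variable (h : Op u)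
include h

theorem comm (a b : Y) (v : V) : u a (u b v) = u b (u a v) := by rw [← h.add, add_comm, h.add]

theorem two' (v w : V) : v + (v + w) = w := by rw [← add_assoc, h.two, zero_add]

theorem eq_of_add {v w : V} (e : v + w = 0) : v = w := by rw [← h.two' w v, add_comm w v, e, add_zero]

theorem act (hv : B u l v) (k : Y) : B u l (u k v) :=
  ⟨fun a e => by rw [h.comm, hv.1 a e], fun a e => by
    rw [h.comm a k, h.comm a k, ← map_add, ← map_add, hv.2 a e, map_zero]⟩

theorem indep {ι : Type*} [DecidableEq ι] (s : Finset ι) (L : ι → Y) (hs : ∀ i ∈ s, Sep l (L i)) (hw : B u l w)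
    {x : ι → V} (hx : ∀ i, B u (L i) (x i)) (e : w = ∑ i ∈ s, x i) : w = 0 := by
  induction s using Finset.induction_on generalizing x with
  | empty => simpa using e
  | insert a s ha ih =>
    obtain ⟨k, k1, k2⟩ := (hs a (by simp)).ex
    refine ih (fun i hi => hs i (by simp [hi])) (x := fun i => x i + u k (x i) + u k (u k (x i)))
      (fun i => ((hx i).add (h.act (hx i) k)).add (h.act (h.act (hx i) k) k)) ?_
    have : w + u k w + u k (u k w) = w := by rw [hw.1 k k1, hw.1 k k1, h.two, zero_add]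
    rw [← this, e, map_sum, map_sum, ← Finset.sum_add_distrib, ← Finset.sum_add_distrib, Finset.sum_insert ha,
      (hx a).2 k k2, zero_add]

theorem triv {ι : Type*} [Fintype ι] (L : ι → Y)
    (hL : ∀ y : Y, (1 + ∑ i, if L i ⬝ᵥ y = 0 then 0 else 1) % 2 = if y = 0 then 1 else 0)
    (h0 : ∀ i v, B u (L i) v → v = 0) (k : Y) (v : V) : u k v = v := by
  let e : Y → ZMod 3 → V := fun l c => ∑ y, if l ⬝ᵥ y = c then 0 else u y v
  have e1 : ∀ l c k, u k (e l c) = e l (c + l ⬝ᵥ k) := fun l c k => by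
    rw [map_sum]
    refine Fintype.sum_equiv (Equiv.addRight k) _ _ fun y => ?_
    by_cases a : l ⬝ᵥ y = c <;> simp [a, dotProduct_add, h.add, h.comm k y]
  have e2 : ∀ l, B u l (e l 0) := fun l => ⟨fun k a => by rw [e1, a, add_zero], fun k a => by
    rw [e1, e1, ← Finset.sum_add_distrib, ← Finset.sum_add_distrib]
    refine Finset.sum_eq_zero fun y _ => ?_
    have : ∀ a b : ZMod 3, a ≠ 0 → (b = 0 ∧ b ≠ 0 + a ∧ b ≠ 0 + a + a) ∨ (b ≠ 0 ∧ b = 0 + a ∧ b ≠ 0 + a + a) ∨
      (b ≠ 0 ∧ b ≠ 0 + a ∧ b = 0 + a + a) := by decide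
    rcases this _ (l ⬝ᵥ y) a with ⟨a, b, c⟩ | ⟨a, b, c⟩ | ⟨a, b, c⟩
    · rw [if_pos a, if_neg b, if_neg c, zero_add, h.two]
    · rw [if_neg a, if_pos b, if_neg c, add_zero, h.two]
    · rw [if_neg a, if_neg b, if_pos c, add_zero, h.two]⟩
  have e3 : ∑ y, u y v + ∑ i, e (L i) 0 = v := by
    rw [Finset.sum_comm, ← Finset.sum_add_distrib]
    refine (Finset.sum_congr rfl fun y _ => ?_).trans
      ((Finset.sum_ite_eq_of_mem' Finset.univ (0 : Y) (fun y => u y v) (Finset.mem_univ _)).trans (h.zero v))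
    have : u y v + ∑ i, (if L i ⬝ᵥ y = 0 then 0 else u y v) =
        (1 + ∑ i, if L i ⬝ᵥ y = 0 then 0 else 1) • u y v := by simp [add_smul, Finset.sum_smul]
    rw [this, nsmul_eq_mod_nsmul _ ((two_nsmul _).trans (h.two _)), hL]
    split_ifs <;> simp
  rw [Finset.sum_eq_zero (fun i _ => h0 i _ (e2 _)), add_zero] at e3
  refine (congrArg (u k) e3.symm).trans (((map_sum _ _ _).trans ?_).trans e3)
  exact Fintype.sum_equiv (Equiv.addLeft k) _ _ fun y => (h.add k y v).symm

theorem ph_add (f g : V) (a b : F4) : ph f g (a + b) = ph f g a + ph f g b := by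
  have e : (a + b).code = a.code ^^^ b.code := by revert a b; decide
  have ha : a.code < 4 := a.code_lt
  have hb : b.code < 4 := b.code_lt
  rw [ph, ph, ph, e]
  generalize a.code = m at ha ⊢
  generalize b.code = n at hb ⊢
  interval_cases m <;> interval_cases n <;> simp [h.two, h.two', add_comm, add_left_comm]

theorem ph_mem (hf : B u l f) (k : Y) (c : F4) : B u l (ph f (u k f) c) := by
  rcases f4_cases c with rfl | rfl | rfl | rfl
  exacts [ph_zero f _ ▸ B.zero, (ph_one f _).symm ▸ hf, (ph_om f _).symm ▸ h.act hf k,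
    (ph_om1 f _).symm ▸ (h.act hf k).add hf]

theorem uu (hf : B u l f) (hk : l ⬝ᵥ k = 1) : u k (u k f) = u k f + f :=
  (h.eq_of_add (add_comm f _ ▸ hf.2 k (hk ▸ one_ne_zero))).symm

theorem u_ph (hf : B u l f) (hk : l ⬝ᵥ k = 1) (c : F4) : u k (ph f (u k f) c) = ph f (u k f) (om * c) := by
  rcases f4_cases c with rfl | rfl | rfl | rfl
  · rw [mul_zero, ph_zero, map_zero]
  · rw [mul_one, ph_one, ph_om]
  · rw [show om * om = om + 1 by decide, ph_om, ph_om1, h.uu hf hk]
  · rw [show om * (om + 1) = 1 by decide, ph_om1, ph_one, map_add, h.uu hf hk, add_comm, h.two']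

theorem ph_eq_zero (hf : B u l f) (hk : l ⬝ᵥ k = 1) (h0 : f ≠ 0) {c : F4} (e : ph f (u k f) c = 0) : c = 0 := by
  have k1 := h.u_ph hf hk c
  have k2 := h.u_ph hf hk (om * c)
  rw [e, map_zero] at k1
  rw [← k1, map_zero] at k2
  rcases f4_cases c with rfl | rfl | rfl | rfl
  · rfl
  · exact absurd ((ph_one _ _).symm.trans e) h0
  · rw [show om * (om * om) = 1 by decide, ph_one] at k2
    exact absurd k2.symm h0
  · rw [show om * (om + 1) = 1 by decide, ph_one] at k1
    exact absurd k1.symm h0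

theorem ph_inj (hf : B u l f) (hk : l ⬝ᵥ k = 1) (h0 : f ≠ 0) {c d : F4} (e : ph f (u k f) c = ph f (u k f) d) :
    c = d := by
  have := h.ph_eq_zero hf hk h0 (c := c + d) (by rw [h.ph_add, e, h.two])
  rw [← add_zero c, ← this, ← add_assoc, f4_add_self, zero_add]

theorem u_eq (hv : B u l v) {a b : Y} (e : l ⬝ᵥ a = l ⬝ᵥ b) : u a v = u b v := by
  rw [← add_sub_cancel b a, h.add, hv.1 _ (by rw [dotProduct_sub, e, sub_self])]

/-- A map commuting with the scalars. -/
theorem lin (hf : B u l f) (hk : l ⬝ᵥ k = 1) (T : AddMonoid.End V) {d : F4} (e : T f = ph f (u k f) d)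
    (e' : T (u k f) = u k (T f)) (c : F4) : T (ph f (u k f) c) = ph f (u k f) (d * c) := by
  rw [e, h.u_ph hf hk, mul_comm] at e'
  rcases f4_cases c with rfl | rfl | rfl | rfl
  · rw [mul_zero, ph_zero, map_zero]
  · rw [mul_one, ph_one, e]
  · rw [ph_om, e']
  · rw [ph_om1, map_add, e, e', ← h.ph_add, mul_add, mul_one]

theorem slin (hf : B u l f) (hk : l ⬝ᵥ k = 1) (T : AddMonoid.End V) {d : F4} (e : T f = ph f (u k f) d)
    (e' : T (u k f) = u k (u k (T f))) (c : F4) : T (ph f (u k f) c) = ph f (u k f) (d * s4 c) := by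
  rw [e, h.u_ph hf hk, h.u_ph hf hk] at e'
  rcases f4_cases c with rfl | rfl | rfl | rfl
  · rw [map_zero, mul_zero, ph_zero, map_zero]
  · rw [map_one, mul_one, ph_one, e]
  · rw [ph_om, e']
    congr 1; clear e e'; revert d; decide
  · rw [ph_om1, map_add, e, e', ← h.ph_add]
    congr 1; clear e e'; revert d; decide

/-- The sum of translates of a line. -/
def io {ι : Type*} [Fintype ι] (T : ι → AddMonoid.End V) (f g : V) : (ι → F4) →+ V :=
  AddMonoidHom.mk' (fun x => ∑ i, T i (ph f g (x i))) fun x y => by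
    simp only [Pi.add_apply, h.ph_add, map_add, Finset.sum_add_distrib]

theorem io_single {ι : Type*} [Fintype ι] [DecidableEq ι] (T : ι → AddMonoid.End V) (f g : V) (i : ι) (c : F4) :
    h.io T f g (Pi.single i c) = T i (ph f g c) := by
  show ∑ j, T j (ph f g ((Pi.single i c : ι → F4) j)) = _
  rw [Finset.sum_eq_single i (fun j _ e => by rw [Pi.single_eq_of_ne e, ph_zero, map_zero]) (by simp),
    Pi.single_eq_same]

theorem io_inj {ι : Type*} [Fintype ι] [DecidableEq ι] {T : ι → AddMonoid.End V} (L : ι → Y)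
    (hs : ∀ i j, i ≠ j → Sep (L i) (L j)) (hT : ∀ i v, B u l v → B u (L i) (T i v))
    (hi : ∀ i v, T i v = 0 → v = 0) (hf : B u l f) (hk : l ⬝ᵥ k = 1) (h0 : f ≠ 0) :
    Function.Injective (h.io T f (u k f)) := by
  refine (injective_iff_map_eq_zero _).2 fun x e => funext fun i => h.ph_eq_zero hf hk h0 (hi i _ ?_)
  refine h.indep (Finset.univ.erase i) L (fun j hj => hs i j (Finset.ne_of_mem_erase hj).symm)
    (hT i _ (h.ph_mem hf k _)) (fun j => hT j _ (h.ph_mem hf k (x j))) (h.eq_of_add ?_)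
  exact (Finset.add_sum_erase _ (fun j => T j (ph f (u k f) (x j))) (Finset.mem_univ i)).trans e

end Op

end Cfsg.Agent.T3.XA
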