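import Mathlib
import Cfsg.Agent.T3.XA1

/-!
The monomial subgroup `3⁴ : S₆` of `U₆(2)` on a module of order `2²⁰`.
-/

set_option autoImplicit false
set_option maxRecDepth 100000

namespace Cfsg.Agent.T3.XA

open Cfsg.Agent.Cl Cfsg.Agent.Spor Cfsg.Agent.Spor.TT Cfsg.Agent.Spor.FC

theorem xp_eq (l : List (Fin 7)) : xp l = pw (l.flatMap xw) := by
  induction l with
  | nil => rfl
  | cons n l ih => rw [List.flatMap_cons, pw, evalW_append, ← pw, ← pw, ← ih]; simp [xp, xg]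

theorem xp_nil : xp [] = 1 := rfl

theorem xp_cons (n : Fin 7) (l : List (Fin 7)) : xp (n :: l) = xg n * xp l := by simp [xp]

theorem xp_append (a b : List (Fin 7)) : xp (a ++ b) = xp a * xp b := by simp [xp]

theorem xp_rep (n : ℕ) (a : List (Fin 7)) : xp (List.replicate n a).flatten = xp a ^ n := by
  induction n with
  | zero => exact (pow_zero _).symm
  | succ n ih => rw [List.replicate_succ, List.flatten_cons, xp_append, ih, pow_succ']

/-- The test for a relation. -/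
noncomputable def rl (a b : List (Fin 7)) : Bool := trivU (a.flatMap xw ++ (b.flatMap xw).reverse)

theorem rel {a b : List (Fin 7)} (h : rl a b = true) : xp a = xp b := by
  have k : ∀ l : List ℕ, (∀ x ∈ l, iso x = true) → pw l.reverse * pw l = 1 := fun l hl => by
    induction l with
    | nil => exact mul_one 1
    | cons x l ih =>
      rw [List.reverse_cons, pw, pw, evalW_append, evalW_cons, evalW_cons, evalW_nil, mul_one, mul_assoc,
        ← mul_assoc (ρ0 _), sq0 _ (mem0 (hl x (by simp))), one_mul]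
      exact ih fun y hy => hl y (by simp [hy])
  have h1 := eq_one_of_triv h
  have h2 := k (b.flatMap xw) fun x hx =>
    (allL_iff _ _).1 ((band_iff _ _).1 h).1 x (List.mem_append_right _ (List.mem_reverse.2 hx))
  rw [evalW_append] at h1
  rw [xp_eq, xp_eq, eq_inv_of_mul_eq_one_right h2]
  exact eq_inv_of_mul_eq_one_left h1

/-- Generators of the diagonal group. -/
def gw : Fin 4 → List (Fin 7) := ![[0, 5], [1, 0, 5, 1], [2, 1, 0, 5, 1, 2], [3, 2, 1, 0, 5, 1, 2, 3]]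

/-- The word of an exponent vector. -/
def wj (y : Y) : List (Fin 7) := (List.replicate (y 0).val (gw 0)).flatten ++ (List.replicate (y 1).val (gw 1)).flatten ++
  (List.replicate (y 2).val (gw 2)).flatten ++ (List.replicate (y 3).val (gw 3)).flatten

theorem wj_add (a b : Y) : xp (wj (a + b)) = xp (wj a) * xp (wj b) := by
  have h3 : ∀ i, xp (gw i) ^ 3 = 1 := fun i => by
    rw [← xp_rep]; exact rel (b := []) (by revert i; decide +kernel)
  have hc : ∀ i j m n, Commute (xp (gw i) ^ m) (xp (gw j) ^ n) := fun i j m n => Commute.pow_pow (by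
    rw [Commute, SemiconjBy, ← xp_append, ← xp_append]; exact rel (by revert i j; decide +kernel)) m n
  have e : ∀ i, xp (gw i) ^ ((a + b) i).val = xp (gw i) ^ (a i).val * xp (gw i) ^ (b i).val := fun i => by
    rw [Pi.add_apply, ZMod.val_add, ← pow_add, ← pow_eq_pow_mod _ (h3 i)]
  simp only [wj, xp_append, xp_rep, e]
  rw [(((hc _ _ _ _).mul_right (hc _ _ _ _)).mul_right (hc 3 2 _ _)).mul_mul_mul_comm,
    ((hc _ _ _ _).mul_right (hc 2 1 _ _)).mul_mul_mul_comm, (hc 1 0 _ _).mul_mul_mul_comm]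

/-- The monomial generators on exponent vectors. -/
def sg : Fin 7 → Y → Y := ![fun k => ![-k 0 - k 1 - k 2 - k 3, k 1, k 2, k 3], fun k => ![k 1, k 0, k 2, k 3],
  fun k => ![k 0, k 2, k 1, k 3], fun k => ![k 0, k 1, k 3, k 2], fun k => ![k 0 - k 3, k 1 - k 3, k 2 - k 3, -k 3],
  fun k => ![-k 0 - k 1 - k 2 - k 3, k 1, k 2, k 3], id]

/-- The monomial generators on linear forms. -/
def ds : Fin 7 → Y → Y := ![fun l => ![-l 0, l 1 - l 0, l 2 - l 0, l 3 - l 0], fun l => ![l 1, l 0, l 2, l 3],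
  fun l => ![l 0, l 2, l 1, l 3], fun l => ![l 0, l 1, l 3, l 2], fun l => ![l 0, l 1, l 2, -l 0 - l 1 - l 2 - l 3],
  fun l => ![-l 0, l 1 - l 0, l 2 - l 0, l 3 - l 0], id]

theorem ds_dot (n : Fin 7) (l k : Y) : ds n l ⬝ᵥ k = l ⬝ᵥ sg n k := by
  fin_cases n <;> simp [ds, sg, dotProduct, Fin.sum_univ_four] <;> ring

theorem wj_xg {n : Fin 7} (h : n ≠ 6) (k : Y) : xp (wj k) * xg n = xg n * xp (wj (sg n k)) := by
  rw [← xp_cons, ← mul_one (xg n), ← xp_nil, ← xp_cons, ← xp_append]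
  exact rel (by revert n k; decide +kernel)

/-- An orbit of linear forms with words from a base point. -/
def Fam {n : ℕ} (l : Y) (L : Fin n → Y) (W : Fin n → List (Fin 7)) : Prop :=
  (∀ i, 6 ∉ W i ∧ (W i).foldr ds l = L i ∧ (W i).reverse.foldr ds (L i) = l) ∧ ∀ i j, i ≠ j → Sep (L i) (L j)

instance {n : ℕ} (l : Y) (L : Fin n → Y) (W : Fin n → List (Fin 7)) : Decidable (Fam l L W) :=
  inferInstanceAs (Decidable (_ ∧ _))

def LT : Fin 10 → Y := ![![0, 0, 1, 1], ![0, 1, 0, 1], ![0, 1, 1, 0], ![0, 1, 1, 1], ![1, 0, 0, 1], ![1, 0, 1, 0], ![1, 0, 1, 1], ![1, 1, 0, 0], ![1, 1, 0, 1], ![1, 1, 1, 0]]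
def WT : Fin 10 → List (Fin 7) := ![[], [2], [3, 2], [4, 3, 2], [1, 2], [3, 1, 2], [4, 3, 1, 2], [2, 3, 1, 2], [4, 2, 3, 1, 2], [3, 4, 2, 3, 1, 2]]
def LA : Fin 15 → Y := ![![0, 0, 0, 1], ![0, 0, 1, 0], ![0, 1, 0, 0], ![0, 0, 1, 2], ![1, 0, 0, 0], ![0, 1, 0, 2], ![2, 2, 2, 2], ![1, 0, 0, 2], ![0, 1, 2, 0], ![2, 2, 2, 1], ![1, 0, 2, 0], ![2, 2, 1, 2], ![1, 2, 0, 0], ![2, 1, 2, 2], ![1, 2, 2, 2]]
def WA : Fin 15 → List (Fin 7) := ![[], [3], [2, 3], [4, 3], [1, 2, 3], [4, 2, 3], [0, 1, 2, 3], [4, 1, 2, 3], [3, 4, 2, 3], [4, 0, 1, 2, 3], [3, 4, 1, 2, 3], [3, 4, 0, 1, 2, 3], [2, 3, 4, 1, 2, 3], [2, 3, 4, 0, 1, 2, 3], [1, 2, 3, 4, 0, 1, 2, 3]]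
def LB : Fin 15 → Y := ![![0, 1, 1, 2], ![1, 0, 1, 2], ![0, 1, 2, 1], ![2, 2, 0, 1], ![1, 0, 2, 1], ![0, 2, 1, 1], ![2, 2, 1, 0], ![1, 2, 0, 1], ![1, 0, 2, 2], ![2, 1, 2, 0], ![2, 2, 1, 1], ![2, 1, 0, 1], ![1, 2, 2, 0], ![2, 1, 2, 1], ![2, 1, 1, 2]]
def WB : Fin 15 → List (Fin 7) := ![[], [1], [3], [0, 1], [3, 1], [2, 3], [3, 0, 1], [2, 3, 1], [4, 3, 1], [2, 3, 0, 1], [4, 3, 0, 1], [1, 2, 3, 1], [1, 2, 3, 0, 1], [4, 2, 3, 0, 1], [0, 1, 2, 3, 0, 1]]

/-- The weight of the first place and an element acting on it as `ω`. -/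
def l0 : Y := ![0, 0, 1, 1]
def k0 : Y := ![0, 0, 1, 0]

theorem famT : Fam l0 LT WT := by decide +kernel
theorem famA : Fam ![0, 0, 0, 1] LA WA := by decide +kernel
theorem famB : Fam ![0, 1, 1, 2] LB WB := by decide +kernel
theorem lk0 : l0 ⬝ᵥ k0 = 1 := by decide +kernel

variable {V : Type*} [AddCommGroup V] (r : PU6 →* AddMonoid.End V)

/-- The action of the diagonal group. -/
noncomputable def uj (y : Y) : AddMonoid.End V := r (xp (wj y))

variable {r}

theorem r_mul (a b : PU6) (v : V) : r (a * b) v = r a (r b v) := by rw [map_mul]; rfl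

theorem r_one (v : V) : r 1 v = v := by rw [map_one]; rfl

theorem r_inj (g : PU6) (v : V) (h : r g v = 0) : v = 0 := by
  rw [← r_one (r := r) v, ← inv_mul_cancel g, r_mul, h, map_zero]

theorem op (h2 : ∀ v : V, v + v = 0) : Op (uj r) :=
  ⟨h2, fun v => r_one v, fun a b v => by rw [uj, wj_add, r_mul]; rfl⟩

theorem uj_xg {n : Fin 7} (h : n ≠ 6) (k : Y) (v : V) : uj r k (r (xg n) v) = r (xg n) (uj r (sg n k) v) := by
  rw [uj, uj, ← r_mul, ← r_mul, wj_xg h]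

theorem mv {w : List (Fin 7)} (h : 6 ∉ w) {l : Y} {v : V} (hv : B (uj r) l v) :
    B (uj r) (w.foldr ds l) (r (xp w) v) := by
  induction w with
  | nil => rwa [xp_nil, r_one]
  | cons n w ih =>
    have h1 : n ≠ 6 := fun e => h (by simp [e])
    have := ih fun e => h (by simp [e])
    rw [xp_cons, r_mul, List.foldr_cons]
    refine ⟨fun k e => ?_, fun k e => ?_⟩ <;> rw [ds_dot] at e
    · rw [uj_xg h1, this.1 _ e]
    · rw [uj_xg h1, uj_xg h1, ← map_add, ← map_add, this.2 _ e, map_zero]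

variable (h2 : ∀ v : V, v + v = 0)

theorem Fam.inj {n : ℕ} {l k : Y} {L : Fin n → Y} {W : Fin n → List (Fin 7)} (h : Fam l L W) (hk : l ⬝ᵥ k = 1)
    {f : V} (hf : B (uj r) l f) (h0 : f ≠ 0) :
    Function.Injective ((op (r := r) h2).io (fun i => r (xp (W i))) f (uj r k f)) :=
  (op h2).io_inj L h.2 (fun i _ hv => (h.1 i).2.1 ▸ mv (h.1 i).1 hv) (fun _ => r_inj _) hf hk h0

theorem Fam.zero {n : ℕ} {l : Y} {L : Fin n → Y} {W : Fin n → List (Fin 7)} (h : Fam l L W)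
    (h0 : ∀ v, B (uj r) l v → v = 0) (i : Fin n) (v : V) (hv : B (uj r) (L i) v) : v = 0 :=
  r_inj _ v (h0 _ ((h.1 i).2.2 ▸ mv (by simpa using (h.1 i).1) hv))

variable [Finite V] (hc : Nat.card V = 2 ^ 20)
include h2 hc

theorem exists_f (hf : ∃ g, r g ≠ 1) : ∃ f, B (uj r) l0 f ∧ f ≠ 0 := by
  by_contra! h0
  have big : ∀ {l k : Y} {L : Fin 15 → Y} {W : Fin 15 → List (Fin 7)}, Fam l L W → l ⬝ᵥ k = 1 →
      ∀ i v, B (uj r) (L i) v → v = 0 := fun h hk => h.zero fun v hv => by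
    by_contra e
    have := Nat.card_le_card_of_injective _ (h.inj h2 hk hv e)
    rw [hc, Nat.card_fun, natCard_GF4] at this
    simp at this
  have h1 := (op h2).triv (Sum.elim LT (Sum.elim LA LB)) (by decide +kernel) (by
    rintro (i | i | i)
    exacts [famT.zero h0 i, big (k := ![0, 0, 0, 1]) famA (by decide +kernel) i,
      big (k := k0) famB (by decide +kernel) i]) ![1, 0, 0, 0]
  obtain ⟨g, hg⟩ := hf
  rcases r.normal_ker.eq_bot_or_eq_top with e | e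
  · have h3 : xp [0, 5] ∈ r.ker := AddMonoidHom.ext h1
    rw [e, Subgroup.mem_bot] at h3
    have h4 : ρ0 (dec 5) * ρ0 (dec 9) = 1 := by simpa [xp, xg, xw, pw] using h3
    refine ufr0.ne_code (u := 5) (v := 9) (by decide +kernel) ?_
    rw [eq_inv_of_mul_eq_one_left h4, inv_eq_of_mul_eq_one_right (sq0 _ (mem0 (by decide +kernel)))]
  · exact hg (e ▸ Subgroup.mem_top g : g ∈ r.ker)

theorem bij {f : V} (hf : B (uj r) l0 f) (h0 : f ≠ 0) :
    Function.Bijective ((op (r := r) h2).io (fun i => r (xp (WT i))) f (uj r k0 f)) :=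
  (famT.inj h2 lk0 hf h0).bijective_of_nat_card_le (by rw [hc, Nat.card_fun, natCard_GF4]; simp)

theorem line {f v : V} (hf : B (uj r) l0 f) (h0 : f ≠ 0) (hv : B (uj r) l0 v) : ∃ c, v = ph f (uj r k0 f) c := by
  have o := op (r := r) h2
  obtain ⟨x, rfl⟩ := (bij h2 hc hf h0).2 v
  refine ⟨x 0, o.eq_of_add (o.indep (Finset.univ.erase 0) LT (by decide +kernel) (hv.add (o.ph_mem hf _ _))
    (fun i => (famT.1 i).2.1 ▸ mv (famT.1 i).1 (o.ph_mem hf k0 (x i))) ?_)⟩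
  rw [add_comm, ← r_one (r := r) (ph f _ (x 0))]
  exact (congrArg _ (Finset.add_sum_erase _ (fun j => r (xp (WT j)) (ph f (uj r k0 f) (x j)))
    (Finset.mem_univ 0)).symm).trans (o.two' _ _)

theorem fixT {f : V} (hf : B (uj r) l0 f) (h0 : f ≠ 0) {n : Fin 7} (h6 : n ≠ 6) (hn : ds n l0 = l0)
    (hs : rl [n, n] [] = true) (c : F4) : r (xg n) (ph f (uj r k0 f) c) = ph f (uj r k0 f) c := by
  have o := op (r := r) h2
  have h1 := mv (w := [n]) (by simpa using h6.symm) hf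
  rw [xp_cons, xp_nil, mul_one, List.foldr_cons, List.foldr_nil, hn] at h1
  obtain ⟨d, hd⟩ := line h2 hc hf h0 h1
  have h3 := o.lin hf lk0 (r (xg n)) hd (by rw [uj_xg h6, o.u_eq hf (by rw [← ds_dot, hn])])
  have h4 : d * (d * 1) = 1 := o.ph_inj hf lk0 h0 (by
    rw [← h3, ← h3, ← r_mul, ← mul_one (xg n * _), mul_assoc, ← xp_nil, ← xp_cons, ← xp_cons, rel hs, xp_nil, r_one])
  rw [h3, (by decide : ∀ d : F4, d * (d * 1) = 1 → d = 1) d h4, one_mul]

/-- The word of `(03)(14)(25)`. -/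
def sw : List (Fin 7) := [2, 3, 4, 1, 2, 3, 0, 1, 2]

theorem exists_f' (hf : ∃ g, r g ≠ 1) : ∃ f, B (uj r) l0 f ∧ f ≠ 0 ∧
    ∀ c, r (xp sw) (ph f (uj r k0 f) c) = ph f (uj r k0 f) (s4 c) := by
  have o := op (r := r) h2
  have h1 : ∀ v, r (xp sw) (uj r k0 v) = uj r k0 (uj r k0 (r (xp sw) v)) := fun v => by
    rw [← o.add, uj, uj, ← r_mul, ← r_mul, ← xp_append, ← xp_append,
      rel (a := sw ++ wj k0) (b := wj (k0 + k0) ++ sw) (by decide +kernel)]
  obtain ⟨f, hf, h0⟩ := exists_f h2 hc hf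
  obtain ⟨d, hd⟩ := line h2 hc hf h0 (B.neg ((by decide +kernel : sw.foldr ds l0 = -l0) ▸ mv (by decide) hf))
  have hd0 : d ≠ 0 := fun e => h0 (r_inj _ _ (by rw [hd, e, ph_zero]))
  have h3 := o.ph_mem hf k0 (d * d)
  refine ⟨_, h3, fun e => mul_ne_zero hd0 hd0 (o.ph_eq_zero hf lk0 h0 e), fun c => ?_⟩
  rw [o.slin h3 lk0 _ (d := 1) _ (h1 _), one_mul]
  rw [ph_one, o.slin hf lk0 _ hd (h1 _)]
  congr 1; clear hd h3; revert d; decide

/-- Generators of the stabiliser of the first place, and their action on it. -/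
def lw : Fin 7 → List (Fin 7) := ![[0], [1], [3], [4], sw, gw 0, gw 2]
def la : Fin 7 → F4 → F4 := ![id, id, id, id, s4, id, (om * ·)]

def tb : Fin 6 → Fin 10 → Fin 10 × List (Fin 7) := ![![(0, [0]), (1, [0]), (2, [0]), (3, [0]), (9, [4]), (8, [4]), (7, [4]), (6, [4]), (5, [4]), (4, [4])],
  ![(0, [1]), (4, []), (5, []), (6, []), (1, []), (2, []), (3, []), (7, [2]), (8, [2]), (9, [2])],
  ![(1, []), (0, []), (2, [2]), (3, [2]), (4, [1]), (7, []), (8, []), (5, []), (6, []), (9, [3])],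
  ![(0, [2]), (2, []), (1, []), (3, [3]), (5, []), (4, []), (6, [3]), (7, [1]), (9, []), (8, [])],
  ![(0, [3]), (1, [3]), (3, []), (2, []), (4, [3]), (6, []), (5, []), (8, []), (7, []), (9, [1])],
  ![(0, [0, 5]), (1, [0, 5]), (2, [0, 5]), (3, [0, 5]), (9, [4, 6]), (8, [4, 6]), (7, [4, 6]), (6, [4, 6]), (5, [4, 6]), (4, [4, 6])]]

omit h2 hc in
theorem xa_add (n : Fin 7) (x y : A10) : xa n (x + y) = xa n x + xa n y := by
  funext i
  fin_cases n <;> fin_cases i <;> simp [xa, mul_add] <;> abel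

theorem exists_mono (hf : ∃ g, r g ≠ 1) : ∃ ι : A10 →+ V, Function.Bijective ι ∧
    ∀ n, n ≠ 6 → ∀ x, r (xg n) (ι x) = ι (xa n x) := by
  have o := op (r := r) h2
  obtain ⟨f, hf, h0, hs⟩ := exists_f' h2 hc hf
  have h1 : ∀ i c, r (xp (lw i)) (ph f (uj r k0 f) c) = ph f (uj r k0 f) (la i c) := fun i c => by
    have t : ∀ {n : Fin 7}, n ≠ 6 → ds n l0 = l0 → rl [n, n] [] = true →
        r (xp [n]) (ph f (uj r k0 f) c) = ph f (uj r k0 f) c := fun a b d => by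
      rw [xp_cons, xp_nil, mul_one, fixT h2 hc hf h0 a b d]
    fin_cases i
    iterate 4 exact t (by decide) (by decide +kernel) (by decide +kernel)
    exacts [hs c, (o.ph_mem hf k0 c).1 ![1, 0, 0, 0] (by decide +kernel), o.u_ph hf lk0 c]
  have h3 : ∀ (w : List (Fin 7)) c, r (xp (w.flatMap lw)) (ph f (uj r k0 f) c) = ph f (uj r k0 f) (w.foldr la c) :=
    fun w c => by
      induction w with
      | nil => exact r_one _
      | cons i w ih => rw [List.flatMap_cons, xp_append, r_mul, ih, h1, List.foldr_cons]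
  refine ⟨_, bij h2 hc hf h0, fun n hn x => ?_⟩
  obtain ⟨m, rfl⟩ := Fin.exists_castSucc_eq.2 hn
  refine DFunLike.congr_fun (AddMonoidHom.functions_ext _
    (AddMonoidHom.comp (r (xg m.castSucc)) (o.io (fun i => r (xp (WT i))) f (uj r k0 f)))
    ((o.io (fun i => r (xp (WT i))) f (uj r k0 f)).comp (AddMonoidHom.mk' (xa m.castSucc) (xa_add _)))
    fun i c => ?_) x
  have k : ∀ (m : Fin 6) i, rl (m.castSucc :: WT i) (WT (tb m i).1 ++ (tb m i).2.flatMap lw) = true ∧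
      ∀ c, xa m.castSucc (Pi.single i c) = Pi.single (tb m i).1 ((tb m i).2.foldr la c) := by decide +kernel
  show r (xg m.castSucc) (o.io (fun i => r (xp (WT i))) f (uj r k0 f) (Pi.single i c)) =
    o.io (fun i => r (xp (WT i))) f (uj r k0 f) (xa m.castSucc (Pi.single i c))
  rw [(k m i).2, o.io_single, o.io_single, ← h3, ← r_mul, ← r_mul, ← xp_cons, ← xp_append, rel (k m i).1]

end Cfsg.Agent.T3.XA
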