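import Mathlib
import Cfsg.Agent.T3.XA2

/-!
A module of order `2²⁰` of `U₆(2)` is the real form of the exterior cube.
-/

set_option autoImplicit false
set_option maxRecDepth 100000

namespace Cfsg.Agent.T3

open Cfsg.Agent.Cl Cfsg.Agent.Spor Cfsg.Agent.Spor.TT Cfsg.Agent.Spor.FC Subgroup

namespace XA

/-- Words `a, v, t₃, t₄, d₄, u` and their conjugates under the Fourier element. -/
def w1 : Fin 6 → List (Fin 7) := ![[1, 5, 0, 1, 5, 0], [0, 1], [3], [4],
  [3, 4, 2, 3, 1, 2, 0, 1, 0, 5, 1, 2, 3, 4, 0, 1, 2, 3], [0, 1, 0, 5, 1, 0]]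
def w2 : Fin 6 → List (Fin 7) := ![[1, 5, 0, 1, 5, 0], [0, 1, 0, 5, 1, 0], [3], [4],
  [3, 4, 2, 3, 1, 2, 0, 1, 0, 5, 1, 2, 3, 4, 0, 1, 2, 3], [1, 0]]

def tw : Fin 10 → List (List (Fin 6)) := ![[], [[], [1, 1], [1, 1, 0, 0], [1, 1, 0]],
  [[], [2, 1, 1], [2, 1, 1, 0, 0], [2, 1, 1, 0]],
  [[], [3, 2, 1, 1], [3, 2, 1, 1, 0, 0], [3, 2, 1, 1, 0]],
  [[], [1], [1, 0, 0], [1, 0]],
  [[], [2, 1], [2, 1, 0, 0], [2, 1, 0]],
  [[], [3, 2, 1], [3, 2, 1, 0, 0], [3, 2, 1, 0]],
  [[], [3, 2], [3, 2, 0], [3, 2, 0, 0]],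
  [[], [2], [2, 0], [2, 0, 0]],
  [[], [], [0], [0, 0]]]

theorem xl_append (a b : List (Fin 7)) (x : A10) : xl (a ++ b) x = xl a (xl b x) := List.foldr_append

theorem diag (w : List (Fin 7)) (c : A10) (h : ∀ i a, xl w (Pi.single i a) = Pi.single i (c i * a)) (z : A10)
    (i : Fin 10) : xl w z i = c i * z i := by
  have k : ∀ x y, xl w (x + y) = xl w x + xl w y := fun x y => by
    clear h
    induction w with
    | nil => rfl
    | cons n w ih => exact (congrArg (xa n) ih).trans (xa_add _ _ _)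
  refine congrFun (DFunLike.congr_fun (AddMonoidHom.functions_ext _ (AddMonoidHom.mk' (xl w) k)
    (AddMonoidHom.mk' (c * ·) (mul_add c)) fun j a => (h j a).trans (funext fun i => ?_)) z) i
  by_cases e : i = j <;> simp [e]

theorem diagA : ∀ z i, xl (w2 0) z i = ![1, om + 1, om + 1, om + 1, om + 1, om + 1, om + 1, om, om, om] i * z i :=
  diag _ _ (by decide +kernel)

theorem diagD : ∀ z i, xl (w2 4) z i = ![1, 1, om, om + 1, 1, om, om + 1, om, om + 1, 1] i * z i :=
  diag _ _ (by decide +kernel)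

theorem k6 : ∀ a : F4, a = om * a → a = 0 := by decide
theorem k7 : ∀ a : F4, a = (om + 1) * a → a = 0 := by decide

/-- The additive map with `1 ↦ p`, `ω ↦ q`. -/
def eta (p q c : F4) : F4 := if c = 0 then 0 else if c = 1 then p else if c = om then q else q + p

theorem four (H : A10 →+ A10) (h1 : ∀ i x, H (xl (w1 i) x) = xl (w2 i) (H x)) (h2 : ∀ x, H (H x) = xa 1 x)
    (h3 : ∀ x, H (xl (gw 2) (H (xl (gw 2) (H (xl (gw 2) x))))) = x) (x : A10) : H x = xa 6 x := by
  have h4 : ∀ (w : List (Fin 6)) x, H (xl (w.flatMap w1) x) = xl (w.flatMap w2) (H x) := fun w x => by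
    induction w with
    | nil => rfl
    | cons i w ih => rw [List.flatMap_cons, List.flatMap_cons, xl_append, xl_append, h1, ih]
  have h9 : H (Pi.single 9 1) = ![0, 1, 0, 0, 1, 0, 0, 0, 0, 1] := by
    have a1 := h1 4 (Pi.single 9 1)
    have a2 := h1 5 (Pi.single 9 1)
    have a3 : H (Pi.single 9 1) + xl (w2 0) (H (Pi.single 9 1)) + xl (w2 0) (xl (w2 0) (H (Pi.single 9 1))) = 0 := by
      rw [← h1, ← h1, ← map_add, ← map_add, ← map_zero H]
      exact congrArg H (by decide +kernel)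
    have a4 := h2 (Pi.single 9 1)
    have a5 : ∀ w : List (Fin 6), H (xl (w.flatMap w1) (Pi.single 9 1 + xl (w1 1) (Pi.single 9 1) +
        xl (w1 1) (xl (w1 1) (Pi.single 9 1)))) = xl (w.flatMap w2) (H (Pi.single 9 1) + xl (w2 1) (H (Pi.single 9 1)) +
        xl (w2 1) (xl (w2 1) (H (Pi.single 9 1)))) := fun w => by rw [h4, map_add, map_add, h1, h1, h1]
    rw [show xl (w1 4) (Pi.single 9 1) = Pi.single 9 1 by decide +kernel] at a1
    rw [show xl (w1 5) (Pi.single 9 1) = Pi.single 9 1 by decide +kernel] at a2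
    generalize H (Pi.single 9 1) = z at *
    have e : z = ![0, s4 (z 9), 0, 0, s4 (z 9), 0, 0, 0, 0, z 9] := by
      have b := fun i => (congrFun a1 i).trans (diagD z i)
      have b0 := congrFun a3 0
      simp only [Pi.add_apply, diagA] at b0
      have b1 : z 1 = s4 (z 9) := congrFun a2 1
      funext i
      fin_cases i
      exacts [(by decide : ∀ a : F4, a + 1 * a + 1 * (1 * a) = 0 → a = 0) _ b0, b1, k6 _ (b 2), k7 _ (b 3),
        (congrFun a2 4).trans b1, k6 _ (b 5), k7 _ (b 6), k6 _ (b 7), k7 _ (b 8), rfl]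
    rcases f4_cases (z 9) with k | k | k | k <;> rw [k] at e <;> subst e
    · exact absurd (a4.symm.trans ((congrArg H (by decide +kernel)).trans (map_zero H))) (by decide +kernel)
    · decide +kernel
    · exact absurd (a4.symm.trans ((congrArg H (by decide +kernel)).trans (a5 [0]))) (by decide +kernel)
    · exact absurd (a4.symm.trans ((congrArg H (by decide +kernel)).trans (a5 [0, 0]))) (by decide +kernel)
  have h0 : ∀ c, H (Pi.single 0 c) = Pi.single 0 c := by
    have a1 : ∀ c, H (Pi.single 0 c) = Pi.single 0 (H (Pi.single 0 c) 0) := fun c => by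
      have a := h1 0 (Pi.single 0 c)
      rw [(by decide +kernel : ∀ c, xl (w1 0) (Pi.single 0 c) = Pi.single 0 c)] at a
      generalize H (Pi.single 0 c) = z at a
      have b := fun i => (congrFun a i).trans (diagA z i)
      funext i
      fin_cases i
      exacts [rfl, k7 _ (b 1), k7 _ (b 2), k7 _ (b 3), k7 _ (b 4), k7 _ (b 5), k7 _ (b 6), k6 _ (b 7), k6 _ (b 8),
        k6 _ (b 9)]
    have a2 : ∀ c, xl (gw 2) (Pi.single 0 c) = Pi.single 0 (om * c) := by decide +kernel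
    obtain ⟨p, q, a3⟩ : ∃ p q, ∀ c, H (Pi.single 0 c) 0 = eta p q c :=
      ⟨H (Pi.single 0 1) 0, H (Pi.single 0 om) 0, fun c => by
        rcases f4_cases c with rfl | rfl | rfl | rfl
        · rw [Pi.single_zero, map_zero]; rfl
        · rfl
        · rfl
        · rw [Pi.single_add, map_add]; rfl⟩
    have a4 : ∀ c, H (Pi.single 0 (H (Pi.single 0 c) 0)) 0 = c := fun c => by rw [← a1, h2]; rfl
    have a5 : ∀ c, H (Pi.single 0 (om * H (Pi.single 0 (om * H (Pi.single 0 (om * c)) 0)) 0)) 0 = c := fun c => by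
      rw [← a2, ← a1, ← a2, ← a1, ← a2, h3]; rfl
    simp only [a3] at a4 a5
    intro c
    rw [a1, a3, (by decide +kernel : ∀ p q, (∀ c, eta p q (eta p q c) = c) →
      (∀ c, eta p q (om * eta p q (om * eta p q (om * c))) = c) → ∀ c, eta p q c = c) p q a4 a5]
  refine DFunLike.congr_fun (AddMonoidHom.functions_ext _ H (AddMonoidHom.mk' (xa 6) (xa_add _)) fun i c => ?_) x
  have k : ∀ (i : Fin 10) (c : F4), (c = 0 ∧ xa 6 (Pi.single i c) = 0) ∨ (i = 0 ∧ xa 6 (Pi.single i c) = Pi.single 0 c) ∨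
      (Pi.single i c = xl (((tw i).getD c.code []).flatMap w1) (Pi.single 9 1) ∧
        xa 6 (Pi.single i c) = xl (((tw i).getD c.code []).flatMap w2) ![0, 1, 0, 0, 1, 0, 0, 0, 0, 1]) := by
    decide +kernel
  rw [AddMonoidHom.mk'_apply]
  rcases k i c with ⟨rfl, e⟩ | ⟨rfl, e⟩ | ⟨e, e'⟩
  · rw [e, Pi.single_zero, map_zero]
  · rw [e, h0]
  · rw [e', ← h9, ← h4, ← e]

theorem exists_io {V : Type*} [AddCommGroup V] [Finite V] (r : PU6 →* AddMonoid.End V) (h2 : ∀ v : V, v + v = 0)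
    (hc : Nat.card V = 2 ^ 20) (hf : ∃ g, r g ≠ 1) : ∃ ι : A10 →+ V, Function.Bijective ι ∧
      ∀ n x, r (xg n) (ι x) = ι (xa n x) := by
  obtain ⟨ι, hb, h⟩ := exists_mono h2 hc hf
  have hl : ∀ w : List (Fin 7), 6 ∉ w → ∀ x, r (xp w) (ι x) = ι (xl w x) := fun w hw x => by
    induction w with
    | nil => exact r_one _
    | cons n w ih =>
      rw [xp_cons, r_mul, ih fun e => hw (by simp [e]), h n fun e => hw (by simp [e])]
      rfl
  let e := AddEquiv.ofBijective ι hb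
  let H : A10 →+ A10 := e.symm.toAddMonoidHom.comp (AddMonoidHom.comp (r (xg 6)) ι)
  have hH : ∀ x, ι (H x) = r (xp [6]) (ι x) := fun x => by
    rw [xp_cons, xp_nil, mul_one]; exact e.apply_symm_apply _
  clear_value H
  refine ⟨ι, hb, fun n x => ?_⟩
  by_cases hn : n = 6
  swap
  · exact h n hn x
  rw [hn, ← four H (fun i x => hb.1 ?_) (fun x => hb.1 ?_) (fun x => hb.1 ?_), hH, xp_cons, xp_nil, mul_one]
  · have k : ∀ i, 6 ∉ w1 i ∧ 6 ∉ w2 i ∧ rl ([6] ++ w1 i) (w2 i ++ [6]) = true := by decide +kernel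
    rw [hH, ← hl _ (k i).1, ← hl _ (k i).2.1, hH, ← r_mul, ← r_mul, ← xp_append, ← xp_append, rel (k i).2.2]
  · rw [hH, hH, ← r_mul, ← xp_append, rel (b := [1]) (by decide +kernel), hl _ (by decide)]
    rfl
  · have k : 6 ∉ gw 2 := by decide
    simp only [hH, ← hl _ k, ← r_mul, ← xp_append]
    rw [rel (b := []) (by decide +kernel), xp_nil, r_one]

end XA

variable {X : Type*} [Group X] [Finite X] {θ : PU6 →* X} {A : Subgroup X} {ι : A10 → X}

theorem exists_M20 (θ : PU6 →* X) (A : Subgroup X) (h2 : ∀ a ∈ A, a * a = 1) (hc : Nat.card A = 2 ^ 20)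
    (hn : ∀ g, θ g ∈ normalizer (A : Set X)) (hf : ∃ g, θ g ∉ centralizer (A : Set X)) : ∃ ι, M20 θ A ι := by
  have inv : ∀ a : A, a⁻¹ = a := fun a => inv_eq_of_mul_eq_one_right (Subtype.ext (h2 a a.2))
  let _ : CommGroup A := ⟨fun a b => by rw [← inv (a * b), mul_inv_rev, inv, inv]⟩
  let r : PU6 →* AddMonoid.End (Additive A) :=
    { toFun := fun g => MonoidHom.toAdditive (A.normalizerMonoidHom ⟨θ g, hn g⟩).toMonoidHom
      map_one' := AddMonoidHom.ext fun a => Subtype.ext (by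
        show θ 1 * a.toMul * (θ 1)⁻¹ = a.toMul
        simp)
      map_mul' := fun g k => AddMonoidHom.ext fun a => Subtype.ext (by
        show θ (g * k) * a.toMul * (θ (g * k))⁻¹ = θ g * (θ k * a.toMul * (θ k)⁻¹) * (θ g)⁻¹
        simp [mul_assoc]) }
  obtain ⟨ι, hb, h⟩ := XA.exists_io r (fun v => Subtype.ext (h2 _ v.toMul.2)) hc (hf.imp fun g hg e =>
    hg (mem_centralizer_iff.2 fun a ha => (mul_inv_eq_iff_eq_mul.1
      (congrArg (fun f : AddMonoid.End (Additive A) => ((f (Additive.ofMul ⟨a, ha⟩)).toMul : X)) e)).symm))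
  refine ⟨fun x => ((ι x).toMul : X), fun x y => by rw [map_add]; rfl,
    fun x y e => hb.1 (Subtype.ext e), fun g => ⟨fun hg => ?_, fun ⟨x, e⟩ => e ▸ (ι x).toMul.2⟩, hn,
    fun n x => congrArg (fun v : Additive A => (v.toMul : X)) (h n x)⟩
  exact (hb.2 (Additive.ofMul ⟨g, hg⟩)).imp fun x e => congrArg (fun v : Additive A => (v.toMul : X)) e

end Cfsg.Agent.T3
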