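import Mathlib
import Cfsg.Agent.T3.XDefs

/-! The module `2^20` of `U₆(2)`: words, and tables of elements of order three fixing a vector. -/

set_option autoImplicit false
set_option maxRecDepth 100000
set_option exponentiation.threshold 100000

namespace Cfsg.Agent.T3.XC

open Cfsg.Agent.Spor Cfsg.Agent.Spor.TT Cfsg.Agent.Spor.FC Subgroup

/-- A word in the generators as a word in transvections. -/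
def xf (l : List (Fin 7)) : List ℕ := l.flatMap xw

theorem xp_append (l l' : List (Fin 7)) : xp (l ++ l') = xp l * xp l' := by simp [xp]

theorem xp_eq_pw (l : List (Fin 7)) : xp l = pw (xf l) := by
  induction l with
  | nil => rfl
  | cons n l ih => rw [xf, List.flatMap_cons, pw, evalW_append, xp, List.map_cons, List.prod_cons]; exact congrArg _ ih

theorem pw_mul_reverse {l : List ℕ} (h : ∀ u ∈ l, iso u = true) : pw l.reverse * pw l = 1 := by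
  induction l with
  | nil => exact mul_one _
  | cons u l ih =>
    have := ih fun x hx => h x (List.mem_cons_of_mem _ hx)
    simp only [pw, List.reverse_cons, evalW_append, evalW_cons, evalW_nil, mul_one] at this ⊢
    rw [mul_assoc, ← mul_assoc (ρ0 _), sq0 _ (mem0 (h u List.mem_cons_self)), one_mul, this]

/-- The two words name the same element. -/
noncomputable def eqv (l l' : List (Fin 7)) : Bool := trivU (xf l ++ (xf l').reverse)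

theorem xp_eq {l l' : List (Fin 7)} (h : eqv l l' = true) : xp l = xp l' := by
  have h1 := eq_one_of_triv h
  have h2 := pw_mul_reverse (l := xf l') fun u hu =>
    (allL_iff _ _).1 ((band_iff _ _).1 h).1 u (List.mem_append_right _ (List.mem_reverse.2 hu))
  rw [evalW_append] at h1
  rw [xp_eq_pw, xp_eq_pw, ← one_mul (pw (xf l')), ← h1, mul_assoc]
  exact ((congrArg _ h2).trans (mul_one _)).symm

/-- The conjugate word. -/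
def bar (l : List (Fin 7)) : List (Fin 7) := l.flatMap fun n => if n = 5 then [0, 5, 0] else [n]

/-- A vector moved by the elements of order three that are used. -/
def v0 : A10 := ![0, 0, 0, 1, 0, 0, 0, 0, 1, 1]

/-- `l` has order three and `m` conjugates `f l` to `l`. -/
def Gd (f : List (Fin 7) → List (Fin 7)) (m l : List (Fin 7)) : Prop :=
  eqv (l ++ l ++ l) [] = true ∧ xl l v0 ≠ v0 ∧ eqv (m ++ f l) (l ++ m) = true ∧ 6 ∉ l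

noncomputable instance (f : List (Fin 7) → List (Fin 7)) (m l : List (Fin 7)) : Decidable (Gd f m l) :=
  inferInstanceAs (Decidable (_ ∧ _))

/-- Elements of order three commuting with the first transposition. -/
def LA : List (List (Fin 7)) :=
  [[3, 2], [5, 1, 0, 5, 4, 3, 1, 0], [5, 2, 1, 0, 5, 3, 4, 1, 2, 0], [5, 3, 2, 1, 0, 5, 4, 1, 2, 3, 2, 0],
   [4, 3, 1, 2, 0, 1, 5, 4, 1, 2, 0, 1], [1, 5, 4, 3, 2, 0, 1, 0, 5, 2, 3, 1],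
   [4, 2, 3, 1, 2, 0, 1, 0, 5, 4, 1, 2, 0, 1], [3, 4, 3, 2], [1, 2, 0, 1, 5, 0, 1, 2, 0, 1],
   [2, 3, 1, 2, 0, 1, 5, 0, 1, 2, 0, 1], [3, 1, 2, 0, 1, 5, 0, 1, 2, 3, 0, 1],
   [4, 3, 1, 2, 0, 1, 5, 0, 1, 2, 3, 4, 0, 1], [2, 3, 1, 2, 0, 1, 5, 0, 1, 2, 3, 0, 1, 2],
   [4, 2, 3, 1, 2, 0, 1, 5, 0, 1, 2, 3, 4, 0, 1, 2], [3, 4, 2, 3, 1, 2, 0, 1, 5, 0, 1, 2, 3, 4, 0, 1, 2, 3],
   [1, 5, 3, 2, 0, 1, 0, 5, 2, 1], [2, 3, 1, 2, 0, 1, 5, 1, 2, 3, 0, 1], [4, 3], [4, 2, 3, 2],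
   [5, 1, 0, 5, 3, 4, 1, 0], [5, 2, 1, 0, 5, 4, 3, 1, 2, 0], [3, 1, 2, 0, 1, 5, 1, 2, 0, 1],
   [3, 2, 1, 5, 0, 1, 5, 4, 2, 3, 2, 0], [2, 3, 1, 2, 0, 1, 0, 5, 1, 2, 0, 1], [4, 3, 1, 2, 0, 1, 5, 1, 2, 3, 0, 1],
   [1, 5, 4, 3, 2, 0, 1, 0, 5, 4, 2, 1], [2, 1, 5, 3, 2, 0, 1, 0, 5, 2, 3, 1],
   [5, 4, 3, 2, 1, 0, 5, 1, 2, 3, 4, 3, 2, 0], [4, 3, 2, 1, 5, 0, 1, 5, 2, 3, 4, 3, 2, 0],
   [4, 2, 3, 1, 2, 0, 1, 5, 4, 0, 1, 2, 0, 1], [4, 2, 3, 1, 2, 0, 1, 5, 1, 2, 3, 4, 0, 1],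
   [2, 1, 5, 4, 3, 2, 0, 1, 0, 5, 2, 3, 4, 1], [4, 2, 3, 1, 2, 0, 1, 5, 1, 2, 3, 0, 1, 2],
   [2, 1, 5, 4, 3, 2, 0, 1, 0, 5, 2, 3, 1, 2], [3, 4, 2, 3, 1, 2, 0, 1, 5, 4, 0, 1, 2, 3, 0, 1],
   [3, 4, 2, 3, 1, 2, 0, 1, 0, 5, 4, 1, 2, 3, 0, 1], [3, 4, 2, 3, 1, 2, 0, 1, 5, 1, 2, 3, 4, 3, 0, 1],
   [3, 2, 1, 5, 4, 3, 2, 0, 1, 0, 5, 2, 3, 4, 3, 1], [3, 4, 2, 3, 1, 2, 0, 1, 5, 0, 1, 2, 3, 0, 1, 2],
   [3, 4, 2, 3, 1, 2, 0, 1, 0, 5, 1, 2, 3, 0, 1, 2], [3, 4, 2, 3, 1, 2, 0, 1, 5, 1, 2, 3, 4, 0, 1, 2],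
   [3, 2, 1, 5, 4, 3, 2, 0, 1, 0, 5, 2, 3, 4, 1, 2]]

/-- Elements of order three commuting with a semilinear involution. -/
def LB : List (List (Fin 7)) :=
  [[3, 4, 2, 3, 1, 2, 0, 1], [5, 1, 2, 0, 1, 5, 0, 1, 2, 0, 1, 0], [5, 1, 2, 0, 1, 0, 5, 3, 4, 2, 3, 2],
   [0, 5, 1, 2, 0, 1, 5, 3, 4, 2, 3, 0], [1, 0, 5, 3, 2, 1, 0, 5, 4, 2, 3, 2, 0, 1],
   [1, 5, 4, 3, 1, 2, 0, 1, 5, 4, 2, 3, 2, 1], [1, 5, 4, 2, 3, 1, 2, 0, 1, 0, 5, 4, 3, 1, 2, 0],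
   [1, 5, 3, 2, 0, 1, 5, 4, 3, 2, 1, 0, 5, 3, 2, 0], [5, 1, 2, 0, 1, 0, 5, 1, 2, 0, 1, 0],
   [5, 3, 4, 2, 3, 1, 2, 0, 1, 0, 5, 2], [3, 2, 1, 5, 1, 2, 0, 1, 5, 2, 3, 0, 1, 0],
   [0, 1, 5, 3, 2, 0, 1, 5, 4, 2, 3, 2, 1, 0], [4, 3, 2, 1, 5, 1, 2, 0, 1, 5, 2, 3, 4, 0, 1, 0],
   [5, 0, 1, 5, 4, 3, 2, 1, 0, 5, 3, 4, 2, 3, 1, 2], [1, 5, 2, 3, 1, 2, 0, 1, 0, 5, 1, 2, 3, 0, 1, 2, 0, 1],
   [0, 1, 5, 2, 3, 1, 2, 0, 1, 0, 5, 1, 2, 3, 0, 1, 2, 0, 1, 0], [3, 4, 2, 3, 0, 1, 2, 0, 1, 0],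
   [2, 3, 4, 2, 3, 1, 2, 0, 1, 0], [1, 2, 3, 4, 0, 1, 2, 3, 2, 0], [5, 1, 2, 0, 1, 5, 3, 4, 2, 3],
   [1, 5, 3, 2, 0, 1, 5, 4, 2, 3, 2, 1], [5, 1, 2, 0, 1, 5, 2, 3, 4, 2, 3, 2],
   [0, 5, 1, 2, 0, 1, 5, 2, 3, 4, 2, 3, 2, 0], [0, 5, 1, 2, 0, 1, 0, 5, 3, 4, 2, 3, 2, 0],
   [0, 5, 3, 4, 2, 3, 1, 2, 0, 1, 0, 5, 2, 0], [2, 1, 5, 3, 2, 0, 1, 5, 4, 2, 3, 1, 2, 1],
   [1, 5, 3, 1, 2, 0, 1, 5, 2, 3, 4, 3, 2, 1], [1, 5, 4, 3, 2, 0, 1, 5, 2, 3, 4, 3, 2, 1],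
   [0, 1, 0, 5, 3, 2, 1, 0, 5, 4, 2, 3, 2, 0, 1, 0], [1, 5, 4, 3, 1, 2, 0, 1, 5, 4, 2, 3, 1, 2, 1, 0],
   [2, 0, 1, 5, 3, 2, 0, 1, 5, 4, 2, 3, 1, 2, 1, 0], [1, 5, 3, 1, 2, 0, 1, 5, 2, 3, 4, 3, 1, 2, 1, 0],
   [2, 1, 5, 4, 3, 1, 2, 0, 1, 5, 4, 2, 3, 2, 1, 0], [2, 1, 5, 3, 1, 2, 0, 1, 5, 2, 3, 4, 3, 2, 1, 0],
   [0, 1, 5, 4, 3, 2, 0, 1, 5, 2, 3, 4, 3, 2, 1, 0], [5, 2, 0, 1, 5, 3, 2, 1, 0, 5, 3, 4, 2, 3, 1, 0],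
   [5, 0, 1, 5, 3, 2, 1, 0, 5, 3, 4, 2, 3, 1, 2, 0], [1, 5, 2, 3, 1, 2, 0, 1, 0, 5, 3, 4, 3, 1, 2, 0],
   [2, 1, 5, 3, 2, 0, 1, 5, 4, 3, 2, 1, 0, 5, 3, 0], [2, 1, 5, 3, 1, 2, 0, 1, 5, 3, 4, 1, 2, 3, 0, 1],
   [5, 2, 0, 1, 5, 4, 3, 2, 1, 0, 5, 3, 4, 2, 3, 1], [2, 3, 1, 2, 0, 1, 5, 4, 3, 1, 2, 0, 1, 5, 3, 1]]

/-- The word chosen for a vector with four free coordinates. -/
def pk (L : List (List (Fin 7))) (t : ℕ) (a b c d : F4) : List (Fin 7) :=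
  L.getD (getP 6 63 t (a.code + 4 * b.code + 16 * c.code + 64 * d.code)) []

theorem tabA (a b c d : F4) : ∃ l, Gd id [0] l ∧
    xl l ![a, b, c, d, 0, 0, 0, 0, 0, 0] = ![a, b, c, d, 0, 0, 0, 0, 0, 0] :=
  have h := (by decide +kernel : ∀ a b c d : F4, (fun l => l ∈ LA ∧
    xl l ![a, b, c, d, 0, 0, 0, 0, 0, 0] = ![a, b, c, d, 0, 0, 0, 0, 0, 0]) (pk LA (nat_lit 0x114514901604831614981481c40a63c00a84d34d38a40881d426704104154f0298d49481c464a75e58a1837ca30c3000153e92475270410419635081520e14404511524201526084d34d308712608f0280a29087c60ca64710a59d78a30c3000023e84d34d31021e69028880410413c05695091e75258c84054a00c54a145101160548879674a0df18a1191ca30c3000153cb25070b5db68b34d3476976cb3c054b70940b34d34741c24b6da5cb54f00b34d34738e39238e39238e392451440) a b c d)) a b c d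
  ⟨_, (by decide +kernel : ∀ l ∈ LA, Gd id [0] l) _ h.1, h.2⟩

theorem tabB (a b c d : F4) : ∃ l, Gd bar [0, 2, 4] l ∧
    xl l ![0, 0, 0, 0, 0, a, b, c, d, 0] = ![0, 0, 0, 0, 0, a, b, c, d, 0] :=
  have h := (by decide +kernel : ∀ a b c d : F4, (fun l => l ∈ LB ∧
    xl l ![0, 0, 0, 0, 0, a, b, c, d, 0] = ![0, 0, 0, 0, 0, a, b, c, d, 0]) (pk LB (nat_lit 0x4d024948d6cd0945140a66c14452dd0000004596864657c154410448b1e30d340359ea4156088e4a4a0e5d968e30c3100000006916462d115d7d19411d22e34034c3115104a567816d234d5025142534096c2981a1290e69764e89580e30c3104d00c31045442c74a37a95815140944094c935b48d99b08165a44614b45d00000095f44165a5ce82254e92848e30c3104d060a86770a2c714a3cf3d21c52ca4184ca9dc84a3cf3d27219ca14b1ca61340a3cf3d2208211208211208211000000) a b c d)) a b c d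
  ⟨_, (by decide +kernel : ∀ l ∈ LB, Gd bar [0, 2, 4] l) _ h.1, h.2⟩

/-- The vectors with one non-zero coordinate are images of the first one. -/
theorem tabE : ∀ (j : Fin 10) (a : F4), a = 0 ∨ ∃ l ∈ ([[], [2], [1, 2], [3, 2], [0, 1, 2], [3, 1, 2], [4, 3, 2],
    [5, 1, 2], [0, 5, 1, 2], [2, 3, 1, 2], [3, 0, 1, 2], [4, 3, 1, 2], [5, 0, 1, 2], [5, 3, 1, 2], [0, 5, 0, 1, 2],
    [0, 5, 3, 1, 2], [1, 0, 5, 1, 2], [1, 5, 0, 1, 2], [5, 2, 3, 1, 2], [5, 3, 0, 1, 2], [5, 4, 3, 1, 2],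
    [0, 5, 2, 3, 1, 2], [0, 5, 3, 0, 1, 2], [0, 5, 4, 3, 1, 2], [1, 0, 5, 3, 1, 2], [1, 5, 2, 3, 1, 2],
    [1, 5, 3, 0, 1, 2], [2, 1, 0, 5, 1, 2], [2, 1, 5, 0, 1, 2], [1, 0, 5, 4, 3, 1, 2]] : List (List (Fin 7))),
      6 ∉ l ∧ xl l (Pi.single 0 1) = Pi.single j a ∧ xl (bar l) (Pi.single 0 1) = Pi.single j (s4 a) := by
  decide +kernel

end Cfsg.Agent.T3.XC
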