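import Mathlib
import Cfsg.Agent.T3.XDefs
import Cfsg.Agent.T3.XCA

/-! Involutions of `2^20 : U₆(2) : 2` outside the normal 2-subgroup, and the elements of order three commuting with them. -/

set_option autoImplicit false
set_option maxRecDepth 100000

namespace Cfsg.Agent.T3

open Cfsg.Agent.Spor Cfsg.Agent.Spor.TT Cfsg.Agent.Spor.FC Subgroup XC

section

variable {X : Type*} [Group X] {θ : PU6 →* X} {A : Subgroup X} {ι : A10 → X}

/-- `i` commutes with an `A`-conjugate of an element of order three of the complement. -/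
def C3 (θ : PU6 →* X) (A : Subgroup X) (i : X) : Prop :=
  ∃ b ∈ A, ∃ y : PU6, orderOf y = 3 ∧ b * θ y * b⁻¹ * i = i * (b * θ y * b⁻¹)

theorem XC.add_self (x : A10) : x + x = 0 := funext fun i => f4_add_self (x i)

theorem XC.xa_mul {n : Fin 7} (hn : n < 5) (u x : A10) : xa n (u * x) = xa n u * xa n x := by
  funext j
  fin_cases n <;> first | exact absurd hn (by decide) | (fin_cases j <;> first | rfl | exact map_mul s4 _ _)

theorem XC.xl_mul {l : List (Fin 7)} (hl : ∀ n ∈ l, n < 5) (u x : A10) : xl l (u * x) = xl l u * xl l x := by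
  induction l with
  | nil => rfl
  | cons n l ih =>
    exact (congrArg (xa n) (ih fun m hm => hl m (List.mem_cons_of_mem _ hm))).trans (xa_mul (hl n List.mem_cons_self) _ _)

theorem XC.ext1 {B : Type*} [AddCommGroup B] {f g : A10 → B} (hf : ∀ x y, f (x + y) = f x + f y)
    (hg : ∀ x y, g (x + y) = g x + g y) (e : ∀ j a, f (Pi.single j a) = g (Pi.single j a)) (y : A10) : f y = g y :=
  DFunLike.congr_fun (AddMonoidHom.functions_ext B (.mk' f hf) (.mk' g hg) e) y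

theorem M20.zero (h : M20 θ A ι) : ι 0 = 1 := mul_left_cancel (a := ι 0) (by rw [← h.add, add_zero, mul_one])

theorem M20.inv (h : M20 θ A ι) (x : A10) : (ι x)⁻¹ = ι x :=
  inv_eq_of_mul_eq_one_right (by rw [← h.add, add_self, h.zero])

theorem M20.cj (h : M20 θ A ι) (g : PU6) :
    M20 (θ.comp (MulAut.conj g).toMonoidHom) A fun x => θ g * ι x * (θ g)⁻¹ := by
  refine ⟨fun x y => by rw [h.add]; group, fun x y e => h.inj ((MulAut.conj (θ g)).injective e), fun a => ⟨fun ha => ?_, ?_⟩,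
    fun _ => h.nrm _, fun n x => ?_⟩
  · obtain ⟨x, hx⟩ := (h.mem _).1 ((mem_normalizer_iff''.1 (h.nrm g) a).1 ha)
    exact ⟨x, by rw [hx]; group⟩
  · rintro ⟨x, rfl⟩
    exact (h.nrm g _).1 ((h.mem _).2 ⟨x, rfl⟩)
  · rw [← h.act]
    simp [mul_assoc]

theorem C3.of_cj {g : PU6} {i : X} (h : C3 (θ.comp (MulAut.conj g).toMonoidHom) A i) : C3 θ A i :=
  let ⟨b, hb, y, h1, h2⟩ := h
  ⟨b, hb, MulAut.conj g y, ((MulAut.conj g).orderOf_eq y).trans h1, h2⟩

section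

variable (h : M20 θ A ι) {k : X} {κ : A10 → A10} (hκ : ∀ x, k * ι x * k⁻¹ = ι (κ x))
include h hκ

theorem M20.kadd (x y : A10) : κ (x + y) = κ x + κ y := h.inj (by rw [← hκ, h.add, h.add, ← hκ, ← hκ]; group)

theorem M20.fixed (k2 : k * k = 1) {x : A10} (i2 : ι x * k * (ι x * k) = 1) : κ x = x := h.inj <| by
  rw [← hκ, ← h.inv x, eq_inv_iff_mul_eq_one, h.inv x, inv_eq_of_mul_eq_one_right k2, ← conj_eq_one_iff (a := ι x), ← i2]
  group

theorem M20.c3 (hm : ∀ u x, κ (u * x) = κ u * κ x) {f : List (Fin 7) → List (Fin 7)} {m : List (Fin 7)}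
    (hf : ∀ l, 6 ∉ l → k * θ (xp l) * k⁻¹ = θ (xp m * xp (f l) * (xp m)⁻¹)) (u : A10) {x w : A10} (hx : κ x = x)
    (hw : (1 + u + κ u) * x = w) (hl : ∃ l, Gd f m l ∧ xl l w = w) : C3 θ A (ι x * k) := by
  obtain ⟨l, ⟨h3, h1, h2, h6⟩, hl⟩ := hl
  have : Fact (Nat.Prime 3) := ⟨by norm_num⟩
  have e1 := hf l h6
  have e2 := h.actl l w
  have e3 : ι x * k = ι (u * x) * (ι w * k) * (ι (u * x))⁻¹ := by
    rw [mul_assoc, mul_assoc, h.inv, eq_mul_inv_iff_mul_eq.1 (hκ (u * x)).symm |>.symm, ← mul_assoc, ← mul_assoc,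
      ← h.add, ← h.add, hm, hx, ← hw]
    congr 2
    linear_combination -add_self (u * x) - add_self (κ u * x)
  rw [← xp_append, xp_eq h2, xp_append, mul_inv_cancel_right, mul_inv_eq_iff_eq_mul] at e1
  rw [hl, mul_inv_eq_iff_eq_mul] at e2
  refine ⟨ι (u * x), (h.mem _).2 ⟨_, rfl⟩, xp l, orderOf_eq_prime ?_ fun e => h1 (h.inj ?_), ?_⟩
  · rw [pow_three', ← xp_append, ← xp_append, xp_eq h3]; rfl
  · rw [← h.actl, e]; simp
  · rw [e3]
    calc _ = ι (u * x) * (θ (xp l) * ι w * k) * (ι (u * x))⁻¹ := by group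
      _ = _ := by rw [e2, mul_assoc (ι w), ← e1]; group

end

theorem M20.c3i (h : M20 θ A ι) {m : List (Fin 7)} (hm : ∀ n ∈ m, n < 5) (h2 : eqv (m ++ m) [] = true) (u : A10)
    {x w : A10} (i2 : ι x * θ (xp m) * (ι x * θ (xp m)) = 1) (hw : xl m x = x → (1 + u + xl m u) * x = w)
    (hl : ∃ l, Gd id m l ∧ xl l w = w) : C3 θ A (ι x * θ (xp m)) :=
  have h1 := h.fixed (h.actl m) (by rw [← map_mul, ← xp_append, xp_eq h2]; exact map_one θ) i2
  h.c3 (h.actl m) (xl_mul hm) (fun l _ => by simp) u h1 (hw h1) hl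

theorem XC.xp0 : xp [0] = ρ0 (dec 5) := by simp [xp, xg, pw, xw]
theorem XC.xp02 : xp [0, 2] = ρ0 (dec 5) * ρ0 (dec 80) := by simp [xp, xg, pw, xw]
theorem XC.xp024 : xp [0, 2, 4] = ρ0 (dec 5) * ρ0 (dec 80) * ρ0 (dec 1280) := by simp [xp, xg, pw, xw, mul_assoc]

theorem XC.pw_eq {l l' : List ℕ} (h : trivU (l ++ l'.reverse) = true) : pw l = pw l' := by
  have h1 := eq_one_of_triv h
  have h2 := pw_mul_reverse (l := l') fun u hu =>
    (allL_iff _ _).1 ((band_iff _ _).1 h).1 u (List.mem_append_right _ (List.mem_reverse.2 hu))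
  rw [evalW_append] at h1
  rw [← one_mul (pw l'), ← h1, mul_assoc]
  exact ((congrArg _ h2).trans (mul_one _)).symm

end

variable {X : Type*} [Group X] [Finite X] {θ : PU6 →* X} {A : Subgroup X} {ι : A10 → X}

set_option linter.unusedSectionVars false

theorem M20.inner (h : M20 θ A ι) {k : PU6} (k2 : k * k = 1) (k1 : k ≠ 1) {a : X} (ha : a ∈ A)
    (i2 : a * θ k * (a * θ k) = 1) : C3 θ A (a * θ k) ∨ IsConj k (xg 0 * xg 2) := by
  rcases bs_tvP.cases k2 with e | e | ⟨p, hp, q, hq, n, c, rfl⟩ | ⟨p, q, r, t, rfl⟩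
  · exact absurd e k1
  · obtain ⟨g, rfl⟩ := fis_tvP.cls.exists_cj cl0.ma e
    obtain ⟨x, rfl⟩ := ((h.cj g).mem a).1 ha
    rw [← xp0] at i2 ⊢
    refine Or.inl ((h.cj g).c3i (m := [0]) (by decide) (by decide +kernel) ![0, 0, 0, 0, om, om, om, om, om, om] i2
      (fun _ => ?_) (tabA (x 0) (x 1) (x 2) (x 3))).of_cj
    rw [show 1 + ![0, 0, 0, 0, om, om, om, om, om, om] + xl [0] ![0, 0, 0, 0, om, om, om, om, om, om] =
      ![1, 1, 1, 1, 0, 0, 0, 0, 0, 0] by decide]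
    funext j
    fin_cases j <;> simp
  · obtain ⟨g, e1, e2⟩ := fis_tvP.exists_cj_pair hp ⟨hq, n.symm, c⟩ cl0.ma ⟨cl0.mb, cl0.ab.symm, cl0.cab⟩
    refine Or.inr (isConj_iff.2 ⟨g, ?_⟩)
    rw [show xg 0 * xg 2 = xp [0, 2] by simp [xp], xp02, ← e1, ← e2, ← cj_mul, TT.cj]
  · obtain ⟨g, e1, e2, e3⟩ := t.exists_std
    have e : p * q * r = MulAut.conj g⁻¹ (xp [0, 2, 4]) := by rw [xp024, ← e1, ← e2, ← e3]; simp [TT.cj, mul_assoc]
    obtain ⟨x, rfl⟩ := ((h.cj g⁻¹).mem a).1 ha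
    rw [e] at i2 ⊢
    refine Or.inl ((h.cj g⁻¹).c3i (m := [0, 2, 4]) (by decide) (by decide +kernel)
      ![1, 0, 1, 0, 1, om, om, om, om, 0] (w := 0) i2 (fun _ => ?_)
      ⟨[3, 4, 2, 3, 1, 2, 0, 1], by decide +kernel, by decide +kernel⟩).of_cj
    rw [show 1 + ![1, 0, 1, 0, 1, om, om, om, om, 0] + xl [0, 2, 4] ![1, 0, 1, 0, 1, om, om, om, om, 0] = 0 by decide,
      zero_mul]

/-- An additive map of `𝔽₄` with kernel `{0, c}`. -/
def XC.fb (c a : F4) : ZMod 2 := if a = 0 ∨ a = c then 0 else 1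

/-- The vectors fixed by the product of two transpositions. -/
def XC.fv (c : Fin 6 → F4) : A10 := ![c 0, c 0, c 1, c 2, c 3, c 4, s4 (c 4), c 5, s4 (c 5), s4 (c 3)]

theorem M20.twoB0 (h : M20 θ A ι) {k : X} (hk : k = θ (xp [0, 2])) {x : A10} (i2 : ι x * k * (ι x * k) = 1)
    {D W : Subgroup X} (hD : D ≤ A ⊓ centralizer {ι x * k}) (hP : ∀ δ ∈ D, ¬ C3 θ A (δ * (ι x * k)))
    (hW : ∀ b ∈ A, b * (ι x * k) * b⁻¹ * (ι x * k)⁻¹ ∈ D → b ∈ W) :
    2 ^ 10 * Nat.card D ≤ Nat.card W ∧ Nat.card D ≤ 2 ^ 10 := by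
  have hκ : ∀ x, k * ι x * k⁻¹ = ι (xl [0, 2] x) := hk ▸ h.actl _
  have hx := h.fixed hκ (by rw [hk, ← map_mul, ← xp_append, xp_eq (l' := []) (by decide +kernel)]; exact map_one θ) i2
  have hm := xl_mul (l := [0, 2]) (by decide)
  obtain ⟨u, hu⟩ : ∃ u : A10, u = ![1, 0, 0, 0, 1, 1, 0, 1, 0, 0] := ⟨_, rfl⟩
  have hr : 1 + u + xl [0, 2] u = ![0, 0, 1, 1, 0, 0, 0, 0, 0, 0] := by rw [hu]; decide
  have h1 : ∀ d, ι d ∈ D → xl [0, 2] d = d := fun d hd => add_left_cancel (a := x) (h.inj (by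
    rw [add_comm x d, h.add, h.add, ← hκ, ← mul_assoc, ← mul_assoc, ← mem_centralizer_singleton_iff.1 (hD hd).2]
    group))
  have h2 : ∀ d, ι d ∈ D → d 2 ≠ x 2 ∧ d 3 ≠ x 3 := fun d hd => by
    have h3 := hP _ hd
    rw [← mul_assoc, ← h.add] at h3
    have h4 := fun w => h.c3 hκ hm (f := id) (m := [0, 2]) (fun l _ => by simp [hk]) u (x := d + x) (w := w)
      (by rw [h.kadd hκ, h1 d hd, hx])
    rw [hr] at h4
    refine ⟨fun e => h3 (h4 ![0, 0, 0, (d + x) 3, 0, 0, 0, 0, 0, 0] ?_ ⟨[5, 4, 3, 2, 1, 0, 5, 1, 2, 3, 4, 0],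
      by decide +kernel, ?_⟩), fun e => h3 (h4 ![0, 0, (d + x) 2, 0, 0, 0, 0, 0, 0, 0] ?_
        ⟨[5, 3, 2, 1, 0, 5, 1, 2, 3, 0], by decide +kernel, ?_⟩)⟩
    · funext j; fin_cases j <;> simp [e, f4_add_self]
    · generalize (d + x) 3 = a; revert a; decide +kernel
    · funext j; fin_cases j <;> simp [e, f4_add_self]
    · generalize (d + x) 2 = a; revert a; decide +kernel
  let D' : AddSubgroup A10 := ⟨⟨⟨{d | ι d ∈ D}, fun ha hb => show ι _ ∈ D from h.add _ _ ▸ mul_mem ha hb⟩,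
    show ι 0 ∈ D from h.zero ▸ one_mem D⟩, fun {d} hd => (neg_eq_of_add_eq_zero_left (add_self d)).symm ▸ hd⟩
  have h3 : Nat.card D' = Nat.card D := Nat.card_eq_of_bijective (fun d => ⟨ι d, d.2⟩)
    ⟨fun a b e => Subtype.ext (h.inj (congrArg Subtype.val e)), fun d =>
      let ⟨a, e⟩ := (h.mem _).1 (hD d.2).1; ⟨⟨a, show ι a ∈ D from e ▸ d.2⟩, Subtype.ext e⟩⟩
  have h4 : ∀ c : F4, 0 ≠ c → ∀ a b, fb c (a + b) = fb c a + fb c b := by decide
  have h5 := h2 0 D'.zero_mem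
  let ψ : D' →+ ZMod 2 × ZMod 2 := AddMonoidHom.mk' (fun d => (fb (x 2) (d.1 2), fb (x 3) (d.1 3))) fun a b =>
    Prod.ext (h4 _ h5.1 _ _) (h4 _ h5.2 _ _)
  have h6 : Nat.card D' ≤ Nat.card ψ.ker * 4 := by
    rw [← ψ.ker.card_mul_index, AddSubgroup.index_ker]
    exact Nat.mul_le_mul_left _ ((AddSubgroup.card_le_card_addGroup _).trans (by simp))
  have h7 : ∀ d : ψ.ker, u * d + xl [0, 2] (u * d) = d := fun d => by
    have k1 : ∀ c a : F4, fb c a = 0 → a ≠ c → a = 0 := by decide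
    have k2 := k1 _ _ (congrArg Prod.fst d.2) (h2 _ d.1.2).1
    have k3 := k1 _ _ (congrArg Prod.snd d.2) (h2 _ d.1.2).2
    have k4 : (1 + u + xl [0, 2] u) * d.1.1 = 0 := by rw [hr]; funext j; fin_cases j <;> simp [k2, k3]
    rw [hm, h1 _ d.1.2]
    linear_combination k4 - add_self d.1.1
  have h8 : Nat.card ψ.ker ≤ 4 ^ 4 := (Nat.card_le_card_of_injective
    (fun d : ψ.ker => (d.1.1 0, d.1.1 4, d.1.1 5, d.1.1 7)) fun a b e => Subtype.ext (Subtype.ext (by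
      simp only [Prod.mk.injEq] at e
      rw [← h7 a, ← h7 b, show u * a.1.1 = u * b.1.1 by rw [hu]; funext j; fin_cases j <;> simp [e]]))).trans
    (by simp [Cl.card_GF4])
  have h9 : ∀ (c) (d : ψ.ker), u * d + fv c + xl [0, 2] (u * d + fv c) = d := fun c d => by
    rw [h.kadd hκ, show xl [0, 2] (fv c) = fv c by funext j; fin_cases j <;> first | rfl | exact s4_s4 _]
    linear_combination h7 d + add_self (fv c)
  have h10 := Nat.card_le_card_of_injective (fun c : (Fin 6 → F4) × ψ.ker => (⟨ι (u * c.2 + fv c.1),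
    hW _ ((h.mem _).2 ⟨_, rfl⟩) (by
      have := c.2.1.2
      rw [← h9 c.1 c.2] at this
      generalize u * c.2.1.1 + fv c.1 = z at this
      rw [show ι z * (ι x * k) * (ι z)⁻¹ * (ι x * k)⁻¹ = ι z * ι x * (k * (ι z)⁻¹ * k⁻¹) * (ι x)⁻¹ by group, h.inv,
        h.inv, hκ, ← h.add, ← h.add, ← h.add,
        show z + x + xl [0, 2] z + x = z + xl [0, 2] z by linear_combination add_self x]
      exact this)⟩ : W)) fun a b e => by
    have k1 := h.inj (congrArg Subtype.val e)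
    have k2 : a.2 = b.2 := Subtype.ext (Subtype.ext (by rw [← h9 a.1 a.2, ← h9 b.1 b.2, k1]))
    rw [k2, add_right_inj] at k1
    refine Prod.ext (funext fun j => ?_) k2
    fin_cases j
    exacts [congrFun k1 0, congrFun k1 2, congrFun k1 3, congrFun k1 4, congrFun k1 5, congrFun k1 7]
  rw [Nat.card_prod, Nat.card_fun, Cl.natCard_GF4, Nat.card_eq_fintype_card, Fintype.card_fin] at h10
  omega

theorem M20.twoB (h : M20 θ A ι) {k : PU6} (hk : IsConj k (xg 0 * xg 2)) {a : X} (ha : a ∈ A)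
    (i2 : a * θ k * (a * θ k) = 1) {D W : Subgroup X} (hD : D ≤ A ⊓ centralizer {a * θ k})
    (hP : ∀ δ ∈ D, ¬ C3 θ A (δ * (a * θ k))) (hW : ∀ b ∈ A, b * (a * θ k) * b⁻¹ * (a * θ k)⁻¹ ∈ D → b ∈ W) :
    2 ^ 10 * Nat.card D ≤ Nat.card W ∧ Nat.card D ≤ 2 ^ 10 := by
  obtain ⟨g, rfl⟩ := isConj_iff.1 hk.symm
  obtain ⟨x, rfl⟩ := ((h.cj g).mem a).1 ha
  exact (h.cj g).twoB0 (by simp [xp]) i2 hD (fun δ hδ e => hP δ hδ e.of_cj) hW

omit [Finite X] in
/-- An element inducing the field automorphism acts by conjugating the coordinates. -/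
theorem M20.semi (h : M20 θ A ι) {s : X} (hs : s ∈ normalizer (A : Set X))
    (e : ∀ l, 6 ∉ l → s * θ (xp l) * s⁻¹ = θ (xp (bar l))) (x : A10) : s * ι x * s⁻¹ = ι (cv x) := by
  choose σ hσ using fun x => (h.mem _).1 ((hs _).1 ((h.mem _).2 ⟨x, rfl⟩))
  have h1 : ∀ l, 6 ∉ l → ∀ x, σ (xl l x) = xl (bar l) (σ x) := fun l hl x => h.inj (by
    rw [hσ, ← h.actl, ← h.actl, hσ, ← e l hl]; group)
  have h2 : σ (Pi.single 0 1) = Pi.single 0 1 := by
    have k1 := h1 [5, 1, 0, 5, 1, 0] (by decide) (Pi.single 0 1)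
    have k2 := h1 [2, 3, 4, 1, 2, 3, 0, 1, 2] (by decide) (Pi.single 0 1)
    have k3 : σ (Pi.single 0 1) ≠ 0 := fun e => absurd (h.inj ((conj_eq_one_iff.1
      ((hσ _).symm.trans ((congrArg ι e).trans h.zero))).trans h.zero.symm)) (by decide)
    rw [show xl _ (Pi.single 0 1) = Pi.single 0 1 by decide +kernel] at k1 k2
    generalize σ (Pi.single 0 1) = y at k1 k2 k3
    rw [ext1 (h.kadd (h.actl _)) (mul_add (xl (bar [5, 1, 0, 5, 1, 0]) 1)) (by decide +kernel)] at k1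
    have k4 : ∀ j, j ≠ 0 → y j = 0 := fun j hj =>
      (by decide +kernel : ∀ j : Fin 10, j ≠ 0 → ∀ a : F4, a = xl (bar [5, 1, 0, 5, 1, 0]) 1 j * a → a = 0) j hj _
        (congrFun k1 j)
    have k5 := (congrFun k2 0).trans (ext1 (f := fun y => xl _ y 0) (g := fun y => s4 (y 0))
      (fun a b => congrFun (h.kadd (h.actl _) a b) 0) (fun a b => map_add s4 _ _) (by decide +kernel) y)
    refine funext fun j => ?_
    by_cases hj : j = 0
    · subst hj
      exact (f4_fixed _ k5.symm).resolve_left fun e => k3 (funext fun j => by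
        by_cases hj : j = 0
        exacts [hj ▸ e, k4 j hj])
    · rw [k4 j hj, Pi.single_eq_of_ne hj]
  refine (hσ x).symm.trans (congrArg ι (ext1 (h.kadd fun x => (hσ x).symm) (fun a b => funext fun j => map_add s4 _ _)
    (fun j a => ?_) x))
  rcases tabE j a with rfl | ⟨l, -, k1, k2, k3⟩
  · rw [Pi.single_zero]
    exact h.inj (by rw [hσ, show cv (0 : A10) = 0 by decide, h.zero]; simp)
  · rw [← k2, h1 l k1, h2, k3, k2]
    exact (by decide +kernel : ∀ (j : Fin 10) (a : F4), Pi.single j (s4 a) = cv (Pi.single j a : A10)) j a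

theorem M20.outer (h : M20 θ A ι) {k : X} (hk : k ∈ normalizer (A : Set X)) (k2 : k * k = 1) {m : PU6}
    (hm : m ∈ [1, xg 0, xg 0 * xg 2, xg 0 * xg 2 * xg 4])
    (e : ∀ v, Iso v → k * θ (ρ0 v) * k⁻¹ = θ (m * ρ0 (cv v) * m⁻¹)) {a : X} (ha : a ∈ A) (i2 : a * k * (a * k) = 1) :
    C3 θ A (a * k) := by
  obtain ⟨x, rfl⟩ := (h.mem a).1 ha
  have e1 : ∀ l, 6 ∉ l → k * θ (xp l) * k⁻¹ = θ (m * xp (bar l) * m⁻¹) := fun l hl => by
    induction l with
    | nil => simp [xp, bar]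
    | cons n l ih =>
      obtain ⟨u, -, v, -, k1, k3, k4, k5⟩ := (by decide +kernel : ∀ n : Fin 7, 6 ≠ n → ∃ u ∈ [5, 20, 80, 320, 1280, 9],
        ∃ v ∈ [5, 20, 80, 320, 1280, 13], xw n = [u] ∧ iso u = true ∧ cv (dec u) = dec v ∧
          trivU ([v] ++ (xf (bar [n])).reverse) = true) n (List.ne_of_not_mem_cons hl)
      have k6 := e _ (iso_iff.1 k3).2
      rw [k4, show ρ0 (dec v) = xp (bar [n]) by rw [xp_eq_pw, ← pw_eq k5]; simp [pw]] at k6
      rw [show bar (n :: l) = bar [n] ++ bar l by simp [bar], xp_append,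
        show xp (n :: l) = ρ0 (dec u) * xp l by simp [xp, xg, k1, pw], map_mul, ← conj_mul, ← conj_mul, k6,
        ih (List.not_mem_of_not_mem_cons hl), ← map_mul]
  have key : ∀ {mw : List (Fin 7)}, m = xp mw → (∀ n ∈ mw, n < 5) → ∀ (u : A10) {w : A10},
      (1 + u + xl mw (cv u)) * x = w → (∃ l, Gd bar mw l ∧ xl l w = w) → C3 θ A (ι x * k) := fun {mw} e2 h5 u w => by
    subst e2
    have hκ : ∀ x, k * ι x * k⁻¹ = ι (xl mw (cv x)) := fun x => by
      rw [← h.actl, ← h.semi (mul_mem (inv_mem (h.nrm (xp mw))) hk) fun l hl => by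
        rw [mul_assoc _ k, mul_inv_rev, ← mul_assoc, mul_assoc _ _ k⁻¹, e1 l hl]; simp [mul_assoc]]
      group
    exact h.c3 hκ (fun u x => by rw [← xl_mul h5]; exact congrArg _ (funext fun j => map_mul s4 _ _)) e1 u
      (h.fixed hκ k2 i2)
  simp only [List.mem_cons, List.not_mem_nil, or_false] at hm
  rcases hm with hm | hm | hm | hm
  · exact key (mw := []) hm (by decide) (fun _ => om) (w := 0) (by rw [show _ + xl _ _ = 0 by decide, zero_mul])
      ⟨[1, 0], by decide +kernel, by decide +kernel⟩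
  · exact key (mw := [0]) (by simp [hm, xp]) (by decide) ![om, om, om, om, 1, 1, 1, 0, 0, 0] (w := 0)
      (by rw [show _ + xl _ _ = 0 by decide, zero_mul]) ⟨[5, 0], by decide +kernel, by decide +kernel⟩
  · exact key (mw := [0, 2]) (by simp [hm, xp]) (by decide) ![om, om, om, om, 1, 1, 0, 1, 0, 0] (w := 0)
      (by rw [show _ + xl _ _ = 0 by decide, zero_mul]) ⟨[5, 0], by decide +kernel, by decide +kernel⟩
  · refine key (mw := [0, 2, 4]) (by simp [hm, xp, mul_assoc]) (by decide) ![om, om, om, om, 1, 0, 0, 0, 0, 0] ?_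
      (tabB (x 5) (x 6) (x 7) (x 8))
    rw [show _ + xl _ _ = ![0, 0, 0, 0, 0, 1, 1, 1, 1, 0] by decide]
    funext j
    fin_cases j <;> simp

end Cfsg.Agent.T3
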