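import Mathlib
import Cfsg.Agent.T3.LocB2

/-! Elements acting as involutions on an extraspecial group of order `3^5`; a lemma on `2^(1+4)`. -/

set_option autoImplicit false
set_option linter.unusedSectionVars false

namespace Cfsg.Agent.T3.LC

open Cfsg.Agent.Spor Cfsg.Agent.Rec Cfsg.Agent.Inv.Fz Cfsg.Agent.T16 Cfsg.Agent.GT.PG Cfsg.Agent.T3.LB Subgroup
open scoped commutatorElement

universe u

variable {G : Type u} [Group G] [Finite G]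

theorem s_twelve : ∀ m : S3, m ^ 12 = 1 := by decide +kernel

theorem fix_conj {p : ℕ} [Fact p.Prime] {P : Subgroup G} (hP : IsPGroup p P) {I : Set G}
    (hi : ∀ g ∈ P, ∀ y ∈ I, g * y * g⁻¹ ∈ I) (hn : ¬ p ∣ I.ncard) : ∃ y ∈ I, ∀ g ∈ P, g * y = y * g := by
  let _ : MulAction P I :=
    { smul := fun g y => ⟨g * y * (g : G)⁻¹, hi g g.2 y y.2⟩
      one_smul := fun y => Subtype.ext (show ((1 : P) : G) * y * ((1 : P) : G)⁻¹ = y by simp)
      mul_smul := fun g k y => Subtype.ext (show ((g * k : P) : G) * y * ((g * k : P) : G)⁻¹ =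
        g * (k * y * (k : G)⁻¹) * (g : G)⁻¹ by push_cast; group) }
  obtain ⟨y, hy⟩ := hP.nonempty_fixed_point_of_prime_not_dvd_card I hn
  exact ⟨y, y.2, fun g hg => mul_inv_eq_iff_eq_mul.1 (congrArg Subtype.val (hy ⟨g, hg⟩))⟩

theorem fix_inv {O : Subgroup G} (hO : Odd (Nat.card O)) {t : G} (ht : t * t ∈ centralizer (O : Set G))
    (hn : t ∈ normalizer (O : Set G)) {x : G} (hx : x ∈ O) :
    ∃ k ∈ O, ∃ j ∈ O, k * t = t * k ∧ t * j * t⁻¹ = j⁻¹ ∧ x = k * j := by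
  have hs : x⁻¹ * (t * x * t⁻¹) ∈ O := O.mul_mem (O.inv_mem hx) (conj_mem_of_mem_norm hn hx)
  set s := x⁻¹ * (t * x * t⁻¹) with hs'
  have h1 : t * s * t⁻¹ = s⁻¹ := by
    calc _ = t * x⁻¹ * t⁻¹ * ((t * t) * x * (t * t)⁻¹) := by rw [hs']; group
      _ = _ := by rw [← ht x hx, hs']; group
  obtain ⟨m, hm⟩ := hO
  have h2 : s ^ (2 * m + 1) = 1 := by
    rw [← hm]; exact congrArg Subtype.val (pow_card_eq_one' (x := (⟨s, hs⟩ : O)))
  have h3 : t * s ^ m * t⁻¹ = (s ^ m)⁻¹ := by rw [← conj_pow, h1, inv_pow]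
  refine ⟨x * (s ^ m)⁻¹, O.mul_mem hx (O.inv_mem (O.pow_mem hs m)), s ^ m, O.pow_mem hs m, ?_, h3, by group⟩
  have h5 : s * s ^ m = (s ^ m)⁻¹ := by
    rw [eq_inv_iff_mul_eq_one, ← h2]; group
  refine (mul_inv_eq_iff_eq_mul.1 ?_).symm
  calc _ = x * (x⁻¹ * (t * x * t⁻¹)) * (t * s ^ m * t⁻¹)⁻¹ := by group
    _ = _ := by rw [← hs', h3, inv_inv, mul_assoc, h5]

section act

variable {Q P P1 P2 : Subgroup G} {a g k t u : G}

theorem inv_pair (h : ESZ 3 Q a) (t2 : t * t ∈ centralizer (Q : Set G)) (ta : t * a = a * t)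
    (tn : t ∈ normalizer (Q : Set G)) (tc : ¬ ∀ q ∈ Q, t * q = q * t) :
    ∃ x ∈ Q, ∃ y ∈ Q, ⁅x, y⁆ = a ∧ t * x * t⁻¹ = x⁻¹ ∧ t * y * t⁻¹ = y⁻¹ := by
  push Not at tc
  obtain ⟨q, hq, hne⟩ := tc
  obtain ⟨k, hk, x, hx, tk, tx, rfl⟩ := fix_inv (odd_card_of_esz h) t2 tn hq
  have xz : x ∉ zpowers a := fun hz =>
    hne (by rw [eq_one_of_sq h hz (tx.symm.trans (conj_z ta hz)), mul_one, tk])
  obtain ⟨y0, hy0, e⟩ := h.exists_commutator_eq hx xz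
  obtain ⟨k', hk', y, hy, tk', ty, rfl⟩ := fix_inv (odd_card_of_esz h) t2 tn hy0
  refine ⟨x, hx, y, hy, comm_of_om h hx hy ?_, tx, ty⟩
  have := om_one h e
  rwa [om_mul_right h hx hk' hy, om_swap h hk' hx, om_fix_inv h ta hk' hx tk' tx, neg_zero, zero_add] at this

theorem dich (h : ESZ 3 P a) (hc : Nat.card P = 27) (t2 : t * t ∈ centralizer (P : Set G)) (ta : t * a = a * t)
    (tn : t ∈ normalizer (P : Set G)) : (∀ v ∈ P, t * v = v * t) ∨ ∀ u ∈ P, Iz a t u := or_iff_not_imp_left.2 fun tc => by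
  obtain ⟨x, hx, y, hy, xy, tx, ty⟩ := inv_pair h t2 ta tn tc
  exact fun u hu => P27.iz ⟨h, hc, hx, hy, xy⟩ ta tx ty hu

/-- `t` inverts `P₁ / ⟨a⟩` and centralises `P₂`. -/
structure Ty (Q : Subgroup G) (a t : G) (P1 P2 : Subgroup G) : Prop where
  sp : Sp2 Q P1 P2 a
  iz : ∀ u ∈ P1, Iz a t u
  cen : ∀ v ∈ P2, t * v = v * t

/-- `t` acts as `±1` on `Q / ⟨a⟩`. -/
def Pm (Q : Subgroup G) (a t : G) : Prop := t ∈ Q ⊔ centralizer (Q : Set G) ∨ ∀ q ∈ Q, Iz a t q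

theorem types (h : ESZ 3 Q a) (hc : Nat.card Q = 243) (t2 : t * t ∈ centralizer (Q : Set G)) (ta : t * a = a * t)
    (tn : t ∈ normalizer (Q : Set G)) (hp : ¬ Pm Q a t) : ∃ P1 P2, Ty Q a t P1 P2 := by
  obtain ⟨x, hx, y, hy, xy, tx, ty⟩ := inv_pair h t2 ta tn fun e => hp (.inl (mem_sup_right fun q hq => (e q hq).symm))
  obtain ⟨P1, P2, s, x1, y1⟩ := exists_sp2 h hc hx hy xy
  have p1 : P27 P1 a x y := ⟨s.es1, s.c1, x1, y1, xy⟩
  have n2 := s.norm2 tn (p1.norm ta (tx ▸ inv_mem x1) (ty ▸ inv_mem y1))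
  rcases dich s.es2 s.c2 (centralizer_le s.le2 t2) ta n2 with e | e
  · exact ⟨P1, P2, s, fun u hu => p1.iz ta tx ty hu, e⟩
  · exact absurd (.inr fun q hq => s.iz_all (fun v hv => conj_mem_of_mem_norm n2 hv) (fun u hu => p1.iz ta tx ty hu) e hq) hp

theorem tr_mul (hg : g * a = a * g) (h1 : g * u * g⁻¹ * u⁻¹ ∈ zpowers a) (h2 : k * u * k⁻¹ * u⁻¹ ∈ zpowers a) :
    g * k * u * (g * k)⁻¹ * u⁻¹ ∈ zpowers a := by
  rw [show g * k * u * (g * k)⁻¹ * u⁻¹ = g * (k * u * k⁻¹ * u⁻¹) * g⁻¹ * (g * u * g⁻¹ * u⁻¹) by group, conj_z hg h2]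
  exact mul_mem h2 h1

theorem iz_iz (hg : g * a = a * g) (hu : u * a = a * u) (h1 : Iz a g u) (h2 : Iz a k u) :
    g * k * u * (g * k)⁻¹ * u⁻¹ ∈ zpowers a := by
  rw [show g * k * u * (g * k)⁻¹ * u⁻¹ = g * (k * u * k⁻¹ * u) * g⁻¹ * (u * (g * u * g⁻¹ * u)⁻¹ * u⁻¹) by group,
    conj_z hg h2, conj_z hu (inv_mem h1)]
  exact mul_mem h2 (inv_mem h1)

theorem iz_inv (hg : g * a = a * g) (hu : u * a = a * u) (h : Iz a g u) : Iz a g⁻¹ u := by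
  have h1 : (g * u)⁻¹ * a = a * (g * u)⁻¹ := ((Commute.mul_left hg hu).inv_left :).eq
  rw [Iz, show g⁻¹ * u * g⁻¹⁻¹ * u = (g * u)⁻¹ * (g * u * g⁻¹ * u) * (g * u)⁻¹⁻¹ by group, conj_z h1 h]
  exact h

theorem mem_z (h : ESZ 3 Q a) (hu : u ∈ Q) (h1 : g * u * g⁻¹ * u⁻¹ ∈ zpowers a) (h2 : Iz a g u) : u ∈ zpowers a := by
  simpa [pow_three, mul_assoc] using mul_mem (h.pow_mem u hu) (inv_mem (mul_mem (inv_mem h1) h2))

theorem norm_cen (hg : g ∈ normalizer (Q : Set G)) : g ∈ normalizer (centralizer (Q : Set G) : Set G) :=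
  cj_eq_iff.1 (by rw [cj_centralizer, cj_eq_iff.2 hg])

theorem W_triv (h : ESZ 3 Q a) (hg : g ∈ Q ⊔ centralizer (Q : Set G)) (hu : u ∈ Q) : g * u * g⁻¹ * u⁻¹ ∈ zpowers a := by
  obtain ⟨q, hq, c, hc, rfl⟩ := (mem_sup_iff_of_le_normalizer fun x hx => norm_cen (le_normalizer hx)).1 hg
  rw [show q * c * u * (q * c)⁻¹ * u⁻¹ = q * (c * u) * c⁻¹ * q⁻¹ * u⁻¹ by group, ← hc u hu]
  simpa [commutatorElement_def, mul_assoc] using h.comm_mem q hq u hu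

theorem W_of (h : ESZ 3 Q a) (s : Sp2 Q P1 P2 a) (hg : g * a = a * g) (h1 : ∀ u ∈ P1, g * u * g⁻¹ * u⁻¹ ∈ zpowers a)
    (h2 : ∀ u ∈ P2, g * u * g⁻¹ * u⁻¹ ∈ zpowers a) : g ∈ Q ⊔ centralizer (Q : Set G) :=
  h.mem_sup_centralizer hg fun q hq => by
    obtain ⟨u, hu, v, hv, rfl⟩ := s.dec q hq
    rw [commutatorElement_def, show g * (u * v) * g⁻¹ * (u * v)⁻¹ =
      g * u * g⁻¹ * u⁻¹ * (u * (g * v * g⁻¹ * v⁻¹) * u⁻¹) by group, conj_z (s.es1.commute_z hu).eq (h2 v hv)]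
    exact mul_mem (h1 u hu) (h2 v hv)

theorem Ty.norm (y : Ty Q a t P1 P2) (h : ESZ 3 Q a) (tn : t ∈ normalizer (Q : Set G)) (hg : g * a = a * g)
    (gn : g ∈ normalizer (Q : Set G)) (hw : g * t * g⁻¹ * t⁻¹ ∈ Q ⊔ centralizer (Q : Set G)) :
    g ∈ normalizer (P1 : Set G) := mem_normalizer_of_conj_mem fun u hu => by
  have h1 := conj_mem_of_mem_norm gn (y.sp.le1 hu)
  refine y.sp.mem_iff y.iz y.cen h1 ?_
  have h2 := mul_mem (inv_mem (W_triv h hw (conj_mem_of_mem_norm tn h1))) ((iz_conj hg).2 (y.iz u hu))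
  rw [Iz]
  convert h2 using 1
  group

theorem twelve (h : ESZ 3 Q a) (s : Sp2 Q P1 P2 a) (hg : g * a = a * g) (gn : g ∈ normalizer (Q : Set G))
    (h1 : g ∈ normalizer (P1 : Set G)) : g ^ 12 ∈ Q ⊔ centralizer (Q : Set G) := by
  have k : ∀ P : Subgroup G, ESZ 3 P a → Nat.card P = 27 → g ∈ normalizer (P : Set G) →
      ∀ u ∈ P, g ^ 12 * u * (g ^ 12)⁻¹ * u⁻¹ ∈ zpowers a := fun P e c n => by
    obtain ⟨x, hx, y, hy, xy⟩ := e.exists_pair fun e' => by have := e.eq_zpowers_iff_card.1 e'; omega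
    obtain ⟨ψ, -, ker⟩ := P27.exists_psi ⟨e, c, hx, hy, xy⟩ (zpowers_le.2 (mem_cen.2 hg)) (zpowers_le.2 n)
    exact ker (⟨g, mem_zpowers g⟩ ^ 12) (by rw [map_pow, s_twelve])
  exact W_of h s (Commute.pow_left hg 12).eq (k _ s.es1 s.c1 h1) (k _ s.es2 s.c2 (s.norm2 gn h1))

/-- Two commuting involutions of `Sp₄(3)`. -/
theorem four (h : ESZ 3 Q a) (hc : Nat.card Q = 243) {i j : G} (i2 : i * i ∈ centralizer (Q : Set G))
    (j2 : j * j ∈ centralizer (Q : Set G)) (ia : i * a = a * i) (ja : j * a = a * j) (ni : i ∈ normalizer (Q : Set G))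
    (nj : j ∈ normalizer (Q : Set G)) (hw : j * i * j⁻¹ * i⁻¹ ∈ Q ⊔ centralizer (Q : Set G)) :
    Pm Q a i ∨ Pm Q a j ∨ Pm Q a (i * j) := or_iff_not_imp_left.2 fun hi => by
  obtain ⟨P1, P2, y⟩ := types h hc i2 ia ni hi
  have s := y.sp
  have n1 := y.norm h ni ja nj hw
  have n2 := s.norm2 nj n1
  have e2 : ∀ v ∈ P2, i * j * v * (i * j)⁻¹ = j * v * j⁻¹ := fun v hv => by
    rw [← mul_inv_cancel_right (j * v * j⁻¹) i, ← y.cen _ (conj_mem_of_mem_norm n2 hv)]; group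
  rcases dich s.es1 s.c1 (centralizer_le s.le1 j2) ja n1 with h1 | h1 <;>
    rcases dich s.es2 s.c2 (centralizer_le s.le2 j2) ja n2 with h2 | h2
  · exact .inl (.inl (W_of h s ja (fun u hu => by simp [h1 u hu]) fun u hu => by simp [h2 u hu]))
  · refine .inr (.inr fun q hq => s.iz_all (fun v hv => e2 v hv ▸ conj_mem_of_mem_norm n2 hv) (fun u hu => ?_)
      (fun v hv => by rw [Iz, e2 v hv]; exact h2 v hv) hq)
    rw [Iz, mul_assoc i, h1 u hu]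
    simpa [Iz, mul_assoc] using y.iz u hu
  · exact .inr (.inl (W_of h s (Commute.mul_left ia ja).eq (fun u hu => iz_iz ia (s.es1.commute_z hu).eq (y.iz u hu) (h1 u hu))
      fun v hv => by rw [e2 v hv]; simp [h2 v hv]))
  · exact .inl (.inr fun q hq => s.iz_all (fun v hv => conj_mem_of_mem_norm n2 hv) h1 h2 hq)

theorem Pm.cj (p : Pm Q a t) (hg : g * a = a * g) (gn : g ∈ normalizer (Q : Set G)) : Pm Q a (g * t * g⁻¹) := by
  refine p.imp (conj_mem_of_mem_norm (cj_eq_iff.1 ?_)) fun p q hq => ?_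
  · rw [cj_sup, cj_eq_iff.2 gn, cj_eq_iff.2 (norm_cen gn)]
  · simpa [mul_assoc] using (iz_conj hg).2 (p _ (conj_mem_of_mem_norm (inv_mem gn) hq))

theorem W_iz (h : ESZ 3 Q a) (ha : g * a = a * g) (hk : k * a = a * k) (h1 : ∀ q ∈ Q, Iz a g q) (h2 : ∀ q ∈ Q, Iz a k q) :
    g * k⁻¹ ∈ Q ⊔ centralizer (Q : Set G) := h.mem_sup_centralizer (Commute.mul_left ha (Commute.inv_left hk)) fun q hq =>
  iz_iz ha (h.commute_z hq).eq (h1 q hq) (iz_inv hk (h.commute_z hq).eq (h2 q hq))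

theorem Pm.comm (p : Pm Q a t) (h : ESZ 3 Q a) (ta : t * a = a * t) (hg : g * a = a * g) (gn : g ∈ normalizer (Q : Set G)) :
    g * t * g⁻¹ * t⁻¹ ∈ Q ⊔ centralizer (Q : Set G) := by
  rcases p with p | p
  · exact mul_mem (conj_mem_of_mem_norm (cj_eq_iff.1 (by rw [cj_sup, cj_eq_iff.2 gn, cj_eq_iff.2 (norm_cen gn)])) p)
      (inv_mem p)
  · exact W_iz h ((Commute.mul_left hg ta).mul_left (Commute.inv_left hg)).eq ta (fun q hq => by
      simpa [mul_assoc] using (iz_conj hg).2 (p _ (conj_mem_of_mem_norm (inv_mem gn) hq))) p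

theorem cen_of_four (h : ESZ 3 Q a) (r4 : g ^ 4 = 1) (hg : g * a = a * g) (hw : g ∈ Q ⊔ centralizer (Q : Set G)) :
    g ∈ centralizer (Q : Set G) := fun _ hq => (comm_of_four h r4 hg (W_triv h hw hq)).symm

end act

/-- Squares and a subgroup of index at most two of an extraspecial group of order 32. -/
theorem sq_mem {E D : Subgroup G} {z x : G} (h : ES2 E z) (hc : Nat.card E = 32) (hD : D ≤ E) (hz : z ∈ D)
    (h2 : ∀ e ∈ E, ∀ e' ∈ E, e ∉ D → e' ∉ D → e * e'⁻¹ ∈ D) (nE : x ∈ normalizer (E : Set G))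
    (nD : x ∈ normalizer (D : Set G)) (hx : x * x ∈ E) : x * x ∈ D := by
  by_contra hn
  have h3 : D.relIndex E = 2 := relIndex_two (inv_mem hx) fun g hg => by
    by_cases e : g ∈ D
    exacts [.inl ⟨e, fun e' => hn (inv_mem_iff.1 ((mul_mem_cancel_left e).1 e'))⟩, .inr ⟨h2 g hg _ hx e hn, e⟩]
  have h4 := card_mul_relIndex hD
  have mz : ∀ {y : G}, y ∈ zpowers z ↔ y = 1 ∨ y = z := mem_zpowers_iff_of_sq h.z_sq
  obtain ⟨w, hw, wz⟩ : ∃ w ∈ D ⊓ centralizer (D : Set G), w ∉ zpowers z := by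
    by_contra e
    push Not at e
    obtain ⟨n, e1⟩ := ESZ.exists_card_eq (p := 2) ⟨h.orderOf_z, fun a ha b hb => mz.2 ((h.comm a (hD ha) b (hD hb)).imp
      commutatorElement_eq_one_iff_mul_comm.2 fun e => by rw [commutatorElement_def, e]; group),
      fun a ha => mz.2 (pow_two a ▸ h.sq a (hD ha)), le_antisymm e (zpowers_le.2 ⟨hz, fun a ha => (h.z_comm a (hD ha)).symm⟩)⟩
    have e2 : 2 ^ 4 = 2 ^ (2 * n + 1) := by rw [← e1]; rw [h3, hc] at h4; omega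
    have := Nat.pow_right_injective le_rfl e2
    omega
  have k : ∀ y ∈ D ⊓ centralizer (D : Set G), y * (x * x) = x * x * y → y ∈ zpowers z := fun y hy e =>
    mz.2 (h.center y (hD hy.1) fun q hq => by
      by_cases e' : q ∈ D
      · exact (hy.2 q e').symm
      · rw [← inv_mul_cancel_right q (x * x), ← mul_assoc y, ← hy.2 _ (h2 q hq _ hx e' hn), mul_assoc _ y, e]; group)
  have nz := h.conj_z_of_norm nE
  have h5 : x * w * x⁻¹ ∈ D ⊓ centralizer (D : Set G) := ⟨conj_mem_of_mem_norm nD hw.1, conj_mem_of_mem_norm (norm_cen nD) hw.2⟩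
  have h6 := k _ (mul_mem h5 (inv_mem hw)) (h.aes.comm_mul_of_ne (hD h5.1) (inv_mem (hD hw.1)) hx
    (fun e => wz (conj_mem_cj.1 (by rw [cj_zpowers, nz]; exact k _ h5 e))) fun e => wz (inv_mem_iff.1 (k _ (inv_mem hw) e)))
  refine wz (k w hw ?_)
  have h7 : x * (x * w * x⁻¹ * w⁻¹) * x⁻¹ * (x * w * x⁻¹ * w⁻¹) = 1 := by
    rcases mz.1 h6 with e | e <;> rw [e]
    exacts [by group, by rw [nz, h.z_sq]]
  calc _ = x * (x * w * x⁻¹ * w⁻¹) * x⁻¹ * (x * w * x⁻¹ * w⁻¹) * (w * (x * x)) := by rw [h7, one_mul]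
    _ = _ := by group

end Cfsg.Agent.T3.LC
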