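import Mathlib
import Cfsg.Agent.T3.LocC1

/-! The centraliser `3^(1+4) . 2^(1+4) . A₅`: it acts faithfully, and the ten non-central involutions of `2^(1+4)`. -/

set_option autoImplicit false
set_option linter.unusedSectionVars false

namespace Cfsg.Agent.T3.LC

open Cfsg.Agent.Spor Cfsg.Agent.Rec Cfsg.Agent.Inv.Fz Cfsg.Agent.T16 Cfsg.Agent.GT.PG Cfsg.Agent.T3.LB Subgroup
open scoped commutatorElement

universe u

variable {G : Type u} [Group G] [Finite G]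

/-- What is used about `C(a) = Q . E . A₅`. -/
structure Cs (a : G) (E : Subgroup G) (z : G) : Prop where
  es : ESZ 3 (Q3 a) a
  card : Nat.card (Q3 a) = 243
  e2 : ES2 E z
  cE : Nat.card E = 32
  le : E ≤ centralizer {a}
  nrm : centralizer {a} ≤ normalizer ((E ⊔ Q3 a : Subgroup G) : Set G)
  idx : (Q3 a).relIndex (centralizer {a}) = 1920
  five : ∃ h, h * a = a * h ∧ ∀ q ∈ Q3 a, (q * h) ^ 24 ∉ E ⊔ Q3 a
  cen : ∀ x, x * a = a * x → (∀ g, g * a = a * g → g * x * g⁻¹ * x⁻¹ ∈ E ⊔ Q3 a) → x ∈ E ⊔ Q3 a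
  two : ∀ x, x * a = a * x → (∃ k : ℕ, x ^ 2 ^ k = 1) → x * x ∈ E ⊔ Q3 a
  inv : ∀ r, r * a = a * r → r * r = 1 → r ∉ E ⊔ Q3 a →
    ∃ g : G, (r * (g * r * g⁻¹)) ^ 2 ≠ 1 ∧ (r * (g * r * g⁻¹)) ^ 3 ≠ 1
  X_le : centralizer (Q3 a : Set G) ≤ E ⊔ Q3 a

namespace Cs

variable {a z : G} {E : Subgroup G} (c : Cs a E z)
include c

theorem ea {e : G} (he : e ∈ E) : e * a = a * e := mem_cen.1 (c.le he)

theorem W_le : Q3 a ⊔ centralizer (Q3 a : Set G) ≤ E ⊔ Q3 a := sup_le le_sup_right c.X_le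

theorem one {e : G} (he : e ∈ E) (hq : e ∈ Q3 a) : e = 1 :=
  (pow_eq_one_iff_of_coprime (by norm_num)).1 ⟨c.e2.aes.pow_four he, c.es.pow_sq_eq_one hq⟩

theorem QC : Q3 a ≤ centralizer {a} := fun _ hq => mem_cen.2 (c.es.commute_z hq).eq

theorem syl : IsSylIn 2 E (E ⊔ Q3 a) := isSylIn_of_card le_sup_left (k := 5) (m := 243) c.cE (by
  rw [GT.card_sup_of_inf_eq_bot (fun _ he => norm_Q3 (c.ea he)) (eq_bot_iff.2 fun _ h => c.one h.1 h.2), c.cE, c.card]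
  norm_num) (by norm_num)

theorem frat {g : G} (hg : g * a = a * g) : ∃ q ∈ Q3 a, q * g ∈ centralizer {a} ⊓ normalizer (E : Set G) := by
  obtain ⟨k, hk, h⟩ := c.syl.frattini (c.nrm (mem_cen.2 hg))
  obtain ⟨e, he, q, hq, rfl⟩ := (mem_sup_iff_of_le_normalizer fun _ he => norm_Q3 (c.ea he)).1 hk
  rw [mul_assoc, mul_mem_cancel_left (le_normalizer he)] at h
  exact ⟨q, hq, mul_mem (c.QC hq) (mem_cen.2 hg), h⟩

theorem card_H : 1920 ∣ Nat.card (centralizer {a} ⊓ normalizer (E : Set G) : Subgroup G) := by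
  have h1 := GT.card_sup_mul_card_inf_of_le_normalizer (H := centralizer {a} ⊓ normalizer (E : Set G)) (N := Q3 a)
    fun _ hg => norm_Q3 (mem_cen.1 hg.1)
  have h2 : centralizer {a} ⊓ normalizer (E : Set G) ⊔ Q3 a = centralizer {a} :=
    le_antisymm (sup_le inf_le_left c.QC) fun g hg => by
      obtain ⟨q, hq, h⟩ := c.frat (mem_cen.1 hg)
      exact (mul_mem_cancel_left (mem_sup_right hq)).1 (mem_sup_left h)
  rw [h2, ← card_mul_relIndex c.QC, c.idx, c.card, mul_assoc, mul_comm _ 243] at h1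
  exact Dvd.intro _ (Nat.eq_of_mul_eq_mul_left (by norm_num) h1)

theorem no5 {t : G} {P1 P2 : Subgroup G} (y : Ty (Q3 a) a t P1 P2) (ta : t * a = a * t) : ∃ h,
    h ∈ centralizer {a} ⊓ normalizer (E : Set G) ∧ h * h * t * (h * h)⁻¹ * t⁻¹ ∉ Q3 a ⊔ centralizer (Q3 a : Set G) := by
  obtain ⟨g, hg, h1⟩ := c.five
  obtain ⟨q, hq, h⟩ := c.frat hg
  have h2 : q * g * (q * g) * a = a * _ := mem_cen.1 (mul_mem h.1 h.1)
  refine ⟨_, h, fun e => h1 q hq (c.W_le ?_)⟩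
  rw [show 24 = 2 * 12 from rfl, pow_mul, pow_two]
  exact twelve c.es y.sp h2 (norm_Q3 h2) (y.norm c.es (norm_Q3 ta) h2 (norm_Q3 h2) e)

theorem z_not : z ∉ centralizer (Q3 a : Set G) := fun hz => by
  have sq : ∀ e ∈ E, e * e ∈ centralizer (Q3 a : Set G) := fun e he => by
    rcases c.e2.sq e he with h | h <;> rw [h]
    exacts [one_mem _, hz]
  have cm : ∀ e ∈ E, ∀ f ∈ E, e * f * e⁻¹ * f⁻¹ ∈ Q3 a ⊔ centralizer (Q3 a : Set G) := fun e he f hf => by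
    rcases c.e2.comm e he f hf with h | h <;> rw [h]
    exacts [by simp, by simpa [mul_assoc] using mem_sup_right hz]
  have pm : ∀ e ∈ E, Pm (Q3 a) a e := fun e he => by_contra fun hp => by
    obtain ⟨P1, P2, y⟩ := types c.es c.card (sq e he) (c.ea he) (norm_Q3 (c.ea he)) hp
    obtain ⟨h, hh, h1⟩ := c.no5 y (c.ea he)
    have ha := mem_cen.1 hh.1
    have he' := conj_mem_of_mem_norm hh.2 he
    rcases four c.es c.card (sq _ he') (sq e he) (c.ea he') (c.ea he) (norm_Q3 (c.ea he')) (norm_Q3 (c.ea he))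
      (cm e he _ he') with p | p | p
    · have hi : h⁻¹ * a = a * h⁻¹ := (Commute.inv_left ha).eq
      exact hp (by simpa [mul_assoc] using p.cj hi (norm_Q3 hi))
    · exact hp p
    · refine h1 ?_
      convert mul_mem (p.comm c.es (c.ea (mul_mem he' he)) ha (norm_Q3 ha)) (cm _ he' e he) using 1
      group
  have le : E ≤ centralizer {a} ⊓ normalizer (E : Set G) := le_inf c.le le_normalizer
  obtain ⟨T, hT, hE⟩ := exists_isSylIn c.e2.isPGroup le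
  have ta : ∀ x ∈ T, x * a = a * x := fun x hx => mem_cen.1 (hT.le hx).1
  have tE : ∀ x ∈ T, x ∈ E ⊔ Q3 a → x ∈ E := fun x hx h =>
    (c.syl.eq_of_le (hT.isPGroup.to_inf_left (K := E ⊔ Q3 a)) inf_le_right (le_inf hE le_sup_left)).le ⟨hx, h⟩
  have sT : ∀ x ∈ T, x * x ∈ centralizer (Q3 a : Set G) := fun x hx =>
    (sq_mem c.e2 c.cE (D := E ⊓ centralizer (Q3 a : Set G)) inf_le_left ⟨c.e2.z_mem, hz⟩ (fun e he f hf ne nf => by
      have k : ∀ e ∈ E, e ∉ E ⊓ centralizer (Q3 a : Set G) → ∀ q ∈ Q3 a, Iz a e q := fun e he ne =>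
        (pm e he).resolve_left fun h => ne ⟨he, cen_of_four c.es (c.e2.aes.pow_four he) (c.ea he) h⟩
      have m := mul_mem he (inv_mem hf)
      exact ⟨m, cen_of_four c.es (c.e2.aes.pow_four m) (c.ea m) (W_iz c.es (c.ea he) (c.ea hf) (k e he ne) (k f hf nf))⟩)
      (hT.le hx).2 (cj_eq_iff.1 (by rw [cj_inf, cj_eq_iff.2 (hT.le hx).2, cj_eq_iff.2 (norm_cen (norm_Q3 (ta x hx)))]))
      (tE _ (mul_mem hx hx) (c.two x (ta x hx) ((hT.isPGroup ⟨x, hx⟩).imp fun _ e => congrArg Subtype.val e)))).2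
  have np : ∀ x ∈ T, Pm (Q3 a) a x → x ∈ E := fun x hx p => tE x hx (c.cen x (ta x hx) fun g hg =>
    c.W_le (p.comm c.es (ta x hx) hg (norm_Q3 hg)))
  have h1 : 128 ∣ Nat.card T := (Nat.Coprime.pow_left 7 ((Nat.Prime.coprime_iff_not_dvd Nat.prime_two).2
    hT.not_dvd_relIndex)).dvd_of_dvd_mul_right (card_mul_relIndex hT.le ▸ (by norm_num : 2 ^ 7 ∣ 1920).trans c.card_H)
  have h2 : 2 < Nat.card (T ⧸ E.subgroupOf T) := by
    have h3 := card_mul_relIndex hE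
    have := Nat.le_of_dvd Nat.card_pos h1
    rw [c.cE] at h3
    change 2 < E.relIndex T
    omega
  have := Fintype.ofFinite (T ⧸ E.subgroupOf T)
  rw [Nat.card_eq_fintype_card] at h2
  obtain ⟨⟨x⟩, ⟨y⟩, ⟨w⟩, n1, n2, n3⟩ := Fintype.two_lt_card_iff.1 h2
  have hi := mul_mem (inv_mem x.2) y.2
  have hj := mul_mem (inv_mem y.2) w.2
  have k : ∀ i ∈ T, ∀ j ∈ T, j * i * j⁻¹ * i⁻¹ ∈ Q3 a ⊔ centralizer (Q3 a : Set G) := fun i hi j hj => by
    convert mem_sup_right (mul_mem (mul_mem (sT _ (mul_mem hj hi)) (conj_mem_of_mem_norm (norm_cen (norm_Q3 (ta _ (inv_mem hi))))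
      (inv_mem (sT j hj)))) (inv_mem (sT i hi))) using 1
    group
  rcases four c.es c.card (sT _ hi) (sT _ hj) (ta _ hi) (ta _ hj) (norm_Q3 (ta _ hi)) (norm_Q3 (ta _ hj)) (k _ hi _ hj)
    with p | p | p
  · exact n1 (QuotientGroup.eq.2 (np _ hi p))
  · exact n3 (QuotientGroup.eq.2 (np _ hj p))
  · exact n2 (QuotientGroup.eq.2 (by simpa [mul_assoc, mem_subgroupOf] using np _ (mul_mem hi hj) p))

theorem ex : Ex a := ⟨c.es.orderOf_z, c.es.z_mem, c.card, c.es.comm_mem, fun x hx => by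
  obtain ⟨e, he, q, hq, rfl⟩ := (mem_sup_iff_of_le_normalizer fun _ he => norm_Q3 (c.ea he)).1 (c.X_le hx)
  have h1 := cen_of_four c.es (c.e2.aes.pow_four he) (c.ea he)
    ((mul_mem_cancel_right (mem_sup_left hq)).1 (mem_sup_right hx))
  have h2 : e = 1 := by_contra fun n1 => c.z_not (by
    by_cases n2 : e = z
    · exact n2 ▸ h1
    obtain ⟨f, hf, n⟩ := c.e2.exists_not_comm he n1 n2
    have := mul_mem (conj_mem_of_mem_norm (norm_cen (norm_Q3 (c.ea hf))) h1) (inv_mem h1)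
    rwa [c.e2.aes.conj_of_ne hf he (Ne.symm n), mul_inv_cancel_right] at this)
  rw [h2, one_mul] at hx ⊢
  exact c.es.center_eq.le ⟨hq, hx⟩⟩

theorem W_eq : Q3 a ⊔ centralizer (Q3 a : Set G) = Q3 a := sup_eq_left.2 (c.ex.cen.trans c.es.zpowers_le)

theorem zI : ∀ q ∈ Q3 a, Iz a z q := by
  have za := c.ea c.e2.z_mem
  refine Or.resolve_left (by_contra fun hp : ¬ Pm (Q3 a) a z => ?_) fun h => c.e2.z_ne (c.one c.e2.z_mem (c.W_eq ▸ h))
  obtain ⟨P1, P2, y⟩ := types c.es c.card (c.e2.z_sq ▸ one_mem _) za (norm_Q3 za) hp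
  obtain ⟨h, hh, h1⟩ := c.no5 y za
  exact h1 (by rw [c.e2.conj_z_of_norm (mul_mem hh.2 hh.2), mul_inv_cancel]; exact one_mem _)

theorem pm {e : G} (he : e ∈ E) (p : Pm (Q3 a) a e) : e = 1 ∨ e = z :=
  p.imp (fun h => c.one he (c.W_eq ▸ h)) fun h => mul_inv_eq_one.1 (c.one (mul_mem he (inv_mem c.e2.z_mem))
    (c.W_eq ▸ W_iz c.es (c.ea he) (c.ea c.e2.z_mem) h c.zI))

end Cs

/-- The non-central involutions. -/
def II (E : Subgroup G) (z : G) : Set G := {t | t ∈ E ∧ t * t = 1 ∧ t ≠ 1 ∧ t ≠ z}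

namespace Cs

variable {a z t : G} {E : Subgroup G} (c : Cs a E z)
include c

theorem ty (ht : t ∈ II E z) : ∃ P1 P2, Ty (Q3 a) a t P1 P2 :=
  types c.es c.card (ht.2.1 ▸ one_mem _) (c.ea ht.1) (norm_Q3 (c.ea ht.1)) fun p => (c.pm ht.1 p).elim ht.2.2.1 ht.2.2.2

theorem I_cj {g : G} (hg : g ∈ normalizer (E : Set G)) (ht : t ∈ II E z) : g * t * g⁻¹ ∈ II E z :=
  ⟨conj_mem_of_mem_norm hg ht.1, by rw [conj_mul, ht.2.1]; simp, fun e => ht.2.2.1 (conj_eq_one.1 e), fun e =>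
    ht.2.2.2 (by simpa using e.trans (c.e2.conj_z_of_norm hg).symm)⟩

theorem I_z (ht : t ∈ II E z) : z * t ∈ II E z := ⟨mul_mem c.e2.z_mem ht.1, by
  rw [mul_assoc, ← mul_assoc t, ← c.e2.z_comm t ht.1, mul_assoc, ht.2.1, mul_one, c.e2.z_sq],
  fun e => ht.2.2.2 (by rw [← c.e2.z_mul_z_mul t, e, mul_one]), fun e => ht.2.2.1 (by simpa using e)⟩

theorem uniq {s u : G} (ht : t ∈ II E z) (hs : s ∈ II E z) (hu : u ∈ Q3 a) (uz : u ∉ zpowers a) (h1 : Iz a t u)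
    (h2 : Iz a s u) : t = s := by_contra fun n => by
  have m := mul_mem ht.1 hs.1
  have h3 := iz_iz (c.ea ht.1) (c.es.commute_z hu).eq h1 h2
  refine uz (mem_z c.es hu ?_ (c.zI u hu))
  rcases c.e2.sq _ m with e | e
  · have h4 : s * t * s⁻¹ * t⁻¹ = 1 := by
      rw [← inv_eq_one, inv_eq_self_of_sq ht.2.1, inv_eq_self_of_sq hs.2.1, ← e]
      simp [mul_assoc, inv_eq_self_of_sq ht.2.1, inv_eq_self_of_sq hs.2.1]
    rcases four c.es c.card (ht.2.1 ▸ one_mem _) (hs.2.1 ▸ one_mem _) (c.ea ht.1) (c.ea hs.1) (norm_Q3 (c.ea ht.1))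
      (norm_Q3 (c.ea hs.1)) (h4 ▸ one_mem _) with p | p | p
    · exact ((c.pm ht.1 p).elim ht.2.2.1 ht.2.2.2).elim
    · exact ((c.pm hs.1 p).elim hs.2.2.1 hs.2.2.2).elim
    · exact ((c.pm m p).resolve_left fun e => n ((eq_inv_of_mul_eq_one_left e).trans (inv_eq_self_of_sq hs.2.1))) ▸ h3
  · exact e ▸ tr_mul (c.ea m) h3 h3

theorem I_ne : (II E z).Nonempty := by
  have mz : ∀ {y : G}, y ∈ zpowers z ↔ y = 1 ∨ y = z := mem_zpowers_iff_of_sq c.e2.z_sq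
  obtain ⟨x, hx, y, hy, e⟩ := c.e2.exists_comm_eq_z
  have es : ESZ 2 E z := ⟨c.e2.orderOf_z, fun a ha b hb => mz.2 ((c.e2.comm a ha b hb).imp
      commutatorElement_eq_one_iff_mul_comm.2 fun e => by rw [commutatorElement_def, e]; group),
      fun a ha => mz.2 (pow_two a ▸ c.e2.sq a ha), le_antisymm (fun w hw => mz.2 (c.e2.center w hw.1 fun q hq => (hw.2 q hq).symm))
        (zpowers_le.2 ⟨c.e2.z_mem, fun a ha => (c.e2.z_comm a ha).symm⟩)⟩
  have xy : ⁅x, y⁆ = z := by rw [commutatorElement_def, e]; group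
  have h1 := es.card_split hx hy xy
  obtain ⟨u, hu, uz⟩ : ∃ u ∈ E ⊓ centralizer {x} ⊓ centralizer {y}, u ∉ zpowers z := by
    by_contra h
    push Not at h
    have := card_le_of_le (show _ ≤ zpowers z from h)
    rw [es.card_zpowers] at this
    have := c.cE
    omega
  have k : ∀ w ∈ E, w * w = 1 → w ∉ zpowers z → (II E z).Nonempty := fun w hw h1 h2 =>
    ⟨w, hw, h1, fun e => h2 (mz.2 (.inl e)), fun e => h2 (mz.2 (.inr e))⟩
  have n : ∀ w, w * y = y * w → x * w ∉ zpowers z := fun w hw h => es.not_commute_of_eq xy (by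
    simpa using (es.commute_of_mem_zpowers hy h).symm.mul_left (Commute.inv_left hw))
  rcases c.e2.sq u hu.1.1 with e1 | e1
  · exact k u hu.1.1 e1 uz
  rcases c.e2.sq x hx with e2 | e2
  · exact k x hx e2 (by simpa using n 1 (by simp))
  · refine k _ (mul_mem hx hu.1.1) ?_ (n u (mem_cen.1 hu.2))
    rw [mul_assoc, ← mul_assoc u, mem_cen.1 hu.1.2, ← mul_assoc, ← mul_assoc, e2, mul_assoc, e1, c.e2.z_sq]

theorem five_dvd (ht : t ∈ II E z) : 5 ∣ (centralizer {t}).relIndex (centralizer {a} ⊓ normalizer (E : Set G)) := by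
  have h1 := card_mul_relIndex (inf_le_right : centralizer {t} ⊓ (centralizer {a} ⊓ normalizer (E : Set G)) ≤ _)
  rw [inf_relIndex_right] at h1
  refine ((Nat.Prime.dvd_mul Nat.prime_five).1 (h1 ▸ (by norm_num : 5 ∣ 1920).trans c.card_H)).resolve_left fun h => ?_
  have : Fact (Nat.Prime 5) := ⟨Nat.prime_five⟩
  obtain ⟨⟨f, h2, h3⟩, h4⟩ := exists_prime_orderOf_dvd_card' 5 h
  obtain ⟨P1, P2, y⟩ := c.ty ht
  have fa := mem_cen.1 h3.1
  have h5 := c.es.pow_sq_eq_one (c.W_eq ▸ twelve c.es y.sp fa (norm_Q3 fa) (y.norm c.es (norm_Q3 (c.ea ht.1)) fa (norm_Q3 fa)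
    (by rw [mem_cen.1 h2]; simp)))
  rw [← pow_mul, ← orderOf_dvd_iff_pow_eq_one, (orderOf_mk _ _).symm.trans h4] at h5
  norm_num at h5

/-- There are ten involutions, and the subgroups they invert cover `Q`. -/
theorem ten : (II E z).ncard = 10 ∧ ∀ u ∈ Q3 a, u ∉ zpowers a → ∃ t ∈ II E z, Iz a t u := by
  have cd : ∀ P : Subgroup G, zpowers a ≤ P → Nat.card ((P : Set G) \ zpowers a : Set G) + 3 = Nat.card P := fun P h => by
    rw [← c.es.card_zpowers]; exact Set.ncard_sdiff_add_ncard_of_subset h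
  let f : (Σ t : II E z, {u | u ∈ Q3 a ∧ u ∉ zpowers a ∧ Iz a t u}) → ((Q3 a : Set G) \ zpowers a : Set G) :=
    fun x => ⟨x.2, x.2.2.1, x.2.2.2.1⟩
  have inj : Function.Injective f := by
    rintro ⟨⟨t, ht⟩, u, hu⟩ ⟨⟨s, hs⟩, v, hv⟩ e
    obtain rfl : u = v := congrArg Subtype.val e
    obtain rfl := c.uniq ht hs hu.1 hu.2.1 hu.2.2 hv.2.2
    rfl
  have := Fintype.ofFinite (II E z)
  have h1 : Nat.card (Σ t : II E z, {u | u ∈ Q3 a ∧ u ∉ zpowers a ∧ Iz a t u}) = (II E z).ncard * 24 := by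
    rw [Nat.card_sigma, Finset.sum_congr rfl (g := fun _ => 24) fun t _ => ?_, Finset.sum_const, Finset.card_univ,
      ← Nat.card_eq_fintype_card, smul_eq_mul, Nat.card_coe_set_eq]
    obtain ⟨P1, P2, y⟩ := c.ty t.2
    have h2 := cd P1 y.sp.es1.zpowers_le
    rw [y.sp.c1, show ((P1 : Set G) \ zpowers a) = {u | u ∈ Q3 a ∧ u ∉ zpowers a ∧ Iz a t u} from Set.ext fun u =>
      ⟨fun h => ⟨y.sp.le1 h.1, h.2, y.iz u h.1⟩, fun h => ⟨y.sp.mem_iff y.iz y.cen h.1 h.2.2, h.2.1⟩⟩] at h2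
    omega
  have h2 := cd _ c.es.zpowers_le
  have h3 := Nat.card_le_card_of_injective f inj
  have h4 : 2 ∣ (II E z).ncard := by_contra fun n => by
    obtain ⟨t, ht, h⟩ := fix_conj c.e2.isPGroup (fun g hg t => c.I_cj (le_normalizer hg)) n
    exact (c.e2.center t ht.1 fun q hq => (h q hq).symm).elim ht.2.2.1 ht.2.2.2
  have h5 : 5 ∣ (II E z).ncard := by_contra fun n => by
    have : Fact (Nat.Prime 5) := ⟨Nat.prime_five⟩
    obtain ⟨T, hT, -⟩ := exists_isSylIn (p := 5) IsPGroup.of_bot (bot_le (a := centralizer {a} ⊓ normalizer (E : Set G)))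
    obtain ⟨t, ht, h⟩ := fix_conj hT.isPGroup (fun g hg t => c.I_cj (hT.le hg).2) n
    exact hT.not_dvd_relIndex ((c.five_dvd ht).trans (relIndex_dvd_of_le_left _ fun g hg => mem_cen.2 (h g hg)))
  have h6 := (Set.ncard_pos (Set.toFinite _)).2 c.I_ne
  rw [c.card] at h2
  have h7 : (II E z).ncard = 10 := by omega
  refine ⟨h7, fun u hu uz => ?_⟩
  obtain ⟨⟨t, v⟩, e⟩ := (inj.bijective_of_nat_card_le (by omega)).2 ⟨u, hu, uz⟩
  obtain rfl : (v : G) = u := congrArg Subtype.val e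
  exact ⟨t, t.2, v.2.2.2⟩

end Cs

end Cfsg.Agent.T3.LC
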