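import Mathlib
import Cfsg.Agent.T3.LocC2
import Cfsg.Agent.FG.JordanFan1

/-! The centraliser `3^(1+4) . 2^(1+4) . A₅`: decompositions and weak closure. -/

set_option autoImplicit false
set_option linter.unusedSectionVars false

namespace Cfsg.Agent.T3.LC

open Cfsg.Agent.Spor Cfsg.Agent.Rec Cfsg.Agent.Inv.Fz Cfsg.Agent.T16 Cfsg.Agent.GT.PG Cfsg.Agent.T3.LB Subgroup
open scoped commutatorElement

universe u

variable {G : Type u} [Group G] [Finite G]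

theorem s_nine : ∀ m : S3, m ^ 9 = 1 → m ^ 3 = 1 ∧ ((ww * m * ww⁻¹ * m⁻¹) ^ 9 = 1 → m = 1) := by decide +kernel

theorem range_le {T : Subgroup G} (hT : IsPGroup 2 T) (κ : T →* S3) : Nat.card κ.range ≤ 8 := by
  obtain ⟨k, hk⟩ := IsPGroup.iff_card.1 (hT.of_surjective κ.rangeRestrict κ.rangeRestrict_surjective)
  have h1 := card_subgroup_dvd_card κ.range
  rw [card_sl23, hk] at h1
  exact hk ▸ Nat.le_of_dvd (by norm_num) ((Nat.Coprime.pow_left k (by norm_num : Nat.Coprime 2 3)).dvd_of_dvd_mul_right h1)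

theorem fac {Q P1 P2 N T : Subgroup G} {a t : G} (s : Sp2 Q P1 P2 a) (cen : centralizer (Q : Set G) ≤ zpowers a)
    (hT : IsPGroup 2 T) (h64 : 64 ≤ Nat.card T) (h4 : ∀ r ∈ T, r ^ 4 = 1) (TN : T ≤ N) (hc : N ≤ centralizer {a})
    (n1 : N ≤ normalizer (P1 : Set G)) (n2 : N ≤ normalizer (P2 : Set G)) (hP : P1 ≤ N) (t2 : t * t = 1) (t1 : t ≠ 1)
    (tm : t ∈ T ⊓ centralizer (P2 : Set G)) : ∃ x y ψ, Fac a N P1 (T ⊓ centralizer (P2 : Set G)) t x y ψ := by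
  have k : ∀ g ∈ T ⊓ centralizer (P2 : Set G), g ∈ centralizer (P1 : Set G) → g = 1 := fun g hg h =>
    (pow_eq_one_iff_of_coprime (by norm_num)).1 ⟨h4 g hg.1, s.es1.pow_eq_one_of_mem_zpowers (cen fun q hq => by
      obtain ⟨u, hu, v, hv, rfl⟩ := s.dec q hq
      rw [mul_assoc, hg.2 v hv, ← mul_assoc, h u hu, mul_assoc])⟩
  obtain ⟨x, hx, y, hy, xy, tx, ty⟩ := exists_inv_pair s.es1 t2 (mem_cen.1 (hc (TN tm.1))) (n1 (TN tm.1)) fun h => t1 (k t tm h)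
  have p : P27 P1 a x y := ⟨s.es1, s.c1, hx, hy, xy⟩
  obtain ⟨ψ, act, ker⟩ := p.exists_psi hc n1
  have le : T ⊓ centralizer (P2 : Set G) ≤ N := inf_le_left.trans TN
  have hi : ∀ g : N, (g : G) ∈ T ⊓ centralizer (P2 : Set G) → ψ g = 1 → g = 1 := fun g hg h => Subtype.ext
    (k g hg fun u hu => (comm_of_four s.es1 (h4 g hg.1) (mem_cen.1 (hc g.2)) (ker g h u hu)).symm)
  refine ⟨x, y, ψ, p.eq_clos, p.card, p.xy, tx, ty, hP, le, tm, t2, le_antisymm ?_ ?_, hi, act⟩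
  · exact (Nat.card_congr (MonoidHom.ofInjective ((injective_iff_map_eq_one (ψ.comp (inclusion le))).2 fun g hg =>
      inclusion_injective le ((hi _ g.2 hg).trans (map_one _).symm))).toEquiv).trans_le (range_le hT.to_inf_left _)
  obtain ⟨x', hx', y', hy', xy'⟩ := s.es2.exists_pair fun e => by have := s.es2.eq_zpowers_iff_card.1 e; have := s.c2; omega
  obtain ⟨ψ', -, ker'⟩ := P27.exists_psi ⟨s.es2, s.c2, hx', hy', xy'⟩ hc n2
  have h1 := (ψ'.comp (inclusion TN)).ker.card_mul_index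
  have h2 := range_le hT (ψ'.comp (inclusion TN))
  have h3 := Nat.card_le_card_of_injective (fun w : (ψ'.comp (inclusion TN)).ker => (⟨w, w.1.2, fun u hu =>
    (comm_of_four s.es2 (h4 _ w.1.2) (mem_cen.1 (hc (TN w.1.2))) (ker' _ w.2 u hu)).symm⟩ :
      (T ⊓ centralizer (P2 : Set G) : Subgroup G))) fun w w' h => Subtype.ext (Subtype.ext (Subtype.mk.inj h))
  rw [index_ker] at h1
  nlinarith

theorem not9 {y : G} (h9 : ¬ 9 ∣ (Q3 y).relIndex (centralizer {y})) {T : Subgroup G} (hT : T ≤ centralizer {y})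
    (h3 : IsPGroup 3 T) : (∀ u ∈ T, ∀ v ∈ T, u * v * u⁻¹ * v⁻¹ ∈ Q3 y) ∧
      ∀ x ∈ T, x ∉ Q3 y → ∀ w ∈ T, ∃ n : ℤ, w * (x ^ n)⁻¹ ∈ Q3 y := by
  have hn : ((Q3 y).subgroupOf (centralizer {y})).Normal :=
    (normal_subgroupOf_iff_le_normalizer (map_subtype_le _)).2 fun g hg => norm_Q3 (mem_cen.1 hg)
  let π := (QuotientGroup.mk' ((Q3 y).subgroupOf (centralizer {y}))).comp (inclusion hT)
  have k : ∀ w : T, π w = 1 ↔ (w : G) ∈ Q3 y := fun w => QuotientGroup.eq_one_iff _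
  exact ⟨fun u hu v hv => (k (⟨u, hu⟩ * ⟨v, hv⟩ * ⟨u, hu⟩⁻¹ * ⟨v, hv⟩⁻¹)).1 (range_comm h3 π h9 _ _), fun x hx xQ w hw =>
    (range_pow h3 π h9 (x := ⟨x, hx⟩) (fun e => xQ ((k _).1 e)) ⟨w, hw⟩).imp fun n hn => (k _).1 hn⟩

namespace Cs

variable {a z t : G} {E P1 P2 : Subgroup G} (c : Cs a E z)
include c

theorem h9 : ¬ 9 ∣ (Q3 a).relIndex (centralizer {a}) := by rw [c.idx]; norm_num

theorem swap (ht : t ∈ II E z) (y : Ty (Q3 a) a t P1 P2) : Ty (Q3 a) a (z * t) P2 P1 := by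
  have m := (c.I_z ht).1
  refine ⟨y.sp.symm, fun v hv => ?_, fun u hu => comm_of_four c.es (c.e2.aes.pow_four m) (c.ea m)
    (iz_iz (c.ea c.e2.z_mem) (y.sp.es1.commute_z hu).eq (c.zI u (y.sp.le1 hu)) (y.iz u hu))⟩
  rw [Iz, mul_assoc z, y.cen v hv]
  simpa [Iz, mul_assoc] using c.zI v (y.sp.le2 hv)

theorem QN (y : Ty (Q3 a) a t P1 P2) : Q3 a ≤ normalizer (P1 : Set G) :=
  c.es.le_normalizer_of_zpowers_le y.sp.es1.zpowers_le y.sp.le1

theorem norm (ht : t ∈ II E z) (y : Ty (Q3 a) a t P1 P2) {g : G} (hg : g * a = a * g) (h : g * t = t * g) :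
    g ∈ normalizer (P1 : Set G) := y.norm c.es (norm_Q3 (c.ea ht.1)) hg (norm_Q3 hg) (by rw [h]; simp)

theorem fixN (ht : t ∈ II E z) (y : Ty (Q3 a) a t P1 P2) {g u : G} (hg : g * a = a * g) (hu : u ∈ P1)
    (uz : u ∉ zpowers a) (e : g * u = u * g) : g ∈ normalizer (P1 : Set G) := by
  obtain ⟨q, hq, h⟩ := c.frat hg
  have ha := mem_cen.1 h.1
  have h1 : q * g * u * (q * g)⁻¹ ∈ P1 := by
    rw [mul_assoc q, e]; simpa [mul_assoc] using conj_mem_of_mem_norm (c.QN y hq) hu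
  have h2 := c.uniq (c.I_cj h.2 ht) ht (y.sp.le1 h1) (fun e => uz (conj_mem_cj.1 (by
    rwa [cj_zpowers, ha, mul_inv_cancel_right]))) ((iz_conj ha).2 (y.iz u hu)) (y.iz _ h1)
  exact (mul_mem_cancel_left (c.QN y hq)).1 (c.norm ht y ha (mul_inv_eq_iff_eq_mul.1 h2))

theorem dec (ht : t ∈ II E z) (y : Ty (Q3 a) a t P1 P2) :
    ∃ D : Dx a (centralizer {a} ⊓ normalizer (P1 : Set G)), D.P1 = P1 ∧ D.P2 = P2 := by
  have y' := c.swap ht y
  have s := y.sp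
  obtain ⟨T, hT, hE⟩ := exists_isSylIn (c.e2.isPGroup.to_inf_left (K := centralizer {t}))
    (H := centralizer {t} ⊓ (centralizer {a} ⊓ normalizer (E : Set G)))
    (le_inf inf_le_right (inf_le_left.trans (le_inf c.le le_normalizer)))
  have h64 : 64 ≤ Nat.card T := by
    have h1 := card_mul_relIndex (inf_le_right : centralizer {t} ⊓ (centralizer {a} ⊓ normalizer (E : Set G)) ≤ _)
    have h2 := FG.JF.relIndex_centralizer_le (centralizer {a} ⊓ normalizer (E : Set G)) t _ fun g hg => c.I_cj hg.2 ht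
    obtain ⟨k, hk⟩ := c.five_dvd ht
    obtain ⟨m, hm⟩ := c.card_H
    have h3 : (centralizer {t}).relIndex (centralizer {a} ⊓ normalizer (E : Set G)) ≠ 0 := index_ne_zero_of_finite
    rw [inf_relIndex_right, hm] at h1
    rw [c.ten.1] at h2
    refine Nat.le_of_dvd Nat.card_pos ((Nat.Coprime.pow_left 6 ((Nat.Prime.coprime_iff_not_dvd Nat.prime_two).2
      hT.not_dvd_relIndex)).dvd_of_dvd_mul_right ?_)
    rw [card_mul_relIndex hT.le]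
    obtain e | e : k = 1 ∨ k = 2 := by omega
    all_goals rw [hk, e] at h1; omega
  have TN : T ≤ centralizer {a} ⊓ normalizer (P1 : Set G) := fun g hg =>
    ⟨(hT.le hg).2.1, c.norm ht y (mem_cen.1 (hT.le hg).2.1) (mem_cen.1 (hT.le hg).1)⟩
  have h4 : ∀ r ∈ T, r ^ 4 = 1 := fun r hr => by
    obtain ⟨k, hk⟩ := hT.isPGroup ⟨r, hr⟩
    have ra := mem_cen.1 (TN hr).1
    have h1 := c.es.pow_sq_eq_one (c.W_eq ▸ twelve c.es s ra (norm_Q3 ra) (TN hr).2)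
    refine (pow_eq_one_iff_of_coprime (Nat.Coprime.pow_left k (by norm_num : Nat.Coprime 2 27))).1 ⟨?_, ?_⟩
    · rw [← pow_mul, mul_comm, pow_mul, show r ^ 2 ^ k = 1 from congrArg Subtype.val hk, one_pow]
    · rw [← h1, ← pow_mul, ← pow_mul]; norm_num
  have n2 : centralizer {a} ⊓ normalizer (P1 : Set G) ≤ normalizer (P2 : Set G) := fun g hg =>
    s.norm2 (norm_Q3 (mem_cen.1 hg.1)) hg.2
  have hQ : Q3 a ≤ centralizer {a} ⊓ normalizer (P1 : Set G) := le_inf c.QC (c.QN y)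
  have tT : t ∈ T := hE ⟨ht.1, mem_cen.2 rfl⟩
  obtain ⟨x1, y1, ψ1, f1⟩ := fac s c.ex.cen hT.isPGroup h64 h4 TN inf_le_left inf_le_right n2 (s.le1.trans hQ) ht.2.1
    ht.2.2.1 ⟨tT, fun v hv => (y.cen v hv).symm⟩
  obtain ⟨x2, y2, ψ2, f2⟩ := fac s.symm c.ex.cen hT.isPGroup h64 h4 TN inf_le_left n2 inf_le_right (s.le2.trans hQ)
    (c.I_z ht).2.1 (c.I_z ht).2.2.1 ⟨mul_mem (hE ⟨c.e2.z_mem, mem_cen.2 (c.e2.z_comm t ht.1)⟩) tT,
      fun v hv => (y'.cen v hv).symm⟩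
  have rr : ∀ g ∈ T ⊓ centralizer (P2 : Set G), ∀ h ∈ T ⊓ centralizer (P1 : Set G), g * h = h * g := fun g hg h hh => by
    have m1 : g * h * g⁻¹ * h⁻¹ ∈ centralizer (P1 : Set G) :=
      mul_mem (conj_mem_of_mem_norm (norm_cen (TN hg.1).2) hh.2) (inv_mem hh.2)
    have m2 : g * h * g⁻¹ * h⁻¹ ∈ centralizer (P2 : Set G) := by
      simpa [mul_assoc] using mul_mem hg.2 (conj_mem_of_mem_norm (norm_cen (n2 (TN hh.1))) (inv_mem hg.2))
    refine commutatorElement_eq_one_iff_mul_comm.1 ((pow_eq_one_iff_of_coprime (by norm_num)).1 ⟨h4 _ (mul_mem (mul_mem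
      (mul_mem hg.1 hh.1) (inv_mem hg.1)) (inv_mem hh.1)), c.es.pow_eq_one_of_mem_zpowers (c.ex.cen fun q hq => ?_)⟩)
    obtain ⟨u, hu, v, hv, rfl⟩ := s.dec q hq
    rw [commutatorElement_def, mul_assoc u, m2 v hv, ← mul_assoc u, m1 u hu]; group
  refine ⟨⟨⟨P1, P2, _, _, _, _, x1, y1, x2, y2, ψ1, ψ2, inf_le_left, f1, f2, s.sup, ?_, fun g hg hn => ⟨mem_cen.2 hg, hn⟩,
    fun g hg u hu uz e => ⟨mem_cen.2 hg, hu.elim (fun hu => c.fixN ht y hg hu uz e) fun hu =>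
      s.symm.norm2 (norm_Q3 hg) (c.fixN (c.I_z ht) y' hg hu uz e)⟩⟩, c.ex⟩, rfl, rfl⟩
  have : P1 ⊔ T ⊓ centralizer (P2 : Set G) ≤ centralizer ((P2 ⊔ T ⊓ centralizer (P1 : Set G) : Subgroup G) : Set G) :=
    sup_le (le_centralizer_iff.1 (sup_le (fun v hv u hu => s.comm hu hv) inf_le_right)) (le_centralizer_iff.1
      (sup_le (le_centralizer_iff.1 inf_le_right) fun h hh g hg => rr g hg h hh))
  exact fun g hg h hh => (this hg h hh).symm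

/-- No element of order three acts trivially on a factor. -/
theorem ker2 (ht : t ∈ II E z) (y : Ty (Q3 a) a t P1 P2) (D : Dx a (centralizer {a} ⊓ normalizer (P1 : Set G)))
    (e1 : D.P1 = P1) (e2 : D.P2 = P2) {g : (centralizer {a} ⊓ normalizer (P1 : Set G) : Subgroup G)}
    (h1 : D.ψ1 g ^ 3 = 1) (h2 : D.ψ2 g = 1) : (g : G) ∈ Q3 a := by
  obtain ⟨q, hq, hh⟩ := c.frat (D.ca g)
  obtain ⟨ρ, hρ, n⟩ := c.e2.exists_not_comm ht.1 ht.2.2.1 ht.2.2.2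
  have y' := c.swap ht y
  have ρa := c.ea hρ
  have ρi : ρ⁻¹ * a = a * ρ⁻¹ := (Commute.inv_left ρa).eq
  obtain ⟨h, eh⟩ : ∃ h, h = ⟨q, D.QN hq⟩ * g := ⟨_, rfl⟩
  have k1 : D.ψ1 h = D.ψ1 g := by rw [eh, map_mul, D.oneQ hq, one_mul]
  have k2 : D.ψ2 h = 1 := by rw [eh, map_mul, h2, mul_one]; exact D.symm.oneQ hq
  replace hh : (h : G) ∈ normalizer (E : Set G) := eh ▸ hh.2
  have k3 : ∀ u ∈ P1, ρ⁻¹ * (h : G)⁻¹ * ρ * u * (ρ⁻¹ * (h : G)⁻¹ * ρ)⁻¹ * u⁻¹ ∈ zpowers a := fun u hu => by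
    have h3 := D.symm.triv1 (g := h⁻¹) ((map_inv D.ψ2 h).trans (by rw [k2, inv_one])) (e2.ge (y'.sp.mem_iff y'.iz y'.cen
      (conj_mem_of_mem_norm (norm_Q3 ρa) (y.sp.le1 hu)) (c.e2.aes.conj_of_ne hρ ht.1 (Ne.symm n) ▸ (iz_conj ρa).2 (y.iz u hu))))
    rw [← conj_z ρi h3] at h3
    convert h3 using 1
    push_cast
    group
  let w : (centralizer {a} ⊓ normalizer (P1 : Set G) : Subgroup G) := ⟨ρ⁻¹ * (h : G)⁻¹ * ρ, mem_inf.2
    ⟨mul_mem (mul_mem (inv_mem (c.le hρ)) (inv_mem (D.le h.2))) (c.le hρ), mem_normalizer_of_conj_mem fun u hu =>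
      (mul_mem_cancel_right (inv_mem hu)).1 (y.sp.es1.zpowers_le (k3 u hu))⟩⟩
  have k4 : D.ψ1 w = 1 := D.one1 fun u hu => k3 u (e1.le hu)
  have k5 : ((h * w : _) : G) ∈ E := by
    simpa [w, mul_assoc] using mul_mem (conj_mem_of_mem_norm hh (inv_mem hρ)) hρ
  have k6 : ((h ^ 3 : _) : G) ∈ Q3 a := D.ker (by rw [map_pow, k1, h1]) (by rw [map_pow, k2, one_pow])
  have k7 : D.ψ2 (w ^ 3) = 1 := D.symm.oneQ (by
    convert conj_mem_of_mem_norm (norm_Q3 ρi) (inv_mem k6) using 1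
    simp only [w, pow_three]
    push_cast
    group)
  have k8 := c.one (pow_mem k5 3) (D.ker (g := (h * w) ^ 3) (by rw [map_pow, map_mul, k4, mul_one, k1, h1])
    (by rw [map_pow, map_mul, k2, one_mul, ← map_pow, k7]))
  have k9 : h * w = 1 := Subtype.ext ((pow_eq_one_iff_of_coprime (by norm_num)).1 ⟨k8, c.e2.aes.pow_four k5⟩)
  exact D.ker (by simpa [k4, k1] using congrArg D.ψ1 k9) h2

theorem wc : Wc a := fun y hy hz => by_contra fun yz => by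
  obtain ⟨t, ht, h⟩ := c.ten.2 y hy yz
  obtain ⟨P1, P2, s⟩ := c.ty ht
  obtain ⟨D, e1, e2⟩ := c.dec ht s
  have y1 : y ∈ D.P1 := e1.ge (s.sp.mem_iff s.iz s.cen hy h)
  obtain ⟨ey, h9⟩ : Ex y ∧ ¬ 9 ∣ (Q3 y).relIndex (centralizer {y}) := by
    rcases hz with hz | hz <;> obtain ⟨g, rfl⟩ := isConj_iff.1 hz
    · exact ⟨ex_cj c.ex g, by rw [Q3_cj, ← cj_centralizer_singleton, relIndex_cj]; exact c.h9⟩
    · exact ⟨ex_cj (ex_inv c.ex) g, by rw [Q3_cj, ← cj_centralizer_singleton, relIndex_cj, Q3_inv, cent_inv]; exact c.h9⟩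
  have le : Q3 y ⊓ centralizer {a} ≤ Q3 a ⊓ centralizer {y} := fun b hb => ⟨by
    obtain ⟨r, hr, er⟩ := D.symm.surj1 ww_rel.1
    let b' : (centralizer {a} ⊓ normalizer (P1 : Set G) : Subgroup G) :=
      ⟨b, D.fix b (mem_cen.1 hb.2) y (.inl y1) yz (ey.comm_a hb.1)⟩
    have k : ∀ g : (centralizer {a} ⊓ normalizer (P1 : Set G) : Subgroup G), (g : G) ∈ Q3 y → g ^ 9 = 1 := fun g hg =>
      Subtype.ext (ey.esz.pow_sq_eq_one hg)
    have h1 := k (r * b' * r⁻¹ * b'⁻¹) (mul_mem (conj_mem_of_mem_norm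
      (norm_Q3 (D.comm y (mem_sup_left y1) r (mem_sup_right hr)).symm) hb.1) (inv_mem hb.1))
    refine c.ker2 ht s D e1 e2 (g := b') (s_nine _ (by rw [← map_pow, k b' hb.1, map_one])).1
      ((s_nine _ (by rw [← map_pow, k b' hb.1, map_one])).2 ?_)
    simpa [show D.ψ2 r = ww from er] using congrArg D.ψ2 h1, mem_cen.2 (ey.comm_a hb.1)⟩
  have m : ∀ x ∈ D.P2, x ∈ Q3 a ⊓ centralizer {y} := fun x hx => ⟨D.sp.le2 hx, mem_cen.2 (D.c12 y y1 x hx).symm⟩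
  have ay : a ∉ zpowers y := fun e => yz (zp_eq ey.ord e c.es.z_ne_one ▸ mem_zpowers y)
  have h1 := (not9 h9 inf_le_right (c.es.isPGroup.to_inf_left (K := centralizer {y}))).1 _ (m _ D.p2.hx) _ (m _ D.p2.hy)
  rw [D.fac2.xy] at h1
  have h2 := card_mul_relIndex (inf_le_left : Q3 y ⊓ centralizer {a} ≤ _)
  have h3 := card_mul_relIndex (inf_le_left : Q3 a ⊓ centralizer {y} ≤ _)
  rw [inf_relIndex_left, ey.esz.relIndex_centralizer h1 ay, ey.card] at h2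
  rw [inf_relIndex_left, c.es.relIndex_centralizer hy yz, c.card] at h3
  have h4 := eq_of_le_of_card_ge le (by omega)
  exact ay (D.fac2.xy ▸ ey.comm _ (h4.ge (m _ D.p2.hx)).1 _ (h4.ge (m _ D.p2.hy)).1)

theorem hd {x : G} (hx : x * a = a * x) (x3 : x ^ 3 = 1) : ∃ (N : Subgroup G) (_ : Dec a N), x ∈ N := by
  obtain ⟨q, hq, h⟩ := c.frat hx
  have n := norm_Q3 hx
  have h1 : (q * x) ^ 3 ∈ Q3 a := by
    convert mul_mem (mul_mem hq (conj_mem_of_mem_norm n hq)) (conj_mem_of_mem_norm (mul_mem n n) hq) using 1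
    rw [← mul_one (_ * _ * _), ← x3, pow_three, pow_three]; group
  have h2 : IsPGroup 3 (zpowers (q * x)) := .of_card_dvd_pow (n := 3) (by
    rw [Nat.card_zpowers, orderOf_dvd_iff_pow_eq_one, pow_succ' 3 2, pow_mul]; exact c.es.pow_sq_eq_one h1)
  obtain ⟨t, ht, e⟩ := fix_conj h2 (fun g hg t => c.I_cj (zpowers_le.2 h.2 hg)) (by rw [c.ten.1]; norm_num)
  obtain ⟨P1, P2, y⟩ := c.ty ht
  obtain ⟨D, -⟩ := c.dec ht y
  exact ⟨_, D.toDec, mem_cen.2 hx, (mul_mem_cancel_left (c.QN y hq)).1 (c.norm ht y (mem_cen.1 h.1) (e _ (mem_zpowers _)))⟩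

theorem not_tt {r u : G} (r2 : r * r = 1) (r1 : r ≠ 1) (ra : r * a = a * r) (hu : u ∈ Q3 a) (uz : u ∉ zpowers a)
    (e : r * u = u * r) : ¬ IsThreeTranspositionSet (conjugatesOf r) := fun h => by
  have k : ∀ g g' : G, (g * r * g⁻¹ * (g' * r * g'⁻¹)) ^ 2 = 1 ∨ (g * r * g⁻¹ * (g' * r * g'⁻¹)) ^ 3 = 1 := fun g g' =>
    h.2 _ (isConj_iff.2 ⟨g, rfl⟩) _ (isConj_iff.2 ⟨g', rfl⟩)
  by_cases h1 : r ∈ E ⊔ Q3 a
  · obtain ⟨g, hg, h2⟩ := exists_conj_mem_syl c.syl h1 (k := 1) (by rw [pow_one, pow_two, r2])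
    have ga := mem_cen.1 (sup_le c.le c.QC hg)
    have ht : g * r * g⁻¹ ∈ II E z := ⟨h2, by rw [conj_mul, r2]; simp, fun e => r1 (conj_eq_one.1 e), fun e' =>
      uz (mem_z c.es hu (by simp [e]) ((iz_conj ga).1 (e' ▸ c.zI _ (conj_mem_of_mem_norm (norm_Q3 ga) hu))))⟩
    obtain ⟨P1, P2, y⟩ := c.ty ht
    obtain ⟨f, hf, n⟩ := c.no5 y (c.ea h2)
    have h3 := k (f * g) g
    rw [show f * g * r * (f * g)⁻¹ = f * (g * r * g⁻¹) * f⁻¹ by group] at h3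
    generalize g * r * g⁻¹ = t at *
    have hs := c.I_cj hf.2 ht
    have m := mul_mem hs.1 h2
    have h4 : f * t * f⁻¹ * t = 1 ∨ f * t * f⁻¹ * t = z := by
      refine h3.elim (fun h3 => ?_) fun h3 => .inl ((pow_eq_one_iff_of_coprime (by norm_num)).1 ⟨h3, c.e2.aes.pow_four m⟩)
      have h4 : t * (f * t * f⁻¹) * t⁻¹ * (f * t * f⁻¹)⁻¹ = 1 := by
        rw [← inv_eq_one, inv_eq_self_of_sq ht.2.1, inv_eq_self_of_sq hs.2.1, ← h3, pow_two]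
        simp [mul_assoc, inv_eq_self_of_sq ht.2.1]
      rcases four c.es c.card (hs.2.1 ▸ one_mem _) (ht.2.1 ▸ one_mem _) (c.ea hs.1) (c.ea ht.1) (norm_Q3 (c.ea hs.1))
        (norm_Q3 (c.ea ht.1)) (h4 ▸ one_mem _) with p | p | p
      exacts [((c.pm hs.1 p).elim hs.2.2.1 hs.2.2.2).elim, ((c.pm ht.1 p).elim ht.2.2.1 ht.2.2.2).elim, c.pm m p]
    refine n ?_
    rw [show f * f * t * (f * f)⁻¹ * t⁻¹ = f * (f * t * f⁻¹ * t) * f⁻¹ * (f * t⁻¹ * f⁻¹ * t⁻¹) by group,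
      inv_eq_self_of_sq ht.2.1]
    rcases h4 with e | e <;> rw [e]
    exacts [by simp, by rw [c.e2.conj_z_of_norm hf.2, c.e2.z_sq]; exact one_mem _]
  · obtain ⟨g, h2, h3⟩ := c.inv r ra r2 h1
    simpa [h2, h3] using k 1 g

end Cs

end Cfsg.Agent.T3.LC
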