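import Mathlib
import Cfsg.Agent.T3.LocA
import Cfsg.Agent.T3.LocB
import Cfsg.Agent.T3.Co
import Cfsg.Agent.T3.LocC3

/-! The 3-local analysis for the second Conway group. -/

set_option autoImplicit false

namespace Cfsg.Agent.T3

open Cfsg.Agent.Spor Cfsg.Agent.Rec Cfsg.Agent.Inv.Fz Cfsg.Agent.T16 Cfsg.Agent.GT.PG Subgroup

universe u v

variable {G : Type u} [Group G] [Finite G]

namespace LC

theorem a5_facts : (∃ σ : alternatingGroup (Fin 5), σ ^ 24 ≠ 1) ∧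
    (∀ σ : alternatingGroup (Fin 5), (∀ τ, τ * σ * τ⁻¹ * σ⁻¹ = 1) → σ = 1) ∧ (∀ σ : alternatingGroup (Fin 5), (σ * σ) ^ 15 = 1) ∧
    ∀ σ : alternatingGroup (Fin 5), σ * σ = 1 → σ ≠ 1 → ∃ τ, (σ * (τ * σ * τ⁻¹)) ^ 2 ≠ 1 ∧ (σ * (τ * σ * τ⁻¹)) ^ 3 ≠ 1 := by
  refine ⟨?_, ?_, ?_, ?_⟩ <;> decide +kernel

theorem exists_cs (S : Sylow 3 G) (Z : Subgroup G) (hZ : Z = (S : Subgroup G) ⊓ centralizer ((S : Subgroup G) : Set G))
    (C : Subgroup G) (hCZ : C = centralizer (Z : Set G))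
    (hQ : IsExtraspecial 3 (pCore 3 C)) (hQcard : Nat.card (pCore 3 C) = 3 ^ 5)
    (hR : IsExtraspecial 2 (pCore 2 (C ⧸ pCore 3 C))) (hRcard : Nat.card (pCore 2 (C ⧸ pCore 3 C)) = 2 ^ 5)
    (e : (C ⧸ pCore 3 C) ⧸ pCore 2 (C ⧸ pCore 3 C) ≃* alternatingGroup (Fin 5)) :
    ∃ a E z, Z = zpowers a ∧ (S : Subgroup G) ≤ centralizer {a} ∧ Cs a E z := by
  obtain ⟨a, es, -⟩ := exists_esz (hQ.of_mulEquiv (equivMapOfInjective _ _ C.subtype_injective))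
  have SC : (S : Subgroup G) ≤ C := hCZ ▸ fun s hs z hz => ((hZ.le hz).2 s hs).symm
  have syl := isSylIn_sylow S SC
  have QS : pCoreOf 3 C ≤ S := by
    obtain ⟨g, hg, h⟩ := syl.exists_cj_le (GT.isPGroup_pCoreOf 3 C) (map_subtype_le _)
    rwa [cj_eq_iff.2 (GT.le_normalizer_pCoreOf _ hg)] at h
  have Za : Z ≤ zpowers a := es.center_eq ▸ le_inf (GT.le_pCoreOf (hZ.le.trans (inf_le_left.trans SC))
    (hCZ ▸ centralizer_le_normalizer _) (hZ ▸ S.isPGroup'.to_inf_left)) (hZ.le.trans (inf_le_right.trans (centralizer_le QS)))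
  have hz : Z = zpowers a := by
    have : Nontrivial S := ⟨⟨⟨a, QS es.z_mem⟩, 1, fun h => es.z_ne_one (congrArg Subtype.val h)⟩⟩
    have := S.isPGroup'.center_nontrivial
    obtain ⟨⟨x, hx⟩, x1⟩ := exists_ne (1 : center S)
    have h1 : (x : G) ∈ Z := hZ.ge ⟨x.2, fun s hs => congrArg Subtype.val (mem_center_iff.1 hx ⟨s, hs⟩)⟩
    exact le_antisymm Za (es.zpowers_eq_of_mem (Za h1) (fun h => x1 (Subtype.ext (Subtype.ext h))) ▸ zpowers_le.2 h1)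
  obtain rfl : C = centralizer {a} := by rw [hCZ, hz, zpowers_eq_closure, centralizer_closure]
  change ESZ 3 (Q3 a) a at es
  let π := QuotientGroup.mk' (pCore 3 (centralizer ({a} : Set G)))
  let θ := e.toMonoidHom.comp ((QuotientGroup.mk' _).comp π)
  have sj : Function.Surjective θ := e.surjective.comp ((QuotientGroup.mk'_surjective _).comp (QuotientGroup.mk'_surjective _))
  have kθ : ∀ g, θ g = 1 ↔ π g ∈ pCore 2 _ := fun g => (map_eq_one_iff _ e.injective).trans (QuotientGroup.eq_one_iff _)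
  have kπ : ∀ g, π g = 1 ↔ (g : G) ∈ Q3 a := fun g =>
    (QuotientGroup.eq_one_iff _).trans (mem_map_iff_mem (subtype_injective _)).symm
  have Qθ : ∀ g : centralizer ({a} : Set G), (g : G) ∈ Q3 a → θ g = 1 := fun g hg => (kθ g).2 ((kπ g).2 hg ▸ one_mem _)
  have cQ : Nat.card (Q3 a) = 243 := (card_map_of_injective (subtype_injective _)).trans hQcard
  let π0 : θ.ker →* pCore 2 (centralizer ({a} : Set G) ⧸ pCore 3 _) := (π.comp θ.ker.subtype).codRestrict _ fun x => (kθ _).1 x.2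
  obtain ⟨σ, hσ⟩ := exists_sect π0 (fun n => by
    obtain ⟨x, hx⟩ := QuotientGroup.mk'_surjective _ n.1
    exact ⟨⟨x, (kθ x).2 (hx ▸ n.2)⟩, Subtype.ext hx⟩) (by
    rw [show π0.ker = (pCore 3 _).subgroupOf θ.ker from Subgroup.ext fun x => Subtype.ext_iff.trans (QuotientGroup.eq_one_iff _),
      Nat.card_congr (subgroupOfEquivOfLe fun x hx => Qθ x (mem_map_of_mem _ hx)).toEquiv, hQcard, hRcard]; norm_num)
  let ι := (centralizer ({a} : Set G)).subtype.comp (θ.ker.subtype.comp σ)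
  have inj : Function.Injective ι := fun w w' h => by rw [← hσ w, ← hσ w', show σ w = σ w' from Subtype.ext (Subtype.ext h)]
  obtain ⟨z, e2⟩ := exists_ES2 (hR.of_mulEquiv (MonoidHom.ofInjective inj))
  have ker : ∀ g, θ g = 1 ↔ (g : G) ∈ ι.range ⊔ Q3 a := fun g => ⟨fun h => by
    have h1 := (kπ _).1 (congrArg Subtype.val (show π0 (⟨g, h⟩ * (σ (π0 ⟨g, h⟩))⁻¹) = 1 by
      rw [map_mul, map_inv, hσ, mul_inv_cancel]))
    exact (mul_mem_cancel_right (inv_mem (mem_sup_left (MonoidHom.mem_range.2 ⟨π0 ⟨g, h⟩, rfl⟩)))).1 (mem_sup_right h1), fun h =>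
    (mem_map_iff_mem (subtype_injective _)).1 ((sup_le (by rintro _ ⟨w, rfl⟩; exact ⟨_, (σ w).2, rfl⟩) fun q hq =>
      ⟨⟨q, map_subtype_le _ hq⟩, Qθ _ hq, rfl⟩ : _ ≤ θ.ker.map (centralizer ({a} : Set G)).subtype) h)⟩
  have le : ι.range ⊔ Q3 a ≤ centralizer {a} := sup_le (by rintro _ ⟨w, rfl⟩; exact (σ w).1.2) (map_subtype_le _)
  have idx : (Q3 a).relIndex (centralizer {a}) = 1920 := by
    rw [relIndex, Q3, pCoreOf, subgroupOf, comap_map_eq_self_of_injective (subtype_injective _), index,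
      card_eq_card_quotient_mul_card_subgroup (pCore 2 _), hRcard, Nat.card_congr e.toEquiv, card_A5]; norm_num
  refine ⟨a, ι.range, z, hz, SC, es, cQ, e2, (Nat.card_congr (MonoidHom.ofInjective inj).toEquiv).symm.trans hRcard,
    le_sup_left.trans le, fun g hg => mem_normalizer_of_conj_mem fun x hx => (ker (⟨g, hg⟩ * ⟨x, le hx⟩ * ⟨g, hg⟩⁻¹)).1
      (by rw [map_mul, map_mul, (ker ⟨x, le hx⟩).2 hx, mul_one, map_inv, mul_inv_cancel]), idx, ?_, fun x hx h => (ker ⟨x, mem_cen.2 hx⟩).1 (a5_facts.2.1 _ fun τ => ?_),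
    fun x hx ⟨k, hk⟩ => (ker (⟨x, mem_cen.2 hx⟩ * ⟨x, mem_cen.2 hx⟩)).1 ?_, fun r ra r2 h => ?_, ?_⟩
  · obtain ⟨τ, h⟩ := a5_facts.1
    obtain ⟨g, rfl⟩ := sj τ
    exact ⟨g, mem_cen.1 g.2, fun q hq h1 => h (by
      rw [← (ker ((⟨q, map_subtype_le _ hq⟩ * g) ^ 24)).2 h1, map_pow, map_mul, Qθ ⟨q, _⟩ hq, one_mul])⟩
  · obtain ⟨g, rfl⟩ := sj τ
    simpa using (ker (g * ⟨x, mem_cen.2 hx⟩ * g⁻¹ * ⟨x, mem_cen.2 hx⟩⁻¹)).2 (h g (mem_cen.1 g.2))
  · refine (pow_eq_one_iff_of_coprime (Nat.Coprime.pow_left k (by norm_num : Nat.Coprime 2 15))).1 ⟨?_, ?_⟩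
    · rw [← map_pow, ← pow_two, ← pow_mul, mul_comm, pow_mul, show (⟨x, mem_cen.2 hx⟩ : centralizer {a}) ^ 2 ^ k = 1 from
        Subtype.ext hk, one_pow, map_one]
    · rw [map_mul]; exact a5_facts.2.2.1 _
  · obtain ⟨τ, h1, h2⟩ := a5_facts.2.2.2 (θ ⟨r, mem_cen.2 ra⟩) (by
      rw [← map_mul]; exact (congrArg θ (Subtype.ext r2)).trans (map_one θ)) fun e => h ((ker _).1 e)
    obtain ⟨g, rfl⟩ := sj τ
    rw [← map_inv, ← map_mul, ← map_mul, ← map_mul, ← map_pow] at h1 h2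
    exact ⟨g, fun e => h1 ((congrArg θ (Subtype.ext e)).trans (map_one θ)),
      fun e => h2 ((congrArg θ (Subtype.ext e)).trans (map_one θ))⟩
  have XC : centralizer (Q3 a : Set G) ≤ centralizer {a} := centralizer_le (Set.singleton_subset_iff.2 es.z_mem)
  have nX : centralizer {a} ≤ normalizer (centralizer (Q3 a : Set G) : Set G) := fun g hg => norm_cen (norm_Q3 (mem_cen.1 hg))
  have nr : (θ.comp (inclusion XC)).range.Normal := ⟨by
    rintro _ ⟨x, rfl⟩ τ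
    obtain ⟨g, rfl⟩ := sj τ
    exact ⟨⟨_, conj_mem_of_mem_norm (nX g.2) x.2⟩, 
      (map_mul θ (g * inclusion XC x) g⁻¹).trans (by rw [map_mul, map_inv]; rfl)⟩⟩
  rcases nr.eq_bot_or_eq_top with h | h
  · exact fun x hx => (ker ⟨x, XC hx⟩).1 (h.le ⟨⟨x, hx⟩, rfl⟩)
  refine absurd (Dvd.dvd.trans ?_ (index_dvd_of_le (K := (θ.comp (inclusion XC)).ker) fun x hx => Qθ _ ?_))
    (syl.inf_of_le_normalizer XC nX).not_dvd_relIndex
  · rw [index_ker, h, card_top, card_A5]; norm_num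
  refine by_contra fun n => n (es.zpowers_le (Za (hZ.ge ⟨hx.1, fun s hs => ?_⟩)))
  obtain ⟨k, h1⟩ := (not9 (by rw [idx]; norm_num) SC S.isPGroup').2 x hx.1 n s hs
  simpa using (show Commute _ (x : G) from x.2 _ h1).mul_left ((Commute.refl (x : G)).zpow_left k) |>.eq

end LC

/-- The local analysis for S3336. -/
theorem co2_loc (S : Sylow 3 G) (Z : Subgroup G) (hZ : Z = (S : Subgroup G) ⊓ centralizer ((S : Subgroup G) : Set G))
    (C : Subgroup G) (hCZ : C = centralizer (Z : Set G))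
    (hQ : IsExtraspecial 3 (pCore 3 C)) (hQcard : Nat.card (pCore 3 C) = 3 ^ 5)
    (hR : IsExtraspecial 2 (pCore 2 (C ⧸ pCore 3 C))) (hRcard : Nat.card (pCore 2 (C ⧸ pCore 3 C)) = 2 ^ 5)
    (e : (C ⧸ pCore 3 C) ⧸ pCore 2 (C ⧸ pCore 3 C) ≃* alternatingGroup (Fin 5)) (hnwc : ¬ IsWeaklyClosed Z S) :
    ∃ s : U6 G, s.d = 1 ∧ ¬ IsThreeTranspositionSet (conjugatesOf s.r) := by
  obtain ⟨a, E, z, rfl, SC, c⟩ := LC.exists_cs S Z hZ C hCZ hQ hQcard hR hRcard e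
  obtain ⟨s, rfl, hd, -⟩ := u6_of_dec c.ex c.wc (by_contra fun hn => hnwc ⟨hZ.le.trans inf_le_left, fun g hg => by
    rw [cj_def] at hg ⊢
    refine cj_eq_of_le ?_
    rw [cj_zpowers] at hg ⊢
    exact zpowers_le.2 (by_contra fun h => hn ⟨_, mem_cen.1 (SC (hg (mem_zpowers _))), LB.ze_cj (LB.ze_refl a) g, h⟩)⟩)
    False fun x hx x3 _ => let ⟨N, D, h⟩ := c.hd hx x3; ⟨N, D, h, False.elim, .inr c.h9⟩
  have hu : s.u2 ∈ s.f2.R := mem_clos (by simp)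
  refine ⟨s, hd c.h9, c.not_tt s.f1.t2 s.es_R1.1.z_ne (s.S1_R1 _ (by rw [U6.a, ← s.a_eq]; exact mem_clos (by simp)) _ s.es_R1.1.z_mem).symm
    (s.Q_eq.le (mem_sup_right hu)) (fun h => ?_) (s.S1_R1 _ hu _ s.es_R1.1.z_mem).symm⟩
  obtain ⟨i, h⟩ := exists_val s.ex.ord h
  have h1 : s.j (0, 0, 0, 1) = s.j (i, 0, 0, 0) := s.j_basis.2.2.2.trans (h.trans (by simp [U6.j]))
  simpa using s.j_inj h1

end Cfsg.Agent.T3
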