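import Mathlib
import Cfsg.Agent.T3.Defs
import Cfsg.Agent.T16.SpTop

/-!
Involutions of `Sp₆(2)`: every involution outside the class `a₂` inverts a product of two transvections.
-/

set_option autoImplicit false
set_option linter.unusedSectionVars false
set_option maxRecDepth 100000
set_option synthInstance.maxSize 100000
set_option synthInstance.maxHeartbeats 1000000

namespace Cfsg.Agent.T3

open Cfsg.Agent.Spor Cfsg.Agent.Rec Cfsg.Agent.Inv.Fz Cfsg.Agent.T16 Subgroup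

universe u v

variable {G : Type u} [Group G] [Finite G]

/-- `Sp₆(2)`. -/
abbrev Sp62 : Type := Matrix.symplecticGroup (Fin 3) (ZMod 2)

/-- `i` inverts an element of order three that commutes with an element of order five. -/
def Al {X : Type*} [Group X] (i : X) : Prop :=
  ∃ y f : X, orderOf y = 3 ∧ orderOf f = 5 ∧ y * f = f * y ∧ i * y * i⁻¹ = y⁻¹

namespace SpF

variable (s : Sp6.St G)

theorem sq_D {d : G} (hd : d ∈ s.D) : d * d = 1 := by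
  obtain ⟨k, -, rfl⟩ := hd
  exact conj_sq s.facts.1

/-- The product of two non-commuting transvections commutes with an element of order five. -/
theorem five {d e : G} (hd : d ∈ s.D) (he : e ∈ s.D) (hn : e * d ≠ d * e) :
    ∃ f ∈ s.M, orderOf f = 5 ∧ d * e * f = f * (d * e) := by
  have k0 : orderOf (s.d3 * s.x3 * s.q2 * s.x1) = 5 ∧
      s.d2 * s.x2 * (s.d3 * s.x3 * s.q2 * s.x1) = s.d3 * s.x3 * s.q2 * s.x1 * (s.d2 * s.x2) :=
    s.hL.decide s.rep (by decide +kernel)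
  have k1 : ∀ y ∈ s.D, y * s.d2 ≠ s.d2 * y → ∃ a ∈ s.D, a * s.d2 = s.d2 * a ∧ ∃ b ∈ s.D, b * s.d2 = s.d2 * b ∧
      a * b * s.x2 * (a * b)⁻¹ = y := s.hL.decide s.rep (by decide +kernel)
  obtain ⟨m, hm, e1⟩ := hd
  obtain ⟨n, hn', e2⟩ := s.facts.2.2.2.2.2.2.2.2.2.2.2.1
  have hg : n * m⁻¹ ∈ s.M := mul_mem hn' (inv_mem hm)
  have e3 : n * m⁻¹ * d * (n * m⁻¹)⁻¹ = s.d2 := by rw [← e1, ← e2]; group
  obtain ⟨a, ha, a1, b, hb, b1, e4⟩ := k1 _ (conj_mem_cls hg he) fun h => hn (by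
    rw [← e3, conj_mul, conj_mul] at h
    simpa using h)
  have e5 : a * b * s.d2 * (a * b)⁻¹ = s.d2 := by
    rw [mul_assoc a, b1, ← mul_assoc, a1]; group
  have e6 : d * e = (n * m⁻¹)⁻¹ * (a * b) * (s.d2 * s.x2) * ((n * m⁻¹)⁻¹ * (a * b))⁻¹ := by
    calc _ = (n * m⁻¹)⁻¹ * (n * m⁻¹ * d * (n * m⁻¹)⁻¹ * (n * m⁻¹ * e * (n * m⁻¹)⁻¹)) * (n * m⁻¹) := by group
      _ = _ := by rw [e3, ← e4]; nth_rw 1 [← e5]; group
  have hw := mul_mem (inv_mem hg) (mul_mem (s.D_le ha) (s.D_le hb))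
  generalize (n * m⁻¹)⁻¹ * (a * b) = w at e6 hw
  refine ⟨w * (s.d3 * s.x3 * s.q2 * s.x1) * w⁻¹, mul_mem (mul_mem hw (mul_mem (mul_mem (mul_mem s.d3M
    (mem_clos (by simp))) s.q2M) (mem_clos (by simp)))) (inv_mem hw),
    ((MulAut.conj w).orderOf_eq _).trans k0.1, ?_⟩
  rw [e6, conj_mul, conj_mul, k0.2]

theorem cases {x : G} (hx : x ∈ s.M) (h2 : x * x = 1) (h1 : x ≠ 1) : x ∈ s.Dt ∨
    ∃ y ∈ s.M, ∃ f ∈ s.M, orderOf y = 3 ∧ orderOf f = 5 ∧ y * f = f * y ∧ x * y * x⁻¹ = y⁻¹ := by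
  obtain ⟨m, hm, h⟩ := exists_conj_mem_syl s.sylR hx (k := 1) (by rw [pow_one, sq, h2])
  have k1 : ∀ x ∈ s.R, x * x = 1 → x ≠ 1 → x ∈ s.Dt ∨ ∃ d ∈ s.D, orderOf (d * (x * d * x⁻¹)) = 3 :=
    s.hL.decide s.rep (by decide +kernel)
  rcases k1 _ h (conj_sq h2) (fun e => h1 (conj_eq_one.1 e)) with k | ⟨d, hd, k⟩
  · left
    have := conj_mem_cls (inv_mem hm) k
    rwa [show m⁻¹ * (m * x * m⁻¹) * m⁻¹⁻¹ = x by group] at this
  right
  have hd' : m⁻¹ * d * m⁻¹⁻¹ ∈ s.D := conj_mem_cls (inv_mem hm) hd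
  have k' : orderOf (m⁻¹ * d * m⁻¹⁻¹ * (x * (m⁻¹ * d * m⁻¹⁻¹) * x⁻¹)) = 3 := by
    rw [← k, ← (MulAut.conj m).orderOf_eq, MulAut.conj_apply]
    congr 1
    group
  generalize m⁻¹ * d * m⁻¹⁻¹ = c at hd' k'
  have he : x * c * x⁻¹ ∈ s.D := conj_mem_cls hx hd'
  have i1 := inv_eq_of_mul_eq_one_right (sq_D s hd')
  have i2 := inv_eq_of_mul_eq_one_right (sq_D s he)
  obtain ⟨f, hf, of, ef⟩ := five s hd' he fun e => by
    have e1 : (c * (x * c * x⁻¹)) ^ 2 = 1 := by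
      rw [sq, mul_assoc, ← mul_assoc _ c, e, mul_assoc c, sq_D s he, mul_one, sq_D s hd']
    have := orderOf_dvd_of_pow_eq_one e1
    rw [k'] at this
    omega
  refine ⟨_, mul_mem (s.D_le hd') (s.D_le he), f, hf, k', of, ef, ?_⟩
  rw [mul_inv_rev, i1, i2]
  calc _ = x * c * x⁻¹ * (x * x) * c * (x * x)⁻¹ := by group
    _ = _ := by rw [h2]; group

theorem exists_not_mem {F : Subgroup G} (l : List G) (h : l.length < Nat.card F) : ∃ x ∈ F, x ∉ l := by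
  classical
  by_contra! e
  have h1 : (F : Set G) ⊆ (l.toFinset : Set G) := fun x hx => by simpa using e x hx
  have := (Set.ncard_le_ncard h1).trans_eq (Set.ncard_coe_finset _)
  rw [← SetLike.coe_sort_coe, Nat.card_coe_set_eq] at h
  exact absurd (this.trans (List.toFinset_card_le l)) (by omega)

theorem pure {F : Subgroup G} (h2 : ∀ f ∈ F, f * f = 1) (h : ∀ f ∈ F, f ≠ 1 → f ∈ s.Dt) : Nat.card F ≤ 8 := by
  by_contra! hc
  obtain ⟨z, hz, z1⟩ := exists_not_mem (F := F) [1] (by simp; omega)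
  simp only [List.mem_cons, List.not_mem_nil, or_false] at z1
  obtain ⟨m, hm, rfl⟩ := h z hz z1
  have k1 : Let (s.d1 * s.d2 * s.r) fun z => ∀ j ∈ s.Dt, j * z ∈ s.Dt → ∀ k ∈ s.Dt, k * z ∈ s.Dt → k * j ∈ s.Dt →
      k * (j * z) ∈ s.Dt → ∀ l ∈ s.Dt, l * z ∈ s.Dt → l * j ∈ s.Dt →
      l = j * z ∨ l = k ∨ l = k * z ∨ l = k * j ∨ l = k * (j * z) := s.hL.decide s.rep (by decide +kernel)
  set z := s.d1 * s.d2 * s.r
  have c1 : Nat.card (F.map (MulAut.conj m⁻¹).toMonoidHom) = Nat.card F := card_map_of_injective (MulEquiv.injective _)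
  have c2 : z ∈ F.map (MulAut.conj m⁻¹).toMonoidHom := ⟨_, hz, by simp [mul_assoc]⟩
  have c3 : ∀ f ∈ F.map (MulAut.conj m⁻¹).toMonoidHom, f * f = 1 := by
    rintro _ ⟨f, hf, rfl⟩
    rw [← map_mul, h2 f hf, map_one]
  have c4 : ∀ f ∈ F.map (MulAut.conj m⁻¹).toMonoidHom, f ≠ 1 → f ∈ s.Dt := by
    rintro _ ⟨f, hf, rfl⟩ e
    exact conj_mem_cls (inv_mem hm) (h f hf fun e' => e (by rw [e', map_one]))
  generalize F.map (MulAut.conj m⁻¹).toMonoidHom = K at c1 c2 c3 c4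
  have c5 : ∀ a ∈ K, ∀ b ∈ K, a ≠ b → a * b ∈ s.Dt := fun a ha b hb e => c4 _ (mul_mem ha hb) fun e' =>
    e (mul_right_cancel (e'.trans (c3 b hb).symm))
  obtain ⟨j, hj, j1⟩ := exists_not_mem (F := K) [1, z] (by simp; omega)
  obtain ⟨k, hk, j2⟩ := exists_not_mem (F := K) [1, z, j, j * z] (by simp; omega)
  obtain ⟨l, hl, j3⟩ := exists_not_mem (F := K) [1, z, j, j * z, k, k * z, k * j, k * (j * z)] (by simp; omega)
  simp only [List.mem_cons, List.not_mem_nil, or_false, not_or] at j1 j2 j3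
  have := k1 j (c4 j hj j1.1) (c5 j hj z c2 j1.2) k (c4 k hk j2.1) (c5 k hk z c2 j2.2.1) (c5 k hk j hj j2.2.2.1)
    (c5 k hk _ (mul_mem hj c2) j2.2.2.2) l (c4 l hl j3.1) (c5 l hl z c2 j3.2.1) (c5 l hl j hj j3.2.2.1)
  tauto

theorem exists_hom : ∃ ψ : Sp62 →* Sp6.G0, Function.Injective ψ ∧ ψ.range = Sp6.s0.M := by
  obtain ⟨φ⟩ := Sp6.s0.equiv
  refine ⟨Sp6.s0.M.subtype.comp φ.symm.toMonoidHom, Sp6.s0.M.subtype_injective.comp φ.symm.injective, ?_⟩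
  rw [MonoidHom.range_comp, MonoidHom.range_eq_top.2 φ.symm.surjective, ← MonoidHom.range_eq_map, range_subtype]

theorem mem_Dt {ψ : Sp62 →* Sp6.G0} (h1 : Function.Injective ψ) (h2 : ψ.range = Sp6.s0.M) {i : Sp62} (hi : i * i = 1)
    (i1 : i ≠ 1) (h : ¬ Al i) : ψ i ∈ Sp6.s0.Dt := by
  refine (cases Sp6.s0 (h2.le ⟨i, rfl⟩) (by rw [← map_mul, hi, map_one]) fun e => i1 (h1 (e.trans ψ.map_one.symm))).resolve_right ?_
  rintro ⟨y, hy, f, hf, a1, a2, a3, a4⟩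
  obtain ⟨y, rfl⟩ := h2.ge hy
  obtain ⟨f, rfl⟩ := h2.ge hf
  exact h ⟨y, f, (orderOf_injective ψ h1 y).symm.trans a1, (orderOf_injective ψ h1 f).symm.trans a2,
    h1 (by simpa only [map_mul] using a3), h1 (by simpa only [map_mul, map_inv] using a4)⟩

end SpF

theorem sp_three {i : Sp62} (h : i * i = 1) : ∃ y : Sp62, orderOf y = 3 ∧ y * i = i * y := by
  obtain ⟨ψ, h1, h2⟩ := SpF.exists_hom
  obtain ⟨y, hy, a1, a2⟩ := Sp6.s0.exists_three (h2.le ⟨i, rfl⟩) (by rw [← map_mul, h, map_one])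
  obtain ⟨y, rfl⟩ := h2.ge hy
  exact ⟨y, (orderOf_injective ψ h1 y).symm.trans a1, h1 (by simpa only [map_mul] using a2)⟩

theorem sp_a2 {i j : Sp62} (hi : i * i = 1) (hj : j * j = 1) (i1 : i ≠ 1) (j1 : j ≠ 1) (h1 : ¬ Al i) (h2 : ¬ Al j) :
    IsConj i j := by
  obtain ⟨ψ, k1, k2⟩ := SpF.exists_hom
  obtain ⟨m, hm, e1⟩ := SpF.mem_Dt k1 k2 hi i1 h1
  obtain ⟨n, hn, e2⟩ := SpF.mem_Dt k1 k2 hj j1 h2
  obtain ⟨g, hg⟩ := k2.ge (mul_mem hn (inv_mem hm))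
  refine isConj_iff.2 ⟨g, k1 ?_⟩
  rw [map_mul, map_mul, map_inv, hg, ← e1, ← e2]
  group

theorem sp_pure {F : Subgroup Sp62} (h2 : ∀ f ∈ F, f * f = 1) (h : ∀ f ∈ F, f ≠ 1 → ¬ Al f) : Nat.card F ≤ 8 := by
  obtain ⟨ψ, k1, k2⟩ := SpF.exists_hom
  rw [← card_map_of_injective (f := ψ) k1]
  refine SpF.pure Sp6.s0 ?_ ?_
  · rintro _ ⟨f, hf, rfl⟩
    rw [← map_mul, h2 f hf, map_one]
  · rintro _ ⟨f, hf, rfl⟩ e
    have f1 : f ≠ 1 := fun e' => e (by rw [e', map_one])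
    exact SpF.mem_Dt k1 k2 (h2 f hf) f1 (h f hf f1)

end Cfsg.Agent.T3
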